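import Cfsg.Agent.Lib.J3.ModelLocal.Main

/-!
Odd subgroups of the third Janko group, and the odd subgroup attached to a subgroup containing the
centraliser of an involution and controlling its fusion.
-/

set_option autoImplicit false
set_option linter.style.haveILetI false
set_option linter.unusedSectionVars false

namespace Cfsg.Agent.J3Uniq.Odd

open Subgroup Cfsg.Spor Cfsg.Agent.Lib.J3.ModelLocal

set_option maxHeartbeats 1600000 in
/-- An odd subgroup of the third Janko group has order at most `3^5 * 5 * 19`. -/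
theorem odd_le {F : Type*} [Field F] [Fintype F] {ω : F} (hF : Fintype.card F = 4)
    (h : Cfsg.Agent.Lib.J3.Fld F ω) (H : Subgroup (Cfsg.Spor.J3 F ω)) (ho : Odd (Nat.card H)) :
    Nat.card H ≤ 23085 := by
  haveI : Fact (Nat.Prime 17) := ⟨by norm_num⟩
  haveI : Fact (Nat.Prime 19) := ⟨by norm_num⟩
  have hd : Nat.card H ∣ 392445 := by
    have h1 : Nat.card H ∣ 2 ^ 7 * 392445 := by
      rw [show 2 ^ 7 * 392445 = 50232960 by norm_num, ← h.card_J3]
      exact card_subgroup_dvd_card H
    exact (Nat.Coprime.pow_right 7 (Nat.coprime_two_right.2 ho)).dvd_of_dvd_mul_left h1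
  by_cases h17 : 17 ∣ Nat.card H
  swap
  · refine Nat.le_of_dvd (by norm_num) ?_
    exact ((Nat.Prime.coprime_iff_not_dvd (by norm_num)).2 h17).symm.dvd_of_dvd_mul_left
      (show Nat.card H ∣ 17 * 23085 by norm_num; exact hd)
  obtain ⟨k, hk⟩ := h17
  have hk23 : k ∣ 23085 := by
    rw [hk, show 392445 = 17 * 23085 by norm_num] at hd
    exact Nat.dvd_of_mul_dvd_mul_left (by norm_num) hd
  have hk17 : ¬ 17 ∣ k := fun e => absurd (e.trans hk23) (by norm_num)
  obtain ⟨P⟩ : Nonempty (Sylow 17 H) := inferInstance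
  have hP : Nat.card (P : Subgroup H) = 17 := by
    rw [P.card_eq_multiplicity, hk, Nat.factorization_mul (by norm_num) (by rintro rfl; simp at hk17),
      Finsupp.add_apply, Nat.Prime.factorization_self (by norm_num),
      Nat.factorization_eq_zero_of_not_dvd hk17, add_zero, pow_one]
  obtain ⟨x, hx, hPx⟩ := sylow_gen P hP
  have hxJ : orderOf (x : J3 F ω) = 17 := by rw [Subgroup.orderOf_coe, hx]
  have hN : normalizer ((P : Subgroup H) : Set H) = (P : Subgroup H) := by
    refine (eq_of_le_of_card_ge le_normalizer ?_).symm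
    have hodd : ¬ 2 ∣ Nat.card (normalizer ((P : Subgroup H) : Set H)) := fun e =>
      (Nat.not_even_iff_odd.2 ho) (even_iff_two_dvd.2 (e.trans (card_subgroup_dvd_card _)))
    have h136 : Nat.card (normalizer ((P : Subgroup H) : Set H)) ∣ 17 * 8 := by
      rw [show 17 * 8 = 136 by norm_num, ← (cent_seventeen hF h hxJ).2]
      refine Subgroup.card_dvd_of_injective
        ((H.subtype.comp (normalizer ((P : Subgroup H) : Set H)).subtype).codRestrict _ ?_) ?_
      · intro g
        have hg := g.2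
        rw [mem_normalizer_iff] at hg ⊢
        have hsub : zpowers (x : J3 F ω) = (P : Subgroup H).map H.subtype := by
          rw [hPx, MonoidHom.map_zpowers]; rfl
        intro z
        rw [hsub]
        constructor
        · rintro ⟨w, hw, rfl⟩
          exact ⟨(g : H) * w * (g : H)⁻¹, (hg w).1 hw, by simp⟩
        · rintro ⟨w, hw, e⟩
          refine ⟨(g : H)⁻¹ * w * (g : H), ?_, ?_⟩
          · refine (hg _).2 ?_
            rw [show ((g : H) * ((g : H)⁻¹ * w * (g : H)) * (g : H)⁻¹) = w by group]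
            exact hw
          · simp only [map_mul, map_inv]
            rw [e]
            simp [mul_assoc]
      · exact fun a b e => Subtype.ext (Subtype.ext (congrArg (fun z => (z.1)) e))
    have h17' := ((Nat.Prime.coprime_iff_not_dvd Nat.prime_two).2 hodd).symm
    rw [hP]
    exact Nat.le_of_dvd (by norm_num)
      ((Nat.Coprime.pow_right 3 h17').dvd_of_dvd_mul_right (show _ ∣ 17 * 2 ^ 3 by simpa using h136))
  have hle : normalizer ((P : Subgroup H) : Set H) ≤ centralizer ((P : Subgroup H) : Set H) := by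
    rw [hN]
    haveI : IsCyclic (P : Subgroup H) := isCyclic_of_prime_card hP
    intro y hy
    exact mem_centralizer_iff.2 fun z hz =>
      congrArg Subtype.val (IsMulCommutative.is_comm.comm (⟨z, hz⟩ : (P : Subgroup H)) ⟨y, hy⟩)
  obtain ⟨K, hKn, hK⟩ : ∃ K : Subgroup H, K.Normal ∧ IsComplement' K (P : Subgroup H) :=
    ⟨_, inferInstance, MonoidHom.ker_transferSylow_isComplement' P hle⟩
  have hKc : Nat.card K = k := by
    have h1 := hK.card_mul_card
    rw [hP, hk] at h1
    omega
  let act : MulAction (P : Subgroup H) K :=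
    { smul := fun g m => ⟨(g : H) * m * (g : H)⁻¹, hKn.conj_mem m m.2 g⟩
      one_smul := fun m => Subtype.ext (show ((1 : (P : Subgroup H)) : H) * m * ((1 : (P : Subgroup H)) : H)⁻¹ = m by simp)
      mul_smul := fun a b m => Subtype.ext (show ((a * b : (P : Subgroup H)) : H) * m * ((a * b : (P : Subgroup H)) : H)⁻¹ =
        (a : H) * ((b : H) * m * (b : H)⁻¹) * (a : H)⁻¹ by push_cast; group) }
  have hfix : MulAction.fixedPoints (P : Subgroup H) K = {1} := by
    ext m
    constructor
    · intro hm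
      have hxP : x ∈ (P : Subgroup H) := hPx ▸ mem_zpowers x
      have e : x * (m : H) * x⁻¹ = m := congrArg Subtype.val (hm ⟨x, hxP⟩)
      have hmc : ((m : H) : J3 F ω) ∈ centralizer ({(x : J3 F ω)} : Set (J3 F ω)) :=
        mem_centralizer_singleton_iff.2 (congrArg Subtype.val (mul_inv_eq_iff_eq_mul.1 e).symm)
      have h1 := Subgroup.orderOf_dvd_natCard _ hmc
      rw [(cent_seventeen hF h hxJ).1, Subgroup.orderOf_coe] at h1
      have h2 : orderOf (m : H) ∣ Nat.card K := Subgroup.orderOf_dvd_natCard K m.2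
      rw [hKc] at h2
      have h3 := Nat.dvd_gcd h1 h2
      rw [((Nat.Prime.coprime_iff_not_dvd (by norm_num)).2 hk17 : Nat.gcd 17 k = 1)] at h3
      exact Subtype.ext (orderOf_eq_one_iff.1 (Nat.dvd_one.1 h3))
    · rintro rfl g
      exact Subtype.ext (show (g : H) * ((1 : K) : H) * (g : H)⁻¹ = ((1 : K) : H) by simp)
  have hmod := (IsPGroup.of_card (n := 1) (by rw [hP, pow_one]) :
    IsPGroup 17 (P : Subgroup H)).card_modEq_card_fixedPoints (α := K)
  rw [hfix, Nat.card_eq_fintype_card (α := ({1} : Set K)), Set.card_singleton, hKc] at hmod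
  replace hmod : k % 17 = 1 := hmod
  have key : ∀ j ∈ Nat.divisors 23085, j % 17 = 1 → j = 1 ∨ j = 171 := by decide +kernel
  rcases key k (Nat.mem_divisors.2 ⟨hk23, by norm_num⟩) hmod with e | e
  · omega
  -- an element of order seventeen would centralise one of order nineteen
  exfalso
  obtain ⟨S⟩ : Nonempty (Sylow 19 K) := inferInstance
  set T := (S : Subgroup K).map K.subtype with hT
  have hTc : Nat.card T = 19 := by
    rw [hT, Nat.card_congr ((S : Subgroup K).equivMapOfInjective K.subtype K.subtype_injective).symm.toEquiv,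
      S.card_eq_multiplicity, hKc, e, show (171 : ℕ) = 19 * 9 by norm_num,
      Nat.factorization_mul (by norm_num) (by norm_num), Finsupp.add_apply,
      Nat.Prime.factorization_self (by norm_num),
      Nat.factorization_eq_zero_of_not_dvd (by norm_num : ¬ 19 ∣ 9), add_zero, pow_one]
  set N := normalizer ((T : Subgroup H) : Set H)
  have hsup : N ⊔ K = ⊤ := Sylow.normalizer_sup_eq_top S
  have hsurj : Function.Surjective ((QuotientGroup.mk' K).comp N.subtype) := by
    intro y
    obtain ⟨g, rfl⟩ := QuotientGroup.mk'_surjective K y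
    obtain ⟨n, hn, q, hq, rfl⟩ : ∃ n ∈ N, ∃ q ∈ K, n * q = g :=
      Subgroup.mem_sup_of_normal_right.1 (by rw [hsup]; exact mem_top g)
    exact ⟨⟨n, hn⟩, by simpa [QuotientGroup.eq] using hq⟩
  have h1 : 17 ∣ Nat.card N := by
    refine dvd_trans ?_ (card_dvd_of_surjective _ hsurj)
    have h2 := Subgroup.card_eq_card_quotient_mul_card_subgroup K
    rw [hKc, hk] at h2
    exact ⟨1, by
      have : 0 < k := by omega
      exact (Nat.eq_of_mul_eq_mul_right this (by omega)).trans (mul_one 17).symm⟩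
  obtain ⟨⟨y, hyN⟩, hy⟩ := exists_prime_orderOf_dvd_card' (G := N) 17 h1
  rw [orderOf_mk] at hy
  haveI : IsCyclic T := isCyclic_of_prime_card hTc
  set φ := T.normalizerMonoidHom
  have hd18 : orderOf (φ ⟨y, hyN⟩) ∣ 18 := by
    have := orderOf_dvd_natCard (φ ⟨y, hyN⟩)
    rwa [IsCyclic.card_mulAut, hTc, Nat.totient_prime (by norm_num)] at this
  have hd17 : orderOf (φ ⟨y, hyN⟩) ∣ 17 := by
    rw [← hy]
    exact (orderOf_map_dvd φ _).trans (orderOf_mk y hyN).dvd
  have hker : (⟨y, hyN⟩ : N) ∈ φ.ker := by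
    rw [MonoidHom.mem_ker, ← orderOf_eq_one_iff]
    exact Nat.eq_one_of_dvd_coprimes (show Nat.Coprime 18 17 by norm_num) hd18 hd17
  rw [normalizerMonoidHom_ker, mem_subgroupOf] at hker
  obtain ⟨⟨z, hzT⟩, hz⟩ := exists_prime_orderOf_dvd_card' (G := T) 19 (dvd_of_eq hTc.symm)
  rw [orderOf_mk] at hz
  have hyz : (y : J3 F ω) ∈ centralizer ({(z : J3 F ω)} : Set (J3 F ω)) :=
    mem_centralizer_singleton_iff.2 (congrArg Subtype.val (mem_centralizer_iff.1 hker z hzT).symm)
  have h17z := Subgroup.orderOf_dvd_natCard _ hyz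
  rw [card_cent_nineteen hF h (by rw [Subgroup.orderOf_coe, hz]), Subgroup.orderOf_coe, hy] at h17z
  norm_num at h17z

variable {G : Type*} [Group G] [Finite G]

/-- The involutions of a subgroup containing the centraliser of one of them and controlling their
fusion. -/
theorem card_involutions (t : G) (ht : orderOf t = 2) (K : Subgroup G) (htK : t ∈ K)
    (hK : ∀ u ∈ K, orderOf u = 2 → ∃ m ∈ K, m * t * m⁻¹ = u) :
    Nat.card {u : G // u ∈ K ∧ orderOf u = 2} = (centralizer ({t} : Set G)).relIndex K := by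
  set C := (centralizer ({t} : Set G)).subgroupOf K with hC
  have hmk : ∀ m : K, (m : G) * t * (m : G)⁻¹ ∈ K ∧ orderOf ((m : G) * t * (m : G)⁻¹) = 2 := fun m =>
    ⟨mul_mem (mul_mem m.2 htK) (inv_mem m.2), by
      rw [← MulAut.conj_apply, MulEquiv.orderOf_eq, ht]⟩
  have hiff : ∀ a b : K, (a⁻¹ * b ∈ C) ↔ (a : G) * t * (a : G)⁻¹ = (b : G) * t * (b : G)⁻¹ := by
    intro a b
    rw [hC, mem_subgroupOf, mem_centralizer_singleton_iff]
    push_cast
    constructor
    · intro e
      calc (a : G) * t * (a : G)⁻¹ = (a : G) * (t * ((a : G)⁻¹ * b)) * (b : G)⁻¹ := by group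
        _ = (a : G) * ((a : G)⁻¹ * b * t) * (b : G)⁻¹ := by rw [e]
        _ = _ := by group
    · intro e
      calc (a : G)⁻¹ * b * t = (a : G)⁻¹ * ((b : G) * t * (b : G)⁻¹) * b := by group
        _ = (a : G)⁻¹ * ((a : G) * t * (a : G)⁻¹) * b := by rw [e]
        _ = _ := by group
  show _ = C.index
  rw [Subgroup.index]
  symm
  refine Nat.card_eq_of_bijective
    (fun q => Quotient.liftOn' q (fun m => (⟨_, hmk m⟩ : {u : G // u ∈ K ∧ orderOf u = 2}))
      fun a b e => Subtype.ext ((hiff a b).1 (QuotientGroup.leftRel_apply.1 e))) ⟨?_, ?_⟩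
  · intro p q e
    induction p using Quotient.inductionOn'
    induction q using Quotient.inductionOn'
    exact Quotient.sound' (QuotientGroup.leftRel_apply.2 ((hiff _ _).2 (congrArg Subtype.val e)))
  · rintro ⟨u, huK, hu⟩
    obtain ⟨m, hm, e⟩ := hK u huK hu
    exact ⟨Quotient.mk'' ⟨m, hm⟩, Subtype.ext e⟩

/-- A subgroup containing the centraliser of an involution and controlling its fusion has an odd
subgroup of index at most the order of that centraliser. -/
theorem exists_odd (M : Subgroup G) (hM : M ≠ ⊤) (t : G) (htM : t ∈ M) (ht : orderOf t = 2)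
    (hC : Subgroup.centralizer ({t} : Set G) ≤ M)
    (hone : ∀ x y : G, orderOf x = 2 → orderOf y = 2 → IsConj x y)
    (honeM : ∀ u ∈ M, orderOf u = 2 → ∃ m ∈ M, m * t * m⁻¹ = u) :
    ∃ H : Subgroup G, H ≤ M ∧ Odd (Nat.card H) ∧
      Nat.card M ≤ Nat.card H * Nat.card (Subgroup.centralizer ({t} : Set G)) := by
  classical
  haveI := Fintype.ofFinite G
  obtain ⟨r, hr⟩ : ∃ r, r = (centralizer ({t} : Set G)).relIndex M := ⟨_, rfl⟩
  have hin : Nat.card {u : G // u ∈ M ∧ orderOf u = 2} = r := hr ▸ card_involutions t ht M htM honeM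
  have hall : Nat.card {u : G // orderOf u = 2} = r * M.index := by
    rw [hr, relIndex_mul_index hC, ← relIndex_top_right,
      ← card_involutions t ht ⊤ (mem_top t) (fun u _ hu => by
        obtain ⟨c, hc⟩ := isConj_iff.1 (hone t u ht hu)
        exact ⟨c, mem_top c, hc⟩)]
    exact Nat.card_congr (Equiv.subtypeEquivRight fun u => by simp)
  let α := {u : G // u ∉ M ∧ orderOf u = 2}
  let β := {c : G ⧸ M // c ≠ ((1 : G) : G ⧸ M)}
  let f : α → β := fun u => ⟨(u.1 : G ⧸ M), fun e => u.2.1 (by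
    have := QuotientGroup.eq.1 e.symm
    simpa using this)⟩
  have hα : Nat.card α + r = r * M.index := by
    rw [← hall, ← hin, add_comm]
    simp only [α, Nat.card_eq_fintype_card, Fintype.card_subtype]
    rw [← Finset.card_union_of_disjoint (Finset.disjoint_filter.2 fun u _ a b => b.1 a.1)]
    exact congrArg Finset.card (by
      ext u
      simp only [Finset.mem_union, Finset.mem_filter, Finset.mem_univ, true_and]
      tauto)
  have hβ : Nat.card β + 1 = M.index := by
    rw [Subgroup.index]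
    simp only [β, Nat.card_eq_fintype_card, Fintype.card_subtype]
    rw [Finset.filter_ne', Finset.card_erase_of_mem (Finset.mem_univ _), Finset.card_univ]
    have : 0 < Fintype.card (G ⧸ M) := Fintype.card_pos
    omega
  haveI : Nonempty β := by
    obtain ⟨g, -, hg⟩ := SetLike.exists_of_lt (lt_top_iff_ne_top.2 hM)
    exact ⟨⟨(g : G ⧸ M), fun e => hg (by simpa using QuotientGroup.eq.1 e.symm)⟩⟩
  have hb : Fintype.card β • r ≤ Fintype.card α := by
    rw [smul_eq_mul, ← Nat.card_eq_fintype_card, ← Nat.card_eq_fintype_card]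
    rw [← hβ, Nat.mul_add, mul_one] at hα
    rw [mul_comm]
    omega
  obtain ⟨y, hy⟩ := Fintype.exists_le_card_fiber_of_nsmul_le_card f hb
  rcases Nat.eq_zero_or_pos r with h0 | h0
  · exact absurd (hr ▸ h0) (haveI := Subgroup.isFiniteRelIndex_of_finiteIndex (H := centralizer ({t} : Set G)) (K := M); Subgroup.relIndex_ne_zero)
  obtain ⟨u₀, hu₀⟩ := Finset.card_pos.1 (h0.trans_le hy)
  rw [Finset.mem_filter] at hu₀
  set H := M ⊓ M.map (MulAut.conj u₀.1).toMonoidHom with hH
  have hsq : u₀.1⁻¹ = u₀.1 := by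
    have := pow_orderOf_eq_one u₀.1
    rw [u₀.2.2, pow_two] at this
    exact inv_eq_of_mul_eq_one_right this
  refine ⟨H, inf_le_left, ?_, ?_⟩
  · rw [← Nat.not_even_iff_odd, even_iff_two_dvd]
    intro h2
    haveI : Fact (Nat.Prime 2) := ⟨Nat.prime_two⟩
    obtain ⟨⟨w, hw⟩, hwo⟩ := exists_prime_orderOf_dvd_card' (G := H) 2 h2
    rw [orderOf_mk] at hwo
    obtain ⟨hwM, v, hvM, hv⟩ := hw
    have hvo : orderOf v = 2 := by
      rw [← hwo, ← hv]
      exact (MulEquiv.orderOf_eq (MulAut.conj u₀.1) v).symm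
    obtain ⟨m, hm, em⟩ := honeM v hvM hvo
    obtain ⟨m', hm', em'⟩ := honeM w hwM hwo
    have hc : m'⁻¹ * u₀.1 * m ∈ centralizer ({t} : Set G) := by
      rw [mem_centralizer_singleton_iff]
      have e : u₀.1 * (m * t * m⁻¹) * u₀.1⁻¹ = m' * t * m'⁻¹ := by
        rw [em, em']; exact hv
      calc m'⁻¹ * u₀.1 * m * t = m'⁻¹ * (u₀.1 * (m * t * m⁻¹) * u₀.1⁻¹) * (u₀.1 * m) := by group
        _ = m'⁻¹ * (m' * t * m'⁻¹) * (u₀.1 * m) := by rw [e]
        _ = t * (m'⁻¹ * u₀.1 * m) := by group
    have := mul_mem (mul_mem hm' (hC hc)) (inv_mem hm)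
    exact u₀.2.1 (by simpa [mul_assoc] using this)
  · have hle : r ≤ Nat.card H := by
      refine hy.trans ?_
      rw [Nat.card_eq_fintype_card, ← Fintype.card_coe]
      have hmem : ∀ v : α, f v = y → u₀.1⁻¹ * v.1 ∈ H := by
        intro v hv
        have e : ((u₀.1 : G) : G ⧸ M) = (v.1 : G ⧸ M) := congrArg Subtype.val (hu₀.2.trans hv.symm)
        have hm := QuotientGroup.eq.1 e
        refine ⟨hm, (u₀.1⁻¹ * v.1)⁻¹, inv_mem hm, ?_⟩
        have hvs : v.1⁻¹ = v.1 := by
          have := pow_orderOf_eq_one v.1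
          rw [v.2.2, pow_two] at this
          exact inv_eq_of_mul_eq_one_right this
        show u₀.1 * (u₀.1⁻¹ * v.1)⁻¹ * u₀.1⁻¹ = u₀.1⁻¹ * v.1
        rw [mul_inv_rev, inv_inv, hvs, hsq]
        calc u₀.1 * (v.1 * u₀.1) * u₀.1 = u₀.1 * v.1 * (u₀.1 * u₀.1) := by group
          _ = u₀.1 * v.1 := by
            rw [show u₀.1 * u₀.1 = 1 by nth_rw 1 [← hsq]; exact inv_mul_cancel _, mul_one]
      refine Fintype.card_le_of_injective
        (fun v => (⟨u₀.1⁻¹ * v.1.1, hmem v.1 (Finset.mem_filter.1 v.2).2⟩ : H)) fun a b e => ?_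
      exact Subtype.ext (Subtype.ext (mul_left_cancel (congrArg Subtype.val e)))
    calc Nat.card M = r * Nat.card (centralizer ({t} : Set G)) := by
          rw [hr, mul_comm]
          have := (centralizer ({t} : Set G)).subgroupOf M |>.card_mul_index
          rw [Nat.card_congr (subgroupOfEquivOfLe hC).toEquiv] at this
          exact this.symm
      _ ≤ _ := Nat.mul_le_mul_right _ hle

end Cfsg.Agent.J3Uniq.Odd
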