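import Mathlib
import Cfsg.Prelude.Def_Transfer
import Cfsg.Prelude.Def_TwoFusion
import Cfsg.Agent.Lib.J2Uniq.Hyps
import Cfsg.Agent.Lib.JankoTwo.Order
import Cfsg.Agent.Lib.JankoTwo.Second

/-!
A simple group with an involution centralizer `2^{1+4}.A₅`: the extraspecial subgroup contains its
centralizer, is of minus type, and two classes of involutions force the order of the second Janko group.
-/

set_option autoImplicit false
set_option linter.all false

namespace Cfsg.Agent.J3Uniq.Reduce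

open Subgroup

universe v

/-- In an extraspecial group of order 32 no subgroup of index at most two is abelian. -/
theorem exists_noncomm {Q : Type*} [Group Q] [Finite Q] (hQ : Cfsg.IsExtraspecial 2 Q) (hcard : Nat.card Q = 32)
    {z : Q} (hzC : z ∈ center Q) (hz1 : z ≠ 1) (H : Subgroup Q) (hH : ∀ a b, a ∉ H → b ∉ H → a⁻¹ * b ∈ H) :
    ∃ a ∈ H, ∃ b ∈ H, a * b ≠ b * a := by
  classical
  haveI := Fintype.ofFinite Q
  obtain ⟨hall, hzz, hcomm, -⟩ := InvChar.Extraspecial.facts hQ hzC hz1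
  by_contra hab
  push Not at hab
  by_cases htop : ∀ q, q ∈ H
  · have : center Q = ⊤ := eq_top_iff.2 fun x _ => mem_center_iff.2 fun y => hab y (htop y) x (htop x)
    have h2 := hQ.2
    rw [this, card_top, hcard] at h2
    omega
  push Not at htop
  obtain ⟨q, hq⟩ := htop
  have hcen : ∀ h ∈ H, q * h = h * q → h = 1 ∨ h = z := by
    intro h hh e
    refine hall h (mem_center_iff.2 fun y => ?_)
    by_cases hy : y ∈ H
    · exact hab y hy h hh
    · calc y * h = q * ((q⁻¹ * y) * h) := by group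
        _ = (q * h) * (q⁻¹ * y) := by rw [hab _ (hH q y hq hy) h hh, mul_assoc]
        _ = h * y := by rw [e]; group
  obtain ⟨F, hFc, hF⟩ : ∃ F : Finset Q, F.card ≤ 4 ∧ ∀ h ∈ H, h ∈ F := by
    by_cases hh0 : ∃ h ∈ H, q * h ≠ h * q
    · obtain ⟨h0, hh0, hne⟩ := hh0
      refine ⟨{1, z, h0, h0 * z}, Finset.card_le_four, fun h hh => ?_⟩
      by_cases e : q * h = h * q
      · rcases hcen h hh e with rfl | rfl <;> simp
      · have e1 : q * (h0⁻¹ * h) = h0⁻¹ * h * q := by
          have a1 := (hcomm q h0).resolve_left hne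
          have a2 := (hcomm q h).resolve_left e
          have hzc := mem_center_iff.1 hzC
          have a3 : q * h0⁻¹ = h0⁻¹ * q * z⁻¹ := by
            calc q * h0⁻¹ = h0⁻¹ * z⁻¹ * (z * (h0 * q)) * h0⁻¹ := by group
              _ = h0⁻¹ * z⁻¹ * (q * h0) * h0⁻¹ := by rw [a1]
              _ = h0⁻¹ * (z⁻¹ * q) := by group
              _ = h0⁻¹ * (q * z⁻¹) := by rw [(Commute.inv_left (hzc q).symm).eq]
              _ = h0⁻¹ * q * z⁻¹ := by group
          calc q * (h0⁻¹ * h) = h0⁻¹ * q * z⁻¹ * h := by rw [← mul_assoc, a3]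
            _ = h0⁻¹ * q * (h * z⁻¹) := by rw [mul_assoc _ z⁻¹, (Commute.inv_left (hzc h).symm).eq]
            _ = h0⁻¹ * (q * h) * z⁻¹ := by group
            _ = h0⁻¹ * (h * q * z) * z⁻¹ := by rw [a2, ← hzc]
            _ = h0⁻¹ * h * q := by group
        rcases hcen _ (H.mul_mem (H.inv_mem hh0) hh) e1 with e2 | e2
        · rw [← inv_mul_eq_one.1 e2]; simp
        · rw [inv_mul_eq_iff_eq_mul.1 e2]; simp
    · push Not at hh0
      refine ⟨{1, z}, Finset.card_le_two.trans (by norm_num), fun h hh => ?_⟩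
      rcases hcen h hh (hh0 h hh) with rfl | rfl <;> simp
  have hu : (Finset.univ : Finset Q) ⊆ F ∪ F.image (q * ·) := fun y _ => by
    by_cases hy : y ∈ H
    · exact Finset.mem_union_left _ (hF y hy)
    · exact Finset.mem_union_right _ (Finset.mem_image.2 ⟨q⁻¹ * y, hF _ (hH q y hq hy), by group⟩)
  have h1 := (Finset.card_le_card hu).trans (Finset.card_union_le _ _)
  have h2 : (F.image (q * ·)).card ≤ F.card := Finset.card_image_le
  rw [Finset.card_univ, ← Nat.card_eq_fintype_card, hcard] at h1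
  omega

theorem alt_facts : (∀ a : alternatingGroup (Fin 5), (∀ b, b * a = a * b) → a = 1) ∧
    Nat.card (alternatingGroup (Fin 5)) = 60 := by
  refine ⟨by decide +kernel, ?_⟩
  rw [Nat.card_eq_fintype_card]
  decide +kernel

theorem centralizer_le {G : Type v} [Group G] [Finite G] [IsSimpleGroup G] (t : G) (ht : orderOf t = 2)
    (E : Subgroup (Subgroup.centralizer ({t} : Set G))) [E.Normal] (hX : Cfsg.IsExtraspecial 2 E)
    (hE : Nat.card E = 32) (e : (Subgroup.centralizer ({t} : Set G)) ⧸ E ≃* alternatingGroup (Fin 5)) :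
    Subgroup.centralizer (E : Set (Subgroup.centralizer ({t} : Set G))) ≤ E := by
  classical
  haveI : Fact (Nat.Prime 2) := ⟨Nat.prime_two⟩
  have htt : t * t = 1 := by rw [← pow_two, ← ht, pow_orderOf_eq_one]
  have ht1 : t ≠ 1 := fun e0 => by rw [e0, orderOf_one] at ht; omega
  let π : (Subgroup.centralizer ({t} : Set G)) →* alternatingGroup (Fin 5) := e.toMonoidHom.comp (QuotientGroup.mk' E)
  have hπs : Function.Surjective π := e.surjective.comp (QuotientGroup.mk'_surjective E)
  have hπk : ∀ x, π x = 1 ↔ x ∈ E := fun x => by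
    show e (QuotientGroup.mk' E x) = 1 ↔ x ∈ E
    rw [MulEquiv.map_eq_one_iff]
    exact QuotientGroup.eq_one_iff x
  set z : (Subgroup.centralizer ({t} : Set G)) := ⟨t, mem_centralizer_singleton_iff.2 rfl⟩ with hzdef
  have hzc : ∀ c : (Subgroup.centralizer ({t} : Set G)), z * c = c * z := fun c => Subtype.ext (mem_centralizer_singleton_iff.1 c.2).symm
  have hzE : z ∈ E := (hπk z).1 (alt_facts.1 _ fun b => by
    obtain ⟨c, rfl⟩ := hπs b
    rw [← map_mul, ← map_mul, hzc])
  have hz1 : z ≠ 1 := fun e0 => ht1 (congrArg Subtype.val e0)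
  have hzin : (⟨z, hzE⟩ : E) ∈ center E := mem_center_iff.2 fun q => Subtype.ext (hzc q).symm
  have hzE1 : (⟨z, hzE⟩ : E) ≠ 1 := fun e0 => hz1 (congrArg Subtype.val e0)
  obtain ⟨hall, -, hcommE, -⟩ := InvChar.Extraspecial.facts hX hzin hzE1
  set D := Subgroup.centralizer (E : Set (Subgroup.centralizer ({t} : Set G))) with hD
  haveI : D.Normal := by rw [hD]; infer_instance
  by_contra hDE
  have hDtop : D.map π = ⊤ := by
    haveI : IsSimpleGroup (alternatingGroup (Fin 5)) := alternatingGroup.isSimpleGroup_five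
    refine ((Subgroup.Normal.map (inferInstance : D.Normal) π hπs).eq_bot_or_eq_top).resolve_left fun h0 => hDE fun x hx => ?_
    exact (hπk x).1 (mem_bot.1 (h0 ▸ mem_map_of_mem π hx))
  -- commutators inside a two-subgroup
  have hcC : ∀ P : Subgroup (Subgroup.centralizer ({t} : Set G)), IsPGroup 2 P → ∀ a ∈ P, ∀ b ∈ P, a * b = b * a ∨ a * b = z * (b * a) := by
    intro P hP a ha b hb
    have hab : π a * π b = π b * π a := by
      obtain ⟨k, hk⟩ := IsPGroup.iff_card.1 (hP.map π)
      have hdvd := Subgroup.card_subgroup_dvd_card (P.map π)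
      rw [hk, alt_facts.2] at hdvd
      have hk2 : k ≤ 2 := by
        by_contra hk3
        exact absurd ((pow_dvd_pow 2 (show 3 ≤ k by omega)).trans hdvd) (by norm_num)
      have hcomm : IsMulCommutative (P.map π) := by
        rcases (by omega : k = 0 ∨ k = 1 ∨ k = 2) with rfl | rfl | rfl
        · haveI : Subsingleton (P.map π) := (Nat.card_eq_one_iff_unique.1 (by simpa using hk)).1
          exact ⟨⟨fun x y => Subsingleton.elim _ _⟩⟩
        · haveI : IsCyclic (P.map π) := isCyclic_of_prime_card (p := 2) (by simpa using hk)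
          exact ⟨⟨fun x y => IsCyclic.commGroup.mul_comm x y⟩⟩
        · exact ⟨⟨fun x y => (IsPGroup.commGroupOfCardEqPrimeSq hk).mul_comm x y⟩⟩
      exact congrArg Subtype.val (hcomm.is_comm.comm (⟨π a, mem_map_of_mem π ha⟩ : P.map π) ⟨π b, mem_map_of_mem π hb⟩)
    have hdec : ∀ x : (Subgroup.centralizer ({t} : Set G)), ∃ q ∈ E, ∃ d ∈ D, x = q * d := by
      intro x
      obtain ⟨d, hd, hd'⟩ : π x ∈ D.map π := hDtop ▸ mem_top _
      exact ⟨x * d⁻¹, (hπk _).1 (by rw [map_mul, map_inv, hd', mul_inv_cancel]), d, hd, by group⟩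
    obtain ⟨q, hq, d, hd, rfl⟩ := hdec a
    obtain ⟨q', hq', d', hd', rfl⟩ := hdec b
    have hk : ∀ d : (Subgroup.centralizer ({t} : Set G)), d ∈ D → ∀ q : (Subgroup.centralizer ({t} : Set G)), q ∈ E → q * d = d * q := fun d hd q hq => mem_centralizer_iff.1 hd q hq
    have hπq : ∀ q : (Subgroup.centralizer ({t} : Set G)), q ∈ E → π q = 1 := fun q hq => (hπk q).2 hq
    rw [map_mul, map_mul, hπq q hq, hπq q' hq', one_mul, one_mul] at hab
    have hkE : d * d' * (d' * d)⁻¹ ∈ E := (hπk _).1 (by rw [map_mul, map_inv, map_mul, map_mul, hab, mul_inv_cancel])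
    have hkD : d * d' * (d' * d)⁻¹ ∈ D := D.mul_mem (D.mul_mem hd hd') (D.inv_mem (D.mul_mem hd' hd))
    have e1 : q * d * (q' * d') = q * q' * (d * d') := by
      rw [mul_assoc, ← mul_assoc d, ← hk d hd q' hq']; group
    have e2 : q' * d' * (q * d) = q' * q * (d' * d) := by
      rw [mul_assoc, ← mul_assoc d', ← hk d' hd' q hq]; group
    have f1 : q * q' = q' * q ∨ q * q' = z * (q' * q) := by
      rcases hcommE ⟨q, hq⟩ ⟨q', hq'⟩ with h | h
      · exact Or.inl (congrArg Subtype.val h)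
      · exact Or.inr (congrArg Subtype.val h)
    have f2 : d * d' = d' * d ∨ d * d' = z * (d' * d) := by
      rcases hall ⟨_, hkE⟩ (mem_center_iff.2 fun x => Subtype.ext (hk _ hkD x x.2)) with h | h
      · exact Or.inl (mul_inv_eq_one.1 (congrArg Subtype.val h))
      · exact Or.inr (mul_inv_eq_iff_eq_mul.1 (congrArg Subtype.val h))
    have hzz : z * z = 1 := Subtype.ext htt
    rw [e1, e2]
    rcases f1 with h | h <;> rcases f2 with h' | h' <;> rw [h, h']
    · exact Or.inl rfl
    · exact Or.inr (by rw [← mul_assoc, ← hzc, mul_assoc])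
    · exact Or.inr (mul_assoc _ _ _)
    · refine Or.inl ?_
      calc z * (q' * q) * (z * (d' * d)) = z * ((q' * q) * z) * (d' * d) := by group
        _ = z * (z * (q' * q)) * (d' * d) := by rw [← hzc]
        _ = q' * q * (d' * d) := by rw [← mul_assoc z z, hzz, one_mul]
  have hco : ∀ P : Subgroup G, IsPGroup 2 P → P ≤ (Subgroup.centralizer ({t} : Set G)) → ∀ a ∈ P, ∀ b ∈ P, a * b = b * a ∨ a * b = t * (b * a) := by
    intro P hP hPC a ha b hb
    rcases hcC (P.subgroupOf (Subgroup.centralizer ({t} : Set G))) (hP.of_equiv (subgroupOfEquivOfLe hPC).symm) ⟨a, hPC ha⟩ ha ⟨b, hPC hb⟩ hb with h | h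
    · exact Or.inl (congrArg Subtype.val h)
    · exact Or.inr (congrArg Subtype.val h)
  have hfix : ∀ T : Subgroup G, IsPGroup 2 T → T ≤ (Subgroup.centralizer ({t} : Set G)) → (∃ a ∈ T, ∃ b ∈ T, a * b ≠ b * a) →
      ∀ y : G, (∀ x ∈ T, y * x * y⁻¹ ∈ T) → y ∈ (Subgroup.centralizer ({t} : Set G)) := by
    rintro T hT hTC ⟨a, ha, b, hb, hne⟩ y hy
    have h1 : a * b = t * (b * a) := (hco T hT hTC a ha b hb).resolve_left hne
    have h2 : y * a * y⁻¹ * (y * b * y⁻¹) = t * (y * b * y⁻¹ * (y * a * y⁻¹)) :=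
      (hco T hT hTC _ (hy a ha) _ (hy b hb)).resolve_left fun e0 => hne (by
        have e1 : y * (a * b) * y⁻¹ = y * (b * a) * y⁻¹ := by
          calc y * (a * b) * y⁻¹ = y * a * y⁻¹ * (y * b * y⁻¹) := by group
            _ = y * b * y⁻¹ * (y * a * y⁻¹) := e0
            _ = y * (b * a) * y⁻¹ := by group
        exact mul_left_cancel (mul_right_cancel e1))
    refine mem_centralizer_singleton_iff.2 ?_
    have h3 : y * (t * (b * a)) * y⁻¹ = t * (y * (b * a) * y⁻¹) := by
      rw [← h1]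
      calc y * (a * b) * y⁻¹ = y * a * y⁻¹ * (y * b * y⁻¹) := by group
        _ = t * (y * b * y⁻¹ * (y * a * y⁻¹)) := h2
        _ = t * (y * (b * a) * y⁻¹) := by group
    calc y * t = y * (t * (b * a)) * y⁻¹ * (y * (b * a)⁻¹) := by group
      _ = t * (y * (b * a) * y⁻¹) * (y * (b * a)⁻¹) := by rw [h3]
      _ = t * y := by group
  have hle : ∀ P : Subgroup G, IsPGroup 2 P → (∃ a ∈ P, ∃ b ∈ P, a ∈ (Subgroup.centralizer ({t} : Set G)) ∧ b ∈ (Subgroup.centralizer ({t} : Set G)) ∧ a * b ≠ b * a) → P ≤ (Subgroup.centralizer ({t} : Set G)) := by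
    rintro P hP ⟨a, ha, b, hb, haC, hbC, hne⟩
    by_contra hPC
    haveI : Group.IsNilpotent P := hP.isNilpotent
    have hlt : (Subgroup.centralizer ({t} : Set G)).subgroupOf P < ⊤ := lt_top_iff_ne_top.2 fun h => hPC (subgroupOf_eq_top.1 h)
    obtain ⟨y, hy, hyC⟩ := SetLike.exists_of_lt (Group.normalizerCondition_of_isNilpotent _ hlt)
    refine hyC (mem_subgroupOf.2 (hfix (P ⊓ (Subgroup.centralizer ({t} : Set G))) (hP.to_le inf_le_left) inf_le_right
      ⟨a, ⟨ha, haC⟩, b, ⟨hb, hbC⟩, hne⟩ y fun x hx => ?_))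
    have h1 := (Subgroup.mem_normalizer_iff.1 hy ⟨x, hx.1⟩).1 (mem_subgroupOf.2 hx.2)
    exact ⟨P.mul_mem (P.mul_mem y.2 hx.1) (P.inv_mem y.2), mem_subgroupOf.1 h1⟩
  have hE2 : IsPGroup 2 E := IsPGroup.of_card (n := 5) (by rw [hE]; norm_num)
  have hne : ∃ a ∈ E, ∃ b ∈ E, (a : (Subgroup.centralizer ({t} : Set G))) * b ≠ b * a := by
    obtain ⟨a, -, b, -, h⟩ := exists_noncomm hX hE hzin hzE1 ⊤ (fun a b _ _ => mem_top _)
    exact ⟨a, a.2, b, b.2, fun e0 => h (Subtype.ext e0)⟩
  -- a Sylow subgroup of the whole group inside the centralizer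
  obtain ⟨P, hPE⟩ := (hE2.map (Subgroup.centralizer ({t} : Set G)).subtype).exists_le_sylow
  have hPC : (P : Subgroup G) ≤ (Subgroup.centralizer ({t} : Set G)) := by
    obtain ⟨a, ha, b, hb, h⟩ := hne
    exact hle P P.isPGroup' ⟨a, hPE (mem_map_of_mem _ ha), b, hPE (mem_map_of_mem _ hb), a.2, b.2,
      fun e0 => h (Subtype.ext e0)⟩
  have hmax : ∀ R : Subgroup G, IsPGroup 2 R → Nat.card R ≤ Nat.card (P : Subgroup G) := by
    intro R hR
    obtain ⟨S, hS⟩ := hR.exists_le_sylow
    exact (card_le_of_le hS).trans (by rw [S.card_eq_multiplicity, P.card_eq_multiplicity])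
  -- a further conjugate
  obtain ⟨g, hgc, hgne⟩ : ∃ g : G, t * (g * t * g⁻¹) = g * t * g⁻¹ * t ∧ g * t * g⁻¹ ≠ t := by
    by_contra hh
    push Not at hh
    have hI : Cfsg.IsIsolatedInvolution t := ⟨ht, fun g hg => hh g hg.eq⟩
    have h2G : 2 ∣ Nat.card G := ht ▸ orderOf_dvd_natCard t
    have hO : Cfsg.oddCore G = ⊥ := ZStar.Consequences.oddCore_eq_bot fun N hN hodd => by
      rcases hN.eq_bot_or_eq_top with hb | htop
      · exact hb
      · exfalso
        rw [htop, card_top] at hodd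
        exact (Nat.not_even_iff_odd.2 hodd) (even_iff_two_dvd.2 h2G)
    have hzcen := ZStar.Main.mem_center_of_isolated hO hI
    have hCtop : (Subgroup.centralizer ({t} : Set G)) = ⊤ := eq_top_iff.2 fun g _ => mem_centralizer_singleton_iff.2 (mem_center_iff.1 hzcen g)
    haveI hEn : (E.map (Subgroup.centralizer ({t} : Set G)).subtype).Normal := ⟨fun a ha g => by
      obtain ⟨q, hq, rfl⟩ := ha
      exact ⟨(⟨g, hCtop ▸ mem_top g⟩ : (Subgroup.centralizer ({t} : Set G))) * q * (⟨g, hCtop ▸ mem_top g⟩ : (Subgroup.centralizer ({t} : Set G)))⁻¹,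
        Subgroup.Normal.conj_mem inferInstance q hq _, rfl⟩⟩
    have hEc : Nat.card (E.map (Subgroup.centralizer ({t} : Set G)).subtype) = 32 := by rw [card_map_of_injective (Subgroup.centralizer ({t} : Set G)).subtype_injective, hE]
    rcases hEn.eq_bot_or_eq_top with hb | ht'
    · rw [hb, card_bot] at hEc; omega
    · rw [ht', card_top] at hEc
      have h1 := E.card_mul_index
      rw [hE, Subgroup.index_eq_card, Nat.card_congr e.toEquiv, alt_facts.2, hCtop, card_top, hEc] at h1
      omega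
  set u := g * t * g⁻¹ with hudef
  have huu : u * u = 1 := by
    rw [hudef, show g * t * g⁻¹ * (g * t * g⁻¹) = g * (t * t) * g⁻¹ by group, htt, mul_one, mul_inv_cancel]
  -- two elements of the extraspecial group centralizing it
  have huC : u ∈ (Subgroup.centralizer ({t} : Set G)) := mem_centralizer_singleton_iff.2 hgc.symm
  have hu2 : IsPGroup 2 (zpowers (⟨u, huC⟩ : (Subgroup.centralizer ({t} : Set G)))) := by
    refine IsPGroup.of_card (n := 1) ?_
    rw [Nat.card_zpowers, pow_one]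
    refine orderOf_eq_prime (by rw [pow_two]; exact Subtype.ext huu) fun e0 => ?_
    have : g * t * g⁻¹ = 1 := congrArg Subtype.val e0
    exact ht1 (conj_eq_one_iff.1 this)
  obtain ⟨S', hS'⟩ := hu2.exists_le_sylow
  have hES : E ≤ (S' : Subgroup (Subgroup.centralizer ({t} : Set G))) := hE2.le_sylow_of_normal S'
  have hucomm : ∀ q ∈ E, q * ⟨u, huC⟩ = ⟨u, huC⟩ * q ∨ q * ⟨u, huC⟩ = z * (⟨u, huC⟩ * q) := fun q hq =>
    hcC S' S'.isPGroup' q (hES hq) _ (hS' (mem_zpowers _))
  obtain ⟨a, ha, b, hb, hab⟩ := exists_noncomm hX hE hzin hzE1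
    ((Subgroup.centralizer ({(⟨u, huC⟩ : (Subgroup.centralizer ({t} : Set G)))} : Set (Subgroup.centralizer ({t} : Set G)))).subgroupOf E) (by
      intro a b ha hb
      simp only [mem_subgroupOf, mem_centralizer_singleton_iff, Subgroup.coe_mul, Subgroup.coe_inv] at ha hb ⊢
      have a1 := (hucomm a a.2).resolve_left ha
      have b1 := (hucomm b b.2).resolve_left hb
      have a2 : (a : (Subgroup.centralizer ({t} : Set G)))⁻¹ * ⟨u, huC⟩ = z * (⟨u, huC⟩ * (a : (Subgroup.centralizer ({t} : Set G)))⁻¹) := by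
        have hzz : z * z = 1 := Subtype.ext htt
        calc (a : (Subgroup.centralizer ({t} : Set G)))⁻¹ * ⟨u, huC⟩ = z * z * ((a : (Subgroup.centralizer ({t} : Set G)))⁻¹ * ⟨u, huC⟩) := by rw [hzz, one_mul]
          _ = z * (z * (a : (Subgroup.centralizer ({t} : Set G)))⁻¹ * ⟨u, huC⟩) := by group
          _ = z * ((a : (Subgroup.centralizer ({t} : Set G)))⁻¹ * z * ⟨u, huC⟩) := by rw [hzc (a : (Subgroup.centralizer ({t} : Set G)))⁻¹]
          _ = z * ((a : (Subgroup.centralizer ({t} : Set G)))⁻¹ * (z * (⟨u, huC⟩ * (a : (Subgroup.centralizer ({t} : Set G))))) * (a : (Subgroup.centralizer ({t} : Set G)))⁻¹) := by group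
          _ = z * ((a : (Subgroup.centralizer ({t} : Set G)))⁻¹ * ((a : (Subgroup.centralizer ({t} : Set G))) * ⟨u, huC⟩) * (a : (Subgroup.centralizer ({t} : Set G)))⁻¹) := by rw [a1]
          _ = z * (⟨u, huC⟩ * (a : (Subgroup.centralizer ({t} : Set G)))⁻¹) := by group
      calc (a : (Subgroup.centralizer ({t} : Set G)))⁻¹ * b * ⟨u, huC⟩ = (a : (Subgroup.centralizer ({t} : Set G)))⁻¹ * (z * (⟨u, huC⟩ * b)) := by rw [mul_assoc, b1]
        _ = z * ((a : (Subgroup.centralizer ({t} : Set G)))⁻¹ * ⟨u, huC⟩) * b := by rw [← mul_assoc, ← hzc]; group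
        _ = z * z * (⟨u, huC⟩ * (a : (Subgroup.centralizer ({t} : Set G)))⁻¹) * b := by rw [a2]; group
        _ = ⟨u, huC⟩ * ((a : (Subgroup.centralizer ({t} : Set G)))⁻¹ * b) := by
          rw [show z * z = 1 from Subtype.ext htt, one_mul, mul_assoc])
  have hau : ((a : (Subgroup.centralizer ({t} : Set G))) : G) * u = u * ((a : (Subgroup.centralizer ({t} : Set G))) : G) :=
    congrArg Subtype.val (mem_centralizer_singleton_iff.1 (mem_subgroupOf.1 ha))
  have hbu : ((b : (Subgroup.centralizer ({t} : Set G))) : G) * u = u * ((b : (Subgroup.centralizer ({t} : Set G))) : G) :=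
    congrArg Subtype.val (mem_centralizer_singleton_iff.1 (mem_subgroupOf.1 hb))
  -- a Sylow subgroup of the group centralizing both
  set W := Subgroup.centralizer ({u} : Set G) with hW
  obtain ⟨R0, hR0⟩ := (((hE2.map (Subgroup.centralizer ({t} : Set G)).subtype).to_le (inf_le_left : E.map (Subgroup.centralizer ({t} : Set G)).subtype ⊓ W ≤ _)).of_equiv
    (subgroupOfEquivOfLe (inf_le_right : E.map (Subgroup.centralizer ({t} : Set G)).subtype ⊓ W ≤ W)).symm).exists_le_sylow
  let R : Subgroup G := (R0 : Subgroup W).map W.subtype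
  have hR2 : IsPGroup 2 R := R0.isPGroup'.map W.subtype
  have haR : ((a : (Subgroup.centralizer ({t} : Set G))) : G) ∈ R :=
    ⟨⟨_, mem_centralizer_singleton_iff.2 hau⟩, hR0 ⟨mem_map_of_mem _ a.2, mem_centralizer_singleton_iff.2 hau⟩, rfl⟩
  have hbR : ((b : (Subgroup.centralizer ({t} : Set G))) : G) ∈ R :=
    ⟨⟨_, mem_centralizer_singleton_iff.2 hbu⟩, hR0 ⟨mem_map_of_mem _ b.2, mem_centralizer_singleton_iff.2 hbu⟩, rfl⟩
  have habG : ((a : (Subgroup.centralizer ({t} : Set G))) : G) * ((b : (Subgroup.centralizer ({t} : Set G))) : G) ≠ ((b : (Subgroup.centralizer ({t} : Set G))) : G) * ((a : (Subgroup.centralizer ({t} : Set G))) : G) := fun e0 =>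
    hab (Subtype.ext (Subtype.ext e0))
  have hRC : R ≤ (Subgroup.centralizer ({t} : Set G)) := hle R hR2 ⟨_, haR, _, hbR, (a : (Subgroup.centralizer ({t} : Set G))).2, (b : (Subgroup.centralizer ({t} : Set G))).2, habG⟩
  let Pg : Subgroup G := (P : Subgroup G).map (MulAut.conj g).toMonoidHom
  have hPgW : Pg ≤ W := by
    rintro _ ⟨x, hx, rfl⟩
    refine mem_centralizer_singleton_iff.2 ?_
    show g * x * g⁻¹ * (g * t * g⁻¹) = g * t * g⁻¹ * (g * x * g⁻¹)
    calc g * x * g⁻¹ * (g * t * g⁻¹) = g * (x * t) * g⁻¹ := by group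
      _ = g * (t * x) * g⁻¹ := by rw [mem_centralizer_singleton_iff.1 (hPC hx)]
      _ = _ := by group
  have hPgc : Nat.card Pg = Nat.card (P : Subgroup G) := card_map_of_injective (MulAut.conj g).injective
  have hRcard : Nat.card (P : Subgroup G) ≤ Nat.card R := by
    obtain ⟨R1, hR1⟩ := ((P.isPGroup'.map (MulAut.conj g).toMonoidHom).of_equiv
      (subgroupOfEquivOfLe hPgW).symm).exists_le_sylow
    rw [show Nat.card R = Nat.card (R0 : Subgroup W) from card_map_of_injective W.subtype_injective,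
      R0.card_eq_multiplicity, ← R1.card_eq_multiplicity, ← hPgc,
      ← Nat.card_congr (subgroupOfEquivOfLe hPgW).toEquiv]
    exact card_le_of_le hR1
  -- its conjugate inside the centralizer
  let R' : Subgroup G := R.map (MulAut.conj g⁻¹).toMonoidHom
  have hR'C : R' ≤ (Subgroup.centralizer ({t} : Set G)) := by
    rintro _ ⟨x, ⟨x', -, rfl⟩, rfl⟩
    refine mem_centralizer_singleton_iff.2 ?_
    show g⁻¹ * (x' : G) * g⁻¹⁻¹ * t = t * (g⁻¹ * (x' : G) * g⁻¹⁻¹)
    calc g⁻¹ * (x' : G) * g⁻¹⁻¹ * t = g⁻¹ * ((x' : G) * (g * t * g⁻¹)) * g := by group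
      _ = g⁻¹ * (g * t * g⁻¹ * (x' : G)) * g := by rw [mem_centralizer_singleton_iff.1 x'.2]
      _ = _ := by group
  have hR'c : Nat.card R' = Nat.card R := card_map_of_injective (MulAut.conj g⁻¹).injective
  obtain ⟨S1, hS1⟩ := (hR2.of_equiv (subgroupOfEquivOfLe hRC).symm).exists_le_sylow
  obtain ⟨S2, hS2⟩ := ((hR2.map (MulAut.conj g⁻¹).toMonoidHom).of_equiv (subgroupOfEquivOfLe hR'C).symm).exists_le_sylow
  have hS2' : (S2 : Subgroup (Subgroup.centralizer ({t} : Set G))).map (Subgroup.centralizer ({t} : Set G)).subtype = R' := by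
    refine (eq_of_le_of_card_ge (fun x hx => mem_map.2 ⟨⟨x, hR'C hx⟩, hS2 hx, rfl⟩) ?_).symm
    rw [hR'c]
    exact (hmax _ (S2.isPGroup'.map (Subgroup.centralizer ({t} : Set G)).subtype)).trans hRcard
  obtain ⟨c, hc⟩ := MulAction.exists_smul_eq (Subgroup.centralizer ({t} : Set G)) S1 S2
  have hgc' : g * (c : G) ∈ (Subgroup.centralizer ({t} : Set G)) := by
    refine hfix R hR2 hRC ⟨_, haR, _, hbR, habG⟩ _ fun x hx => ?_
    have h1 : (⟨x, hRC hx⟩ : (Subgroup.centralizer ({t} : Set G))) ∈ (S1 : Subgroup (Subgroup.centralizer ({t} : Set G))) := hS1 hx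
    have h2 : c * ⟨x, hRC hx⟩ * c⁻¹ ∈ (S2 : Subgroup (Subgroup.centralizer ({t} : Set G))) := by
      rw [← hc, Sylow.smul_def, Sylow.pointwise_smul_def]
      exact Subgroup.smul_mem_pointwise_smul _ (MulAut.conj c) _ h1
    obtain ⟨w, hw, hwe⟩ : (c : G) * x * (c : G)⁻¹ ∈ R' := hS2' ▸ mem_map_of_mem (Subgroup.centralizer ({t} : Set G)).subtype h2
    have hwe' : g⁻¹ * w * g⁻¹⁻¹ = (c : G) * x * (c : G)⁻¹ := hwe
    rwa [show g * (c : G) * x * (g * (c : G))⁻¹ = g * ((c : G) * x * (c : G)⁻¹) * g⁻¹ by group, ← hwe',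
      show g * (g⁻¹ * w * g⁻¹⁻¹) * g⁻¹ = w by group]
  have hgC : g ∈ (Subgroup.centralizer ({t} : Set G)) := by
    have := (Subgroup.centralizer ({t} : Set G)).mul_mem hgc' ((Subgroup.centralizer ({t} : Set G)).inv_mem c.2)
    rwa [mul_inv_cancel_right] at this
  exact hgne (mul_inv_eq_iff_eq_mul.2 (mem_centralizer_singleton_iff.1 hgC))

theorem minus_type {G : Type v} [Group G] [Finite G] [IsSimpleGroup G] (t : G) (ht : orderOf t = 2)
    (E : Subgroup (Subgroup.centralizer ({t} : Set G))) [E.Normal] (hX : Cfsg.IsExtraspecial 2 E)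
    (hE : Nat.card E = 32) (e : (Subgroup.centralizer ({t} : Set G)) ⧸ E ≃* alternatingGroup (Fin 5))
    (A : Subgroup E) (hA : Cfsg.IsElementaryAbelian 2 A) : Nat.card A ≤ 2 ^ 2 := by
  classical
  haveI := Fintype.ofFinite (Subgroup.centralizer ({t} : Set G))
  have h2c := centralizer_le t ht E hX hE e
  let z : (Subgroup.centralizer ({t} : Set G)) := JankoTwo.zed t
  have htt : t * t = 1 := by rw [← pow_two, ← ht, pow_orderOf_eq_one]
  have hzc : ∀ c : (Subgroup.centralizer ({t} : Set G)), z * c = c * z := fun c => Subtype.ext (mem_centralizer_singleton_iff.1 c.2).symm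
  have hzE : z ∈ E := h2c (mem_centralizer_iff.2 fun c _ => (hzc c).symm)
  let π : (Subgroup.centralizer ({t} : Set G)) →* JankoTwo.AltFive.A5 := e.toMonoidHom.comp (QuotientGroup.mk' E)
  have hz1 : z ≠ 1 := fun e0 => by
    have h1 : t = 1 := congrArg Subtype.val e0
    rw [h1, orderOf_one] at ht; omega
  have hP : JankoTwo.Pre E z π := ⟨inferInstance, hX, hE, hzE, Subtype.ext htt, hz1, hzc, h2c,
    e.surjective.comp (QuotientGroup.mk'_surjective E), by
      ext x
      rw [MonoidHom.mem_ker]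
      show e (QuotientGroup.mk' E x) = 1 ↔ x ∈ E
      rw [MulEquiv.map_eq_one_iff]
      exact QuotientGroup.eq_one_iff x⟩
  obtain ⟨hsq, hcomm, hcen⟩ := hP.facts
  by_contra hbig
  push Not at hbig
  let S : Finset (Subgroup.centralizer ({t} : Set G)) := Finset.univ.filter fun u => u ∈ E ∧ u * u = 1
  let A' : Finset (Subgroup.centralizer ({t} : Set G)) := Finset.univ.filter fun u => ∃ hu : u ∈ E, (⟨u, hu⟩ : E) ∈ A
  have hS : S.card ≤ 12 := by
    have h10 := hP.card_inv10
    rw [Nat.card_eq_fintype_card, Fintype.card_subtype] at h10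
    have hsub : S ⊆ insert 1 (insert z (Finset.univ.filter fun u => InvChar.JankoTwoCount.Inv10 E z u)) := by
      intro u hu
      simp [S, InvChar.JankoTwoCount.Inv10] at hu ⊢
      tauto
    have h1 := Finset.card_le_card hsub
    have h2 := Finset.card_insert_le (1 : (Subgroup.centralizer ({t} : Set G))) (insert z (Finset.univ.filter fun u => InvChar.JankoTwoCount.Inv10 E z u))
    have h3 := Finset.card_insert_le z (Finset.univ.filter fun u => InvChar.JankoTwoCount.Inv10 E z u)
    omega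
  have hA' : A'.card = Nat.card A := by
    rw [← Fintype.card_subtype, ← Nat.card_eq_fintype_card]
    exact Nat.card_congr
      { toFun := fun x => ⟨⟨x.1, x.2.1⟩, x.2.2⟩
        invFun := fun x => ⟨x.1.1, x.1.2, x.2⟩
        left_inv := fun x => rfl
        right_inv := fun x => rfl }
  -- a noncentral element of it
  obtain ⟨a, ha, haz, ha1⟩ : ∃ a ∈ A', a ≠ z ∧ a ≠ 1 := by
    by_contra hh
    push Not at hh
    have : A' ⊆ ({1, z} : Finset (Subgroup.centralizer ({t} : Set G))) := fun x hx => by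
      simp only [Finset.mem_insert, Finset.mem_singleton]
      by_cases h : x = z
      · exact Or.inr h
      · exact Or.inl (hh x hx h)
    have := (Finset.card_le_card this).trans Finset.card_le_two
    omega
  simp only [A', Finset.mem_filter, Finset.mem_univ, true_and] at ha
  obtain ⟨haE, haA⟩ := ha
  have haa : a * a = 1 := by
    have := hA.2 _ haA
    rw [pow_two] at this
    exact congrArg Subtype.val this
  let N : Finset (Subgroup.centralizer ({t} : Set G)) := Finset.univ.filter fun v => v ∈ E ∧ v * a ≠ a * v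
  obtain ⟨q0, hq0, hq0a⟩ : ∃ q ∈ E, q * a ≠ a * q := by
    by_contra hh
    push Not at hh
    rcases hcen a haE hh with h | h
    · exact ha1 h
    · exact haz h
  have hN : 32 ≤ 2 * N.card := by
    let K : Finset (Subgroup.centralizer ({t} : Set G)) := Finset.univ.filter fun v => v ∈ E ∧ v * a = a * v
    have hKN : K.card ≤ N.card := by
      refine Finset.card_le_card_of_injOn (fun v => v * q0) (fun v hv => ?_) ((mul_left_injective q0).injOn)
      simp [K, N] at hv ⊢
      refine ⟨E.mul_mem hv.1 hq0, fun e0 => hq0a (mul_left_cancel (a := v) ?_)⟩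
      rw [← mul_assoc v a, hv.2, ← mul_assoc v q0, e0]
      group
    have hcard : (Finset.univ.filter fun v : (Subgroup.centralizer ({t} : Set G)) => v ∈ E).card = 32 := by
      rw [← Fintype.card_subtype, ← Nat.card_eq_fintype_card]
      exact hE
    have : (Finset.univ.filter fun v : (Subgroup.centralizer ({t} : Set G)) => v ∈ E) ⊆ K ∪ N := fun v hv => by
      simp [K, N] at hv ⊢
      tauto
    have := (Finset.card_le_card this).trans (Finset.card_union_le _ _)
    omega
  have hflip : ∀ v ∈ N, v ∈ S ∨ v * a ∈ S := by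
    intro v hv
    simp [N] at hv
    simp [S]
    rcases hsq v hv.1 with h | h
    · exact Or.inl ⟨hv.1, h⟩
    · refine Or.inr ⟨E.mul_mem hv.1 haE, ?_⟩
      have h1 := (hcomm a haE v hv.1).resolve_left (Ne.symm hv.2)
      calc v * a * (v * a) = v * (a * v) * a := by group
        _ = (v * z) * (v * a * a) := by rw [h1]; group
        _ = z * (v * v) * (a * a) := by rw [← hzc]; group
        _ = 1 := by rw [h, haa, mul_one]; exact hP.zz
  have hN2 : N.card ≤ 2 * (N ∩ S).card := by
    have hsub : N ⊆ (N ∩ S) ∪ (N ∩ S).image (· * a) := by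
      intro v hv
      rcases hflip v hv with h | h
      · exact Finset.mem_union_left _ (Finset.mem_inter.2 ⟨hv, h⟩)
      · refine Finset.mem_union_right _ (Finset.mem_image.2 ⟨v * a, Finset.mem_inter.2 ⟨?_, h⟩, ?_⟩)
        · simp [N] at hv ⊢
          refine ⟨E.mul_mem hv.1 haE, fun e0 => hv.2 (mul_right_cancel (b := a) ?_)⟩
          exact e0.trans (mul_assoc a v a).symm
        · rw [mul_assoc, haa, mul_one]
    have h1 := (Finset.card_le_card hsub).trans (Finset.card_union_le _ _)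
    have h2 : ((N ∩ S).image (· * a)).card ≤ (N ∩ S).card := Finset.card_image_le
    omega
  have hdis : A'.card + (N ∩ S).card ≤ S.card := by
    rw [← Finset.card_union_of_disjoint]
    · refine Finset.card_le_card (Finset.union_subset (fun v hv => ?_) Finset.inter_subset_right)
      simp [A', S] at hv ⊢
      obtain ⟨hvE, hvA⟩ := hv
      have := hA.2 _ hvA
      rw [pow_two] at this
      exact ⟨hvE, congrArg Subtype.val this⟩
    · refine Finset.disjoint_left.2 fun v hv hv' => ?_
      simp [A', N] at hv hv'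
      obtain ⟨hvE, hvA⟩ := hv
      have := hA.1.is_comm.comm (⟨_, hvA⟩ : A) ⟨_, haA⟩
      exact hv'.1.2 (congrArg (fun x : A => ((x : E) : (Subgroup.centralizer ({t} : Set G)))) this)
  have h8 : 8 ≤ Nat.card A := by
    haveI : Fact (Nat.Prime 2) := ⟨Nat.prime_two⟩
    obtain ⟨k, hk⟩ := IsPGroup.iff_card.1 ((IsPGroup.of_card (G := E) (p := 2) (n := 5) (by rw [hE]; norm_num)).to_subgroup A)
    rw [hk] at hbig ⊢
    exact Nat.pow_le_pow_right (by norm_num) ((Nat.pow_lt_pow_iff_right (by norm_num)).1 hbig) |>.trans' (by norm_num)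
  omega

theorem card_of_two_classes {G : Type v} [Group G] [Finite G] [IsSimpleGroup G] (t : G) (ht : orderOf t = 2)
    (E : Subgroup (Subgroup.centralizer ({t} : Set G))) [E.Normal] (hX : Cfsg.IsExtraspecial 2 E)
    (hE : Nat.card E = 32) (e : (Subgroup.centralizer ({t} : Set G)) ⧸ E ≃* alternatingGroup (Fin 5))
    (hcl : ∃ x y : G, orderOf x = 2 ∧ orderOf y = 2 ∧ ¬ IsConj x y) :
    Nat.card G = 604800 := by
  obtain ⟨K, H⟩ := J2Uniq.exists_hyp_simple t ht E hX hE (centralizer_le t ht E hX hE e) e hcl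
  obtain ⟨s, V, B, U, S, -⟩ := JankoTwo.exists_second H
  exact (H.order S).1

end Cfsg.Agent.J3Uniq.Reduce
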