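import Cfsg.Agent.Lib.J3.ModelLocal.Main
import Cfsg.Agent.Lib.J3Uniq.Reduce
import Cfsg.Prelude.Def_Sporadic
import Cfsg.Prelude.Def_SporadicB
import Cfsg.Prelude.Def_Classification2
import Cfsg.Agent.Lib.J3.Simple

/-!
The statements about groups of `J₃` type, given the uniqueness of the group as a hypothesis.
-/

set_option autoImplicit false
set_option linter.style.haveILetI false

namespace Cfsg.Agent.J3Uniq.Assemble

open Subgroup

universe u

/-- The uniqueness statement: a simple group with the centraliser of an involution of `J₃` type and one class of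
involutions is isomorphic to `J₃`. -/
def Uniqueness : Prop :=
  ∀ {G : Type u} [Group G] [Finite G] [IsSimpleGroup G] (t : G) (_ : orderOf t = 2)
    (Q : Subgroup (Subgroup.centralizer ({t} : Set G))) [Q.Normal] (_ : Cfsg.IsExtraspecial 2 Q)
    (_ : Nat.card Q = 32) (_ : ∀ E : Subgroup Q, Cfsg.IsElementaryAbelian 2 E → Nat.card E ≤ 2 ^ 2)
    (_ : Subgroup.centralizer (Q : Set (Subgroup.centralizer ({t} : Set G))) ≤ Q)
    (_ : (Subgroup.centralizer ({t} : Set G)) ⧸ Q ≃* alternatingGroup (Fin 5))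
    (_ : ∀ x y : G, orderOf x = 2 → orderOf y = 2 → IsConj x y), Cfsg.Spor.IsoJ3 G

variable {G : Type u} [Group G] [Finite G] [IsSimpleGroup G]

/-- The order is that of the model. -/
theorem card_of_iso (h : Cfsg.Spor.IsoJ3 G) : Nat.card G = 50232960 := by
  obtain ⟨F, iF, iT, ω, hF, hω, ⟨e⟩⟩ := h
  rw [Nat.card_congr e.toEquiv, (Lib.J3.Fld.of_card hF hω).card_J3]

/-- The conclusion of S1652. -/
theorem s1652 (T : Uniqueness.{u}) (t : G) (ht : orderOf t = 2) (Q : Subgroup (Subgroup.centralizer ({t} : Set G)))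
    [Q.Normal] (hQ : Cfsg.IsExtraspecial 2 Q) (hcard : Nat.card Q = 32)
    (hminus : ∀ E : Subgroup Q, Cfsg.IsElementaryAbelian 2 E → Nat.card E ≤ 2 ^ 2)
    (h2c : Subgroup.centralizer (Q : Set (Subgroup.centralizer ({t} : Set G))) ≤ Q)
    (e : (Subgroup.centralizer ({t} : Set G)) ⧸ Q ≃* alternatingGroup (Fin 5))
    (hone : ∀ x y : G, orderOf x = 2 → orderOf y = 2 → IsConj x y) :
    ∃ (H : Subgroup G) (N : Subgroup H) (K : Type) (_ : Field K) (_ : Fintype K), N.Normal ∧ N.index = 2 ∧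
      Fintype.card K = 16 ∧ Nonempty (N ≃* Matrix.SpecialLinearGroup (Fin 2) K) :=
  Lib.J3.ModelLocal.contains_sl2_16 (T t ht Q hQ hcard hminus h2c e hone)

/-- Uniqueness with the weaker hypotheses. -/
theorem isoJ3_weak (T : Uniqueness.{u}) (hone : ∀ x y : G, orderOf x = 2 → orderOf y = 2 → IsConj x y) (t : G)
    (ht : orderOf t = 2) (E : Subgroup (Subgroup.centralizer ({t} : Set G))) [E.Normal] (hE : Nat.card E = 32)
    (hX : Cfsg.IsExtraspecial 2 E) (e : (Subgroup.centralizer ({t} : Set G)) ⧸ E ≃* alternatingGroup (Fin 5)) :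
    Cfsg.Spor.IsoJ3 G :=
  T t ht E hX hE (fun A hA => Reduce.minus_type t ht E hX hE e A hA) (Reduce.centralizer_le t ht E hX hE e) e hone

/-- The conclusion of S0456. -/
theorem s0456 (T : Uniqueness.{u}) (hone : ∀ x y : G, orderOf x = 2 → orderOf y = 2 → IsConj x y) (t : G)
    (ht : orderOf t = 2) (E : Subgroup (Subgroup.centralizer ({t} : Set G))) [E.Normal] (hE : Nat.card E = 32)
    (hX : Cfsg.IsExtraspecial 2 E) (e : (Subgroup.centralizer ({t} : Set G)) ⧸ E ≃* alternatingGroup (Fin 5)) :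
    Cfsg.IsJ3 G :=
  ⟨inferInstance, card_of_iso (isoJ3_weak T hone t ht E hE hX e)⟩

/-- The conclusion of S0455. -/
theorem s0455 (T : Uniqueness.{u}) (t : G) (ht : Cfsg.IsTwoCentralInvolution t)
    (E : Subgroup (Subgroup.centralizer ({t} : Set G))) [E.Normal] (hE : Nat.card E = 32)
    (hX : Cfsg.IsExtraspecial 2 E) (e : (Subgroup.centralizer ({t} : Set G)) ⧸ E ≃* alternatingGroup (Fin 5)) :
    Cfsg.IsJ2 G ∨ Cfsg.IsJ3 G := by
  by_cases hone : ∀ x y : G, orderOf x = 2 → orderOf y = 2 → IsConj x y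
  · exact Or.inr (s0456 T hone t ht.1 E hE hX e)
  · push Not at hone
    exact Or.inl ⟨inferInstance, Reduce.card_of_two_classes t ht.1 E hX hE e hone⟩

/-- The conclusion of S2228. -/
theorem s2228 (T : Uniqueness.{u}) (hone : ∀ x y : G, orderOf x = 2 → orderOf y = 2 → IsConj x y)
    (t : G) (ht : orderOf t = 2) (E A : Subgroup ↥(Subgroup.centralizer ({t} : Set G))) [E.Normal]
    (hE : Cfsg.IsExtraspecial 2 ↥E) (hE32 : Nat.card ↥E = 32) (hEA : E.IsComplement' A)
    (eA : ↥A ≃* ↥(alternatingGroup (Fin 5))) :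
    (∀ X : Sylow 19 G, Subgroup.centralizer ((X : Subgroup G) : Set G) = X ∧
        ∃ _h : ((X : Subgroup G).subgroupOf (Subgroup.normalizer ((X : Subgroup G) : Set G))).Normal,
          IsCyclic (↥(Subgroup.normalizer ((X : Subgroup G) : Set G)) ⧸ (X : Subgroup G).subgroupOf _) ∧
          Nat.card (↥(Subgroup.normalizer ((X : Subgroup G) : Set G)) ⧸ (X : Subgroup G).subgroupOf _) = 9) ∧
    (∀ Y : Sylow 17 G, Subgroup.centralizer ((Y : Subgroup G) : Set G) = Y ∧
        ∃ _h : ((Y : Subgroup G).subgroupOf (Subgroup.normalizer ((Y : Subgroup G) : Set G))).Normal,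
          IsCyclic (↥(Subgroup.normalizer ((Y : Subgroup G) : Set G)) ⧸ (Y : Subgroup G).subgroupOf _) ∧
          Nat.card (↥(Subgroup.normalizer ((Y : Subgroup G) : Set G)) ⧸ (Y : Subgroup G).subgroupOf _) = 8) :=
  Lib.J3.ModelLocal.sylow_seventeen_nineteen
    (isoJ3_weak T hone t ht E hE32 hE (hEA.symm.QuotientMulEquiv.trans eA))

end Cfsg.Agent.J3Uniq.Assemble
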