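import Cfsg.Agent.Lib.J3Uniq.Sound

/-!
A checked certificate bounds the orbit of a point fixed by the group of order 1920.
-/

set_option autoImplicit false
set_option linter.all false
set_option maxRecDepth 100000

namespace Cfsg.Agent.J3Uniq

open Cfsg.Agent.J2Uniq (mul inv inCU ec cc phi ev mul_lt inv_ok)

universe v w

theorem cu_cover : ∀ x < 1920, (cuReps.any fun c => inCU (mul x (inv c))) = true := by decide +kernel

theorem cu_split : ∀ x < 1920, ∀ c ∈ cuReps, Nat.beq (mul (mul x (inv c)) c) x = true := by decide +kernel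

/-- The size of an orbit bound of a node. -/
def Node.bound (N : Node) : ℕ := 1920 / (N.els.length + 1)

variable {D : Type v} [Group D] {ρ : ℕ → D} {s : D} {X : Type w} [MulAction D X]

namespace Sys

variable (F : Sys ρ s)

include F

theorem ev_prod (im : ℕ → ℕ) : ∀ w : List ℕ, ρ (ev im w) = (w.map fun k => ρ (im k)).prod
  | [] => by simp [Cfsg.Agent.J2Uniq.ev, F.zero]
  | k :: w => by rw [List.map_cons, List.prod_cons, ← ev_prod im w, ← F.mul_eq]; rfl

/-- The elements of a node fix it and give distinct codes. -/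
theorem els_sound (P : ℕ → X) {T total : ℕ} (hF : ∀ k < total, Holds ρ s P (fact T k)) (N : Node)
    (hg : gensOk T total N = true) :
    ∀ (els : List (ℕ × ℕ × ℕ)) (acc : List ℕ) (mask : ℕ), elsOk T total N els acc mask = true →
      (∀ h ∈ acc, h < 1920 ∧ ρ h • P N.node = P N.node ∧ mask.testBit h = true) → acc.Nodup →
      ∃ all : List ℕ, all.length = els.length + acc.length ∧ all.Nodup ∧
        ∀ h ∈ all, h < 1920 ∧ ρ h • P N.node = P N.node := by
  intro els
  induction els with
  | nil => exact fun acc mask _ hacc hn => ⟨acc, by simp, hn, fun h hh => ⟨(hacc h hh).1, (hacc h hh).2.1⟩⟩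
  | cons e rest ih =>
    obtain ⟨h, p, g⟩ := e
    intro acc mask hok hacc hn
    simp only [elsOk, Bool.and_eq_true] at hok
    obtain ⟨⟨⟨⟨⟨hlt, hbit⟩, hp⟩, hg'⟩, hval⟩, hrest⟩ := hok
    replace hlt : h < 1920 := Nat.le_of_ble_eq_true hlt
    replace hp : p < acc.length := Nat.le_of_ble_eq_true hp
    replace hg' : g < N.gens.length := Nat.le_of_ble_eq_true hg'
    replace hval := Nat.eq_of_beq_eq_true hval
    replace hbit : mask.testBit h = false := by
      rw [Nat.testBit_eq_decide_div_mod_eq, decide_eq_false_iff_not]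
      have := Nat.eq_of_beq_eq_true hbit
      rw [Nat.shiftRight_eq_div_pow] at this
      omega
    have hgen : ρ (genVal T total N.node (N.gens.getD g (0, 0))) • P N.node = P N.node := by
      have := List.all_eq_true.1 hg _ (List.getElem_mem hg')
      rw [List.getD_eq_getElem _ _ hg']
      unfold genVal
      split at this
      · simp at this
      · rename_i q hq
        have e := F.walkP_sound P hF _ _ _ _ _ hq
        rw [tm, tm, F.zero, one_smul, Cfsg.Agent.J2Uniq.wordG, one_smul, Nat.eq_of_beq_eq_true this] at e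
        exact e
    have hpa : acc.getD (acc.length - 1 - p) 0 ∈ acc := by
      rw [List.getD_eq_getElem _ _ (by omega)]; exact List.getElem_mem _
    have hh : ρ h • P N.node = P N.node := by
      rw [hval, F.mul_eq, mul_smul, hgen, (hacc _ hpa).2.1]
    obtain ⟨all, h1, h2, h3⟩ := ih (h :: acc) (mask + (1 <<< h)) hrest (by
      have hadd : mask + (1 <<< h) = mask ||| (2 ^ h) := by
        rw [Nat.shiftLeft_eq, one_mul]
        apply Nat.eq_of_testBit_eq
        intro k
        rw [Nat.testBit_lor, Nat.testBit_two_pow]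
        rcases eq_or_ne h k with rfl | hk
        · rw [add_comm, Nat.testBit_two_pow_add_eq, hbit]; simp
        · simp only [hk, decide_false, Bool.or_false]
          rw [add_comm]
          rcases lt_or_gt_of_ne hk with hk' | hk'
          · rw [Nat.testBit_eq_decide_div_mod_eq, Nat.testBit_eq_decide_div_mod_eq]
            obtain ⟨d, rfl⟩ : ∃ d, k = h + 1 + d := ⟨k - h - 1, by omega⟩
            have hb := hbit
            rw [Nat.testBit_eq_decide_div_mod_eq, decide_eq_false_iff_not] at hb
            have hsum : (2 ^ h + mask) / 2 ^ (h + 1) = mask / 2 ^ (h + 1) := by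
              rw [pow_succ, ← Nat.div_div_eq_div_mul, ← Nat.div_div_eq_div_mul,
                Nat.add_div_left _ (Nat.two_pow_pos h)]
              omega
            congr 2
            rw [pow_add _ (h + 1), ← Nat.div_div_eq_div_mul, ← Nat.div_div_eq_div_mul, hsum]
          · exact Nat.testBit_two_pow_add_gt hk' mask
      intro a ha
      rcases List.mem_cons.1 ha with rfl | ha
      · exact ⟨hlt, hh, by rw [hadd, Nat.testBit_lor, Nat.testBit_two_pow_self]; simp⟩
      · exact ⟨(hacc a ha).1, (hacc a ha).2.1, by rw [hadd, Nat.testBit_lor, (hacc a ha).2.2]; rfl⟩)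
      (List.nodup_cons.2 ⟨fun hm => by rw [(hacc h hm).2.2] at hbit; simp at hbit, hn⟩)
    exact ⟨all, by rw [h1, List.length_cons, List.length_cons]; omega, h2, h3⟩

theorem edges_sound (P : ℕ → X) {T total : ℕ} (hF : ∀ k < total, Holds ρ s P (fact T k)) (live : List ℕ) (N : Node) :
    ∀ (es : List (ℕ × ℕ)) (cs : List ℕ), edgesOk T total live N es cs = true →
      ∀ c ∈ cs, ∃ j ∈ live, ∃ a, s • tm ρ P c N.node = tm ρ P a j := by
  intro es
  induction es with
  | nil =>
    intro cs h c hc
    cases cs with
    | nil => simp at hc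
    | cons => simp [edgesOk] at h
  | cons e es ih =>
    intro cs h c hc
    cases cs with
    | nil => simp at hc
    | cons c0 cs =>
      simp only [edgesOk, Bool.and_eq_true] at h
      rcases List.mem_cons.1 hc with rfl | hc
      · obtain ⟨h1, -⟩ := h
        split at h1
        · simp at h1
        · rename_i q hq
          refine ⟨q.2, by simpa using h1, q.1, ?_⟩
          rw [F.walkP_sound P hF _ _ _ _ _ hq]
          simp [Cfsg.Agent.J2Uniq.wordG, Cfsg.Agent.J2Uniq.letterG]
      · exact ih cs h.2 c hc

/-- The orbit is covered by the orbits of the live nodes. -/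
theorem orbit_bound (T ndefs total : ℕ) (nodes : List Node) (x0 : X)
    (hbase : ∀ a ∈ [ec, 416, 928], ρ a • x0 = x0)
    (hinit : initOk T = true) (hdefs : defsOk T ndefs = true)
    (hcmd : ∀ k, 3 + ndefs ≤ k → k < total → ∃ c, cmdOk T k c = true)
    (hnodes : (nodes.all (nodeOk T total (nodes.map Node.node))) = true)
    (hzero : (0 : ℕ) ∈ nodes.map Node.node) :
    ∃ Y : Finset X, x0 ∈ Y ∧ (∀ y ∈ Y, s • y ∈ Y) ∧ (∀ a, ∀ y ∈ Y, ρ a • y ∈ Y) ∧
      Y.card ≤ (nodes.map Node.bound).sum := by
  classical
  obtain ⟨P, hP0, hPd⟩ := F.defs_sound x0 T ndefs fun d hd => List.all_eq_true.1 hdefs d (List.mem_range.2 hd)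
  have hF : ∀ k < total, Holds ρ s P (fact T k) := by
    intro k
    induction k using Nat.strong_induction_on with
    | _ k ih =>
      intro hk
      rcases lt_or_ge k 3 with h3 | h3
      · have hi := List.all_eq_true.1 hinit
        have key : ∀ p ∈ ([(0, ec), (1, 416), (2, 928)] : List (ℕ × ℕ)), Holds ρ s P (fact T p.1) := by
          intro p hp
          have h := hi p hp
          simp only [Bool.and_eq_true, Bool.not_eq_true'] at h
          obtain ⟨⟨⟨⟨he, h1⟩, h2⟩, h3⟩, h4⟩ := h
          simp only [Holds, he, Bool.false_eq_true, if_false, tm, Nat.eq_of_beq_eq_true h1,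
            Nat.eq_of_beq_eq_true h2, Nat.eq_of_beq_eq_true h3, Nat.eq_of_beq_eq_true h4, F.zero, one_smul, hP0]
          refine hbase _ ?_
          simp only [List.mem_cons, List.mem_nil_iff, or_false] at hp
          rcases hp with rfl | rfl | rfl <;> simp
        interval_cases k
        exacts [key (0, ec) (by simp), key (1, 416) (by simp), key (2, 928) (by simp)]
      · rcases lt_or_ge k (3 + ndefs) with hd | hd
        · obtain ⟨d, rfl⟩ : ∃ d, k = 3 + d := ⟨k - 3, by omega⟩
          exact hPd d (by omega)
        · obtain ⟨c, hc⟩ := hcmd k hd hk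
          exact F.cmdOk_sound P (fun j hj => ih j hj (hj.trans hk)) hc
  let orb : Node → Finset X := fun N => (Finset.range 1920).image fun a => ρ a • P N.node
  have hmem : ∀ (N : Node) (a : ℕ), ρ a • P N.node ∈ orb N := fun N a =>
    Finset.mem_image.2 ⟨a % 1920, Finset.mem_range.2 (Nat.mod_lt _ (by norm_num)), by rw [F.mod_eq]⟩
  let Y : Finset X := nodes.toFinset.biUnion orb
  have hY : ∀ N ∈ nodes, ∀ a, ρ a • P N.node ∈ Y := fun N hN a =>
    Finset.mem_biUnion.2 ⟨N, List.mem_toFinset.2 hN, hmem N a⟩
  have hYd : ∀ y ∈ Y, ∃ N ∈ nodes, ∃ x < 1920, y = ρ x • P N.node := by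
    intro y hy
    obtain ⟨N, hN, hy⟩ := Finset.mem_biUnion.1 hy
    obtain ⟨x, hx, rfl⟩ := Finset.mem_image.1 hy
    exact ⟨N, List.mem_toFinset.1 hN, x, Finset.mem_range.1 hx, rfl⟩
  refine ⟨Y, ?_, ?_, ?_, ?_⟩
  · obtain ⟨N, hN, e⟩ := List.mem_map.1 hzero
    have := hY N hN 0
    rwa [e, hP0, F.zero, one_smul] at this
  · intro y hy
    obtain ⟨N, hN, x, hx, rfl⟩ := hYd y hy
    obtain ⟨c, hc, hcu⟩ := List.any_eq_true.1 (cu_cover x hx)
    have hn := List.all_eq_true.1 hnodes N hN
    simp only [nodeOk, Bool.and_eq_true] at hn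
    obtain ⟨j, hj, a, e⟩ := F.edges_sound P hF _ N _ _ hn.2 c hc
    obtain ⟨N', hN', rfl⟩ := List.mem_map.1 hj
    have e0 : ρ x • P N.node = ρ (mul x (inv c)) • tm ρ P c N.node := F.tm_div P x c N.node
    rw [e0, smul_smul, F.sconj _ hcu, mul_smul, e, tm, smul_smul, ← F.mul_eq]
    exact hY N' hN' _
  · intro a y hy
    obtain ⟨N, hN, x, hx, rfl⟩ := hYd y hy
    rw [smul_smul, ← F.mul_eq]
    exact hY N hN _
  · refine Finset.card_biUnion_le.trans ?_
    have hone : ∀ N ∈ nodes, (orb N).card ≤ N.bound := by
      intro N hN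
      have hn := List.all_eq_true.1 hnodes N hN
      simp only [nodeOk, Bool.and_eq_true] at hn
      obtain ⟨all, hlen, hnd, hall⟩ := F.els_sound P hF N hn.1.1 N.els [0] 1 hn.1.2
        (by intro h hh; simp only [List.mem_singleton] at hh; subst hh; exact ⟨by norm_num, by rw [F.zero, one_smul], rfl⟩)
        (List.nodup_singleton 0)
      unfold Node.bound
      rw [Nat.le_div_iff_mul_le (by omega)]
      have hfib : ∀ y ∈ orb N, N.els.length + 1 ≤ ((Finset.range 1920).filter fun a => ρ a • P N.node = y).card := by
        intro y hy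
        obtain ⟨a0, ha0, rfl⟩ := Finset.mem_image.1 hy
        have hall' : all.toFinset.card = N.els.length + 1 := by
          rw [List.toFinset_card_of_nodup hnd, hlen]; rfl
        rw [← hall']
        refine Finset.card_le_card_of_injOn (fun h => mul a0 h) (fun h hh => ?_) (fun h hh h' hh' e => ?_)
        · have := hall h (List.mem_toFinset.1 hh)
          simp only [Finset.coe_filter, Finset.mem_range, Set.mem_setOf_eq]
          exact ⟨mul_lt _ _, by rw [F.mul_eq, mul_smul, this.2]⟩
        · have e' := congrArg ρ (show mul a0 h = mul a0 h' from e)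
          rw [F.mul_eq, F.mul_eq] at e'
          exact F.inj' (hall h (List.mem_toFinset.1 hh)).1 (hall h' (List.mem_toFinset.1 hh')).1 (mul_left_cancel e')
      have hsum := Finset.card_eq_sum_card_image (fun a => ρ a • P N.node) (Finset.range 1920)
      have hle : (orb N).card * (N.els.length + 1) ≤ (Finset.range 1920).card := by
        rw [hsum, ← smul_eq_mul]
        exact Finset.card_nsmul_le_sum _ _ _ hfib
      simpa using hle
    calc (∑ N ∈ nodes.toFinset, (orb N).card) ≤ ∑ N ∈ nodes.toFinset, N.bound :=
          Finset.sum_le_sum fun N hN => hone N (List.mem_toFinset.1 hN)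
      _ ≤ (nodes.map Node.bound).sum := by
          have key : ∀ l : List Node, (∑ N ∈ l.toFinset, N.bound) ≤ (l.map Node.bound).sum := by
            intro l
            induction l with
            | nil => simp
            | cons N l ih =>
              rw [List.toFinset_cons, List.map_cons, List.sum_cons]
              by_cases hN : N ∈ l.toFinset
              · rw [Finset.insert_eq_of_mem hN]; omega
              · rw [Finset.sum_insert hN]; omega
          exact key nodes

end Sys

end Cfsg.Agent.J3Uniq
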