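import Cfsg.Agent.Lib.J2Uniq.Cert

/-!
A checker for the double coset enumeration in a group of `J₃` type. The facts are claimed in a packed table;
each of them is checked from the ones before it, and at the end the union of the orbits of the live nodes is
closed under the element of order three, with enough stabilizing codes for each node to bound its orbit.
-/

set_option autoImplicit false
set_option maxRecDepth 100000

namespace Cfsg.Agent.J3Uniq

open Cfsg.Agent.J2Uniq (Fact Letter mul inv eqStep fwdStep bwdStep flipWord ec cc inCU)

/-- Evaluate a number before it is used. -/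
def force {α : Type} (n : ℕ) (k : ℕ → α) : α :=
  match n with
  | 0 => k 0
  | m + 1 => k (m + 1)

theorem force_eq {α : Type} (n : ℕ) (k : ℕ → α) : force n k = k n := by cases n <;> rfl

/-- The relations. -/
def rels : List (List Letter) :=
  [[.s, .s, .s], [.s, .code ec, .s, .code ec, .code (inv cc)],
    [.s, .code 384, .s, .code 384, .s, .code 384, .s, .code 384, .s, .code 384, .s, .code 384, .s, .code 384,
      .s, .code 384, .s, .code 384, .s, .code 384],
    [.code (inv 386), .s, .code 386, .s, .code (inv 386), .s, .code 386, .s, .code (inv 386), .s, .code 386, .s,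
      .code (inv 386), .s, .code 386, .s],
    [.s, .si], [.si, .s]]

/-- The fact stored at a position. -/
def fact (P k : ℕ) : Fact :=
  let e := (P >>> (41 * k)) % 2 ^ 41
  ⟨Nat.beq (e % 2) 1, (e / 2) % 2048, (e / 2 ^ 12) % 512, (e / 2 ^ 21) % 2048, (e / 2 ^ 32) % 512⟩

/-- One move, using only facts below `lim`. -/
def oneMove (P lim m : ℕ) (L : List Letter) (x i : ℕ) : Option (List Letter × ℕ × ℕ) :=
  if Nat.beq (m % 4) 0 then
    match L with
    | .code g :: L' => some (L', mul g x, i)
    | _ => none
  else if Nat.blt (m / 4) lim then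
    if Nat.beq (m % 4) 3 then
      match L with
      | .s :: L' => (fwdStep (fact P (m / 4)) x i).map fun p => (L', p.1, p.2)
      | .si :: L' => (bwdStep (fact P (m / 4)) x i).map fun p => (L', p.1, p.2)
      | _ => none
    else (eqStep (fact P (m / 4)) (Nat.beq (m % 4) 2) x i).map fun p => (L, p.1, p.2)
  else none

/-- Following a word by packed moves. -/
def walkP (P lim : ℕ) : ℕ → ℕ → List Letter → ℕ → ℕ → Option (ℕ × ℕ)
  | 0, _, [], x, i => some (x, i)
  | 0, _, _ :: _, _, _ => none
  | n + 1, ms, L, x, i =>
    match oneMove P lim (ms % 2 ^ 18) L x i with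
    | none => none
    | some (L', x', i') => force x' fun x'' => force i' fun i'' => force (ms >>> 18) fun ms' => walkP P lim n ms' L' x'' i''

/-- A fact is that of the definition of a node. -/
def defOk (n : ℕ) (f : Fact) : Bool :=
  f.edge && ((Nat.beq f.b 0 && Nat.beq f.j n && Nat.blt f.i n) || (Nat.beq f.a 0 && Nat.beq f.i n && Nat.blt f.j n))

/-- The first facts: the generators of the centralizer fix the base point. -/
def initOk (P : ℕ) : Bool :=
  ([(0, ec), (1, 416), (2, 928)] : List (ℕ × ℕ)).all fun p =>
    let f := fact P p.1
    !f.edge && Nat.beq f.a p.2 && Nat.beq f.i 0 && Nat.beq f.b 0 && Nat.beq f.j 0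

/-- The defining facts of `D` nodes. -/
def defsOk (P D : ℕ) : Bool := (List.range D).all fun d => defOk (d + 1) (fact P (3 + d))

/-- The test of a derived fact. -/
def cmdOk (P k c : ℕ) : Bool :=
  let x := c % 2048
  let i := (c / 2 ^ 11) % 512
  let L := rels.getD ((c / 2 ^ 20) % 8) []
  let pos := (c / 2 ^ 23) % 64
  let gap := Nat.beq ((c / 2 ^ 29) % 2) 1
  let nf := (c / 2 ^ 30) % 4096
  let nb := (c / 2 ^ 42) % 4096
  let ms := c >>> 54
  let f := fact P k
  match walkP P k nf ms (L.take pos) x i with
  | none => false
  | some A =>
    match walkP P k nb (ms >>> (18 * nf)) (flipWord (L.drop (if gap then pos + 1 else pos))) x i with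
    | none => false
    | some B =>
      if gap then
        match L.drop pos with
        | .s :: _ => f.edge && Nat.beq f.a A.1 && Nat.beq f.i A.2 && Nat.beq f.b B.1 && Nat.beq f.j B.2
        | .si :: _ => f.edge && Nat.beq f.a B.1 && Nat.beq f.i B.2 && Nat.beq f.b A.1 && Nat.beq f.j A.2
        | _ => false
      else !f.edge && Nat.beq f.a A.1 && Nat.beq f.i A.2 && Nat.beq f.b B.1 && Nat.beq f.j B.2

/-- The tests of a block of derived facts. -/
def cmdsOk (P : ℕ) : ℕ → List ℕ → Bool
  | _, [] => true
  | k, c :: cs => cmdOk P k c && cmdsOk P (k + 1) cs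

/-- A live node with its stabilizing codes and its ten edges. -/
structure Node where
  node : ℕ
  gens : List (ℕ × ℕ)
  els : List (ℕ × ℕ × ℕ)
  edges : List (ℕ × ℕ)

/-- Representatives of the ten cosets of the centralizer of `u 0`. -/
def cuReps : List ℕ := [0, 2, 384, 386, 480, 482, 512, 514, 544, 546]

/-- The code reached by the moves of a generator. -/
def genVal (P total i : ℕ) (g : ℕ × ℕ) : ℕ :=
  match walkP P total g.1 g.2 [] 0 i with
  | none => 0
  | some p => p.1

/-- The generators fix the node. -/
def gensOk (P total : ℕ) (N : Node) : Bool :=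
  N.gens.all fun g => match walkP P total g.1 g.2 [] 0 N.node with
    | none => false
    | some p => Nat.beq p.2 N.node

/-- The elements are products of generators, are distinct and below 1920. -/
def elsOk (P total : ℕ) (N : Node) : List (ℕ × ℕ × ℕ) → List ℕ → ℕ → Bool
  | [], _, _ => true
  | (h, p, g) :: rest, acc, mask =>
    Nat.blt h 1920 && Nat.beq ((mask >>> h) % 2) 0 && Nat.blt p acc.length && Nat.blt g N.gens.length &&
      Nat.beq h (mul (acc.getD (acc.length - 1 - p) 0) (genVal P total N.node (N.gens.getD g (0, 0)))) &&
      elsOk P total N rest (h :: acc) (mask + (1 <<< h))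

/-- The edges lead to live nodes. -/
def edgesOk (P total : ℕ) (live : List ℕ) (N : Node) : List (ℕ × ℕ) → List ℕ → Bool
  | [], [] => true
  | e :: es, c :: cs =>
    (match walkP P total e.1 e.2 [.s] c N.node with
    | none => false
    | some p => live.contains p.2) && edgesOk P total live N es cs
  | _, _ => false

/-- The test of a live node. -/
def nodeOk (P total : ℕ) (live : List ℕ) (N : Node) : Bool :=
  gensOk P total N && elsOk P total N N.els [0] 1 && edgesOk P total live N N.edges cuReps

end Cfsg.Agent.J3Uniq
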