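import Cfsg.Agent.Lib.J3Uniq.CertData
import Cfsg.Agent.Lib.J3Uniq.Bound

/-!
The kernel checks of the enumeration certificate.
-/

set_option autoImplicit false
set_option maxRecDepth 100000

namespace Cfsg.Agent.J3Uniq

open EData

theorem init_ok : initOk factTab = true := by decide +kernel

theorem defs_ok : defsOk factTab numDefs = true := by decide +kernel

theorem cmds0_ok : cmdsOk factTab 172 cmds0 = true := by decide +kernel

theorem cmds1_ok : cmdsOk factTab 232 cmds1 = true := by decide +kernel

theorem cmds2_ok : cmdsOk factTab 292 cmds2 = true := by decide +kernel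

theorem cmds3_ok : cmdsOk factTab 352 cmds3 = true := by decide +kernel

theorem cmds4_ok : cmdsOk factTab 412 cmds4 = true := by decide +kernel

theorem cmds5_ok : cmdsOk factTab 472 cmds5 = true := by decide +kernel

theorem cmds6_ok : cmdsOk factTab 532 cmds6 = true := by decide +kernel

theorem cmds7_ok : cmdsOk factTab 592 cmds7 = true := by decide +kernel

theorem cmds8_ok : cmdsOk factTab 652 cmds8 = true := by decide +kernel

theorem cmds9_ok : cmdsOk factTab 712 cmds9 = true := by decide +kernel

theorem cmds10_ok : cmdsOk factTab 772 cmds10 = true := by decide +kernel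

theorem nodes0_ok : nodes0.all (nodeOk factTab numFacts (EData.nodes.map Node.node)) = true := by decide +kernel

theorem nodes1_ok : nodes1.all (nodeOk factTab numFacts (EData.nodes.map Node.node)) = true := by decide +kernel

theorem nodes2_ok : nodes2.all (nodeOk factTab numFacts (EData.nodes.map Node.node)) = true := by decide +kernel

theorem nodes3_ok : nodes3.all (nodeOk factTab numFacts (EData.nodes.map Node.node)) = true := by decide +kernel

theorem nodes4_ok : nodes4.all (nodeOk factTab numFacts (EData.nodes.map Node.node)) = true := by decide +kernel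

theorem nodes5_ok : nodes5.all (nodeOk factTab numFacts (EData.nodes.map Node.node)) = true := by decide +kernel

theorem nodes6_ok : nodes6.all (nodeOk factTab numFacts (EData.nodes.map Node.node)) = true := by decide +kernel

theorem nodes7_ok : nodes7.all (nodeOk factTab numFacts (EData.nodes.map Node.node)) = true := by decide +kernel

theorem nodes8_ok : nodes8.all (nodeOk factTab numFacts (EData.nodes.map Node.node)) = true := by decide +kernel

theorem cmds_spec : ∀ k (cs : List ℕ), cmdsOk factTab k cs = true → ∀ j < cs.length, ∃ c, cmdOk factTab (k + j) c = true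
  | _, [], _, j, hj => absurd hj (by simp)
  | k, c :: cs, h, j, hj => by
    simp only [cmdsOk, Bool.and_eq_true] at h
    cases j with
    | zero => exact ⟨c, h.1⟩
    | succ j =>
      obtain ⟨d, hd⟩ := cmds_spec (k + 1) cs h.2 j (by simpa using hj)
      exact ⟨d, by rwa [show k + (j + 1) = k + 1 + j by omega]⟩

theorem cmd_ok : ∀ k, 3 + numDefs ≤ k → k < numFacts → ∃ c, cmdOk factTab k c = true := by
  intro k h1 h2
  simp only [numDefs, numFacts] at h1 h2
  rcases lt_or_ge k 232 with hlt | hge
  · obtain ⟨c, hc⟩ := cmds_spec _ _ cmds0_ok (k - 172) (by simp only [cmds0, List.length_cons, List.length_nil]; omega)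
    exact ⟨c, by rwa [show 172 + (k - 172) = k by omega] at hc⟩
  rcases lt_or_ge k 292 with hlt | hge
  · obtain ⟨c, hc⟩ := cmds_spec _ _ cmds1_ok (k - 232) (by simp only [cmds1, List.length_cons, List.length_nil]; omega)
    exact ⟨c, by rwa [show 232 + (k - 232) = k by omega] at hc⟩
  rcases lt_or_ge k 352 with hlt | hge
  · obtain ⟨c, hc⟩ := cmds_spec _ _ cmds2_ok (k - 292) (by simp only [cmds2, List.length_cons, List.length_nil]; omega)
    exact ⟨c, by rwa [show 292 + (k - 292) = k by omega] at hc⟩
  rcases lt_or_ge k 412 with hlt | hge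
  · obtain ⟨c, hc⟩ := cmds_spec _ _ cmds3_ok (k - 352) (by simp only [cmds3, List.length_cons, List.length_nil]; omega)
    exact ⟨c, by rwa [show 352 + (k - 352) = k by omega] at hc⟩
  rcases lt_or_ge k 472 with hlt | hge
  · obtain ⟨c, hc⟩ := cmds_spec _ _ cmds4_ok (k - 412) (by simp only [cmds4, List.length_cons, List.length_nil]; omega)
    exact ⟨c, by rwa [show 412 + (k - 412) = k by omega] at hc⟩
  rcases lt_or_ge k 532 with hlt | hge
  · obtain ⟨c, hc⟩ := cmds_spec _ _ cmds5_ok (k - 472) (by simp only [cmds5, List.length_cons, List.length_nil]; omega)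
    exact ⟨c, by rwa [show 472 + (k - 472) = k by omega] at hc⟩
  rcases lt_or_ge k 592 with hlt | hge
  · obtain ⟨c, hc⟩ := cmds_spec _ _ cmds6_ok (k - 532) (by simp only [cmds6, List.length_cons, List.length_nil]; omega)
    exact ⟨c, by rwa [show 532 + (k - 532) = k by omega] at hc⟩
  rcases lt_or_ge k 652 with hlt | hge
  · obtain ⟨c, hc⟩ := cmds_spec _ _ cmds7_ok (k - 592) (by simp only [cmds7, List.length_cons, List.length_nil]; omega)
    exact ⟨c, by rwa [show 592 + (k - 592) = k by omega] at hc⟩
  rcases lt_or_ge k 712 with hlt | hge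
  · obtain ⟨c, hc⟩ := cmds_spec _ _ cmds8_ok (k - 652) (by simp only [cmds8, List.length_cons, List.length_nil]; omega)
    exact ⟨c, by rwa [show 652 + (k - 652) = k by omega] at hc⟩
  rcases lt_or_ge k 772 with hlt | hge
  · obtain ⟨c, hc⟩ := cmds_spec _ _ cmds9_ok (k - 712) (by simp only [cmds9, List.length_cons, List.length_nil]; omega)
    exact ⟨c, by rwa [show 712 + (k - 712) = k by omega] at hc⟩
  rcases lt_or_ge k 831 with hlt | hge
  · obtain ⟨c, hc⟩ := cmds_spec _ _ cmds10_ok (k - 772) (by simp only [cmds10, List.length_cons, List.length_nil]; omega)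
    exact ⟨c, by rwa [show 772 + (k - 772) = k by omega] at hc⟩
  omega

theorem nodes_ok : EData.nodes.all (nodeOk factTab numFacts (EData.nodes.map Node.node)) = true := by
  rw [List.all_eq_true]
  intro N hN
  simp only [EData.nodes, List.mem_flatten] at hN
  obtain ⟨B, hB, hN⟩ := hN
  simp only [nodeBlocks, List.mem_cons, List.mem_nil_iff, or_false] at hB
  rcases hB with rfl | rfl | rfl | rfl | rfl | rfl | rfl | rfl | rfl
  · exact List.all_eq_true.1 nodes0_ok N hN
  · exact List.all_eq_true.1 nodes1_ok N hN
  · exact List.all_eq_true.1 nodes2_ok N hN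
  · exact List.all_eq_true.1 nodes3_ok N hN
  · exact List.all_eq_true.1 nodes4_ok N hN
  · exact List.all_eq_true.1 nodes5_ok N hN
  · exact List.all_eq_true.1 nodes6_ok N hN
  · exact List.all_eq_true.1 nodes7_ok N hN
  · exact List.all_eq_true.1 nodes8_ok N hN

theorem nodes_size : (EData.nodes.map Node.bound).sum ≤ 81000 ∧ (0 : ℕ) ∈ EData.nodes.map Node.node := by decide +kernel

end Cfsg.Agent.J3Uniq
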