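import Cfsg.Agent.Lib.J3Uniq.Cert
import Cfsg.Agent.Lib.J2Uniq.Sound

/-!
Soundness of the checker: a point fixed by the group of order 1920 has an orbit of bounded size.
-/

set_option autoImplicit false
set_option linter.all false
set_option maxRecDepth 100000

namespace Cfsg.Agent.J3Uniq

open Cfsg.Agent.J2Uniq (Fact Letter mul inv eqStep fwdStep bwdStep flipWord ec cc inCU phi phinv
  wordG letterG wordG_append qp pp inv_ok cu_ok inCU_mod mul_lt)

universe v w

/-- Codes and an element of order three satisfying the relations of the certificate. -/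
structure Sys {D : Type v} [Group D] (ρ : ℕ → D) (s : D) : Prop where
  mul_eq : ∀ a b, ρ (mul a b) = ρ a * ρ b
  zero : ρ 0 = 1
  mod_eq : ∀ a, ρ (a % 1920) = ρ a
  inj : ∀ a < 1920, ρ a = 1 → a = 0
  sconj : ∀ r, inCU r = true → s * ρ r = ρ (phi r) * s
  rel : ∀ L ∈ rels, wordG ρ s L = 1

variable {D : Type v} [Group D] {ρ : ℕ → D} {s : D} {X : Type w} [MulAction D X]

/-- The point of a term. -/
def tm (ρ : ℕ → D) (P : ℕ → X) (x i : ℕ) : X := ρ x • P i

/-- A fact holds. -/
def Holds (ρ : ℕ → D) (s : D) (P : ℕ → X) (f : Fact) : Prop :=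
  if f.edge then s • tm ρ P f.a f.i = tm ρ P f.b f.j else tm ρ P f.a f.i = tm ρ P f.b f.j

namespace Sys

variable (F : Sys ρ s)

include F

theorem inv_eq (a : ℕ) : ρ (inv a) = (ρ a)⁻¹ := by
  have h : inv a = inv (a % 1920) := by
    unfold Cfsg.Agent.J2Uniq.inv
    rw [show qp (a % 1920) = qp a by unfold Cfsg.Agent.J2Uniq.qp; omega,
      show pp (a % 1920) = pp a by unfold Cfsg.Agent.J2Uniq.pp; omega]
  rw [h, ← F.mod_eq a]
  exact (inv_eq_of_mul_eq_one_right (by rw [← F.mul_eq, inv_ok _ (Nat.mod_lt a (by norm_num)), F.zero])).symm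

theorem inj' {a b : ℕ} (ha : a < 1920) (hb : b < 1920) (e : ρ a = ρ b) : a = b :=
  Cfsg.Agent.J2Uniq.inv_unique a ha b hb (F.inj _ (mul_lt _ _) (by rw [F.mul_eq, e, F.inv_eq, mul_inv_cancel]))

theorem sconj_inv {r : ℕ} (hr : inCU r = true) : s⁻¹ * ρ r = ρ (phinv r) * s⁻¹ := by
  rw [← inCU_mod] at hr
  obtain ⟨-, -, -, h1, h2, -⟩ := cu_ok _ (Nat.mod_lt r (by norm_num)) hr
  have e := F.sconj _ h1
  rw [h2, F.mod_eq, show phinv (r % 1920) = phinv r by unfold Cfsg.Agent.J2Uniq.phinv; rw [Nat.mod_mod]] at e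
  rw [inv_mul_eq_iff_eq_mul, ← mul_assoc, e, mul_inv_cancel_right]

theorem tm_mul (P : ℕ → X) (x a i : ℕ) : tm ρ P (mul x a) i = ρ x • tm ρ P a i := by
  rw [tm, tm, F.mul_eq, mul_smul]

theorem tm_div (P : ℕ → X) (x a i : ℕ) : tm ρ P x i = ρ (mul x (inv a)) • tm ρ P a i := by
  rw [tm, tm, F.mul_eq, F.inv_eq, smul_smul, inv_mul_cancel_right]

theorem word_flip : ∀ L : List Letter, wordG ρ s (flipWord L) = (wordG ρ s L)⁻¹
  | [] => by simp [Cfsg.Agent.J2Uniq.flipWord, Cfsg.Agent.J2Uniq.wordG]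
  | l :: L => by
    rw [show flipWord (l :: L) = flipWord L ++ [l.flip] by simp [Cfsg.Agent.J2Uniq.flipWord],
      wordG_append, word_flip L]
    simp only [Cfsg.Agent.J2Uniq.wordG, one_mul]
    rw [mul_inv_rev]
    congr 1
    cases l with
    | code g => exact F.inv_eq g
    | s => rfl
    | si => exact (inv_inv s).symm

theorem eqStep_sound (P : ℕ → X) {f : Fact} (hf : Holds ρ s P f) {back : Bool} {x i : ℕ} {p : ℕ × ℕ}
    (h : eqStep f back x i = some p) : tm ρ P p.1 p.2 = tm ρ P x i := by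
  unfold Cfsg.Agent.J2Uniq.eqStep at h
  unfold Holds at hf
  split at h
  · exact absurd h (by simp)
  · rename_i he
    rw [if_neg he] at hf
    split at h
    · split at h
      · rename_i hij
        cases h
        rw [← Nat.eq_of_beq_eq_true hij, F.tm_mul, hf, ← F.tm_div]
      · exact absurd h (by simp)
    · split at h
      · rename_i hij
        cases h
        rw [← Nat.eq_of_beq_eq_true hij, F.tm_mul, ← hf, ← F.tm_div]
      · exact absurd h (by simp)

theorem fwdStep_sound (P : ℕ → X) {f : Fact} (hf : Holds ρ s P f) {x i : ℕ} {p : ℕ × ℕ}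
    (h : fwdStep f x i = some p) : tm ρ P p.1 p.2 = s • tm ρ P x i := by
  unfold Cfsg.Agent.J2Uniq.fwdStep at h
  unfold Holds at hf
  split at h
  · rename_i hc
    simp only [Bool.and_eq_true] at hc
    obtain ⟨⟨he, hij⟩, hr⟩ := hc
    rw [if_pos he] at hf
    cases h
    rw [← Nat.eq_of_beq_eq_true hij, F.tm_mul, ← hf, F.tm_div P x f.a, smul_smul, smul_smul, ← F.sconj _ hr]
  · exact absurd h (by simp)

theorem bwdStep_sound (P : ℕ → X) {f : Fact} (hf : Holds ρ s P f) {x i : ℕ} {p : ℕ × ℕ}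
    (h : bwdStep f x i = some p) : tm ρ P p.1 p.2 = s⁻¹ • tm ρ P x i := by
  unfold Cfsg.Agent.J2Uniq.bwdStep at h
  unfold Holds at hf
  split at h
  · rename_i hc
    simp only [Bool.and_eq_true] at hc
    obtain ⟨⟨he, hij⟩, hr⟩ := hc
    rw [if_pos he] at hf
    cases h
    rw [← Nat.eq_of_beq_eq_true hij, F.tm_mul, F.tm_div P x f.b, smul_smul, F.sconj_inv hr, mul_smul, ← hf,
      inv_smul_smul]
  · exact absurd h (by simp)

theorem oneMove_sound (P : ℕ → X) {T lim : ℕ} (hF : ∀ k < lim, Holds ρ s P (fact T k)) {m : ℕ} {L L' : List Letter}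
    {x i x' i' : ℕ} (h : oneMove T lim m L x i = some (L', x', i')) :
    wordG ρ s L • tm ρ P x i = wordG ρ s L' • tm ρ P x' i' := by
  unfold oneMove at h
  split at h
  · split at h
    · simp only [Option.some.injEq, Prod.mk.injEq] at h
      obtain ⟨rfl, rfl, rfl⟩ := h
      rw [F.tm_mul, Cfsg.Agent.J2Uniq.wordG, mul_smul]
      rfl
    · simp at h
  · split at h
    · rename_i hk
      have hf := hF _ (Nat.le_of_ble_eq_true hk)
      split at h
      · split at h
        · simp only [Option.map_eq_some_iff, Prod.mk.injEq] at h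
          obtain ⟨p, hp, rfl, rfl, rfl⟩ := h
          rw [F.fwdStep_sound P hf hp, Cfsg.Agent.J2Uniq.wordG, mul_smul]
          rfl
        · simp only [Option.map_eq_some_iff, Prod.mk.injEq] at h
          obtain ⟨p, hp, rfl, rfl, rfl⟩ := h
          rw [F.bwdStep_sound P hf hp, Cfsg.Agent.J2Uniq.wordG, mul_smul]
          rfl
        · simp at h
      · simp only [Option.map_eq_some_iff, Prod.mk.injEq] at h
        obtain ⟨p, hp, rfl, rfl, rfl⟩ := h
        rw [F.eqStep_sound P hf hp]
    · simp at h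

theorem walkP_sound (P : ℕ → X) {T lim : ℕ} (hF : ∀ k < lim, Holds ρ s P (fact T k)) :
    ∀ (n ms : ℕ) (L : List Letter) (x i : ℕ) {p : ℕ × ℕ}, walkP T lim n ms L x i = some p →
      tm ρ P p.1 p.2 = wordG ρ s L • tm ρ P x i := by
  intro n
  induction n with
  | zero =>
    intro ms L x i p h
    cases L with
    | nil => simp [walkP] at h; subst h; simp [Cfsg.Agent.J2Uniq.wordG]
    | cons l L => simp [walkP] at h
  | succ n ih =>
    intro ms L x i p h
    simp only [walkP] at h
    cases hm : oneMove T lim (ms % 2 ^ 18) L x i with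
    | none => rw [hm] at h; simp at h
    | some q =>
      obtain ⟨L', x', i'⟩ := q
      rw [hm] at h
      simp only [force_eq] at h
      rw [ih _ _ _ _ h, F.oneMove_sound P hF hm]

theorem cmdOk_sound (P : ℕ → X) {T k c : ℕ} (hF : ∀ j < k, Holds ρ s P (fact T j)) (h : cmdOk T k c = true) :
    Holds ρ s P (fact T k) := by
  unfold cmdOk at h
  simp only at h
  set f := fact T k
  set x := c % 2048
  set i := (c / 2 ^ 11) % 512
  set pos := (c / 2 ^ 23) % 64
  have hL : wordG ρ s (rels.getD ((c / 2 ^ 20) % 8) []) = 1 := by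
    by_cases hk : (c / 2 ^ 20) % 8 < rels.length
    · rw [List.getD_eq_getElem _ _ hk]; exact F.rel _ (List.getElem_mem _)
    · rw [List.getD_eq_default _ _ (by omega)]; rfl
  set L := rels.getD ((c / 2 ^ 20) % 8) [] with hLdef
  clear_value L
  split at h
  · simp at h
  rename_i A hA
  have eA := F.walkP_sound P hF _ _ _ _ _ hA
  split at h
  · simp at h
  rename_i B hB
  have eB := F.walkP_sound P hF _ _ _ _ _ hB
  rw [F.word_flip] at eB
  have hsplit : wordG ρ s (L.drop pos) * wordG ρ s (L.take pos) = 1 := by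
    rw [← wordG_append, List.take_append_drop, hL]
  split at h
  · rename_i hgap
    rw [if_pos hgap] at eB
    split at h
    all_goals first | (simp at h; done) | skip
    all_goals rename_i rest hD
    all_goals simp only [Bool.and_eq_true] at h
    all_goals obtain ⟨⟨⟨⟨he, h1⟩, h2⟩, h3⟩, h4⟩ := h
    all_goals replace h1 := Nat.eq_of_beq_eq_true h1
    all_goals replace h2 := Nat.eq_of_beq_eq_true h2
    all_goals replace h3 := Nat.eq_of_beq_eq_true h3
    all_goals replace h4 := Nat.eq_of_beq_eq_true h4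
    · have hrest : L.drop (pos + 1) = rest := by rw [← List.tail_drop, hD]; rfl
      rw [hrest] at eB
      rw [hD, Cfsg.Agent.J2Uniq.wordG, mul_assoc] at hsplit
      simp only [Holds, he, if_true, h1, h2, h3, h4]
      rw [eB, eA, inv_eq_of_mul_eq_one_right hsplit, smul_smul]
      rfl
    · have hrest : L.drop (pos + 1) = rest := by rw [← List.tail_drop, hD]; rfl
      rw [hrest] at eB
      rw [hD, Cfsg.Agent.J2Uniq.wordG, mul_assoc] at hsplit
      simp only [Holds, he, if_true, h1, h2, h3, h4]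
      rw [eB, eA, inv_eq_of_mul_eq_one_right hsplit, ← mul_smul, ← mul_assoc,
        show s * letterG ρ s Letter.si = 1 from mul_inv_cancel s, one_mul]
  · rename_i hgap
    rw [if_neg hgap, inv_eq_of_mul_eq_one_right hsplit] at eB
    simp only [Bool.and_eq_true, Bool.not_eq_true'] at h
    obtain ⟨⟨⟨⟨he, h1⟩, h2⟩, h3⟩, h4⟩ := h
    simp only [Holds, he, Bool.false_eq_true, if_false, Nat.eq_of_beq_eq_true h1, Nat.eq_of_beq_eq_true h2,
      Nat.eq_of_beq_eq_true h3, Nat.eq_of_beq_eq_true h4]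
    rw [eA, eB]

/-- The points of the nodes. -/
theorem defs_sound (x0 : X) (T : ℕ) : ∀ n, (∀ d < n, defOk (d + 1) (fact T (3 + d)) = true) →
    ∃ P : ℕ → X, P 0 = x0 ∧ ∀ d < n, Holds ρ s P (fact T (3 + d)) := by
  intro n
  induction n with
  | zero => exact fun _ => ⟨fun _ => x0, rfl, fun d hd => absurd hd (by omega)⟩
  | succ n ih =>
    intro h
    obtain ⟨P, hP0, hP⟩ := ih fun d hd => h d (by omega)
    set f := fact T (3 + n) with hf
    have hn := h n (by omega)
    simp only [defOk, Bool.and_eq_true, Bool.or_eq_true, ← hf] at hn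
    obtain ⟨he, hcase⟩ := hn
    let v : X := if Nat.beq f.j (n + 1) && Nat.beq f.b 0 && Nat.blt f.i (n + 1) then s • tm ρ P f.a f.i
      else s⁻¹ • tm ρ P f.b f.j
    refine ⟨Function.update P (n + 1) v, by rw [Function.update_of_ne (by omega), hP0], ?_⟩
    have hsame : ∀ a i, i < n + 1 → tm ρ (Function.update P (n + 1) v) a i = tm ρ P a i := fun a i hi => by
      rw [tm, tm, Function.update_of_ne (by omega)]
    have hnew : tm ρ (Function.update P (n + 1) v) 0 (n + 1) = v := by
      rw [tm, Function.update_self, F.zero, one_smul]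
    intro d hd
    rcases Nat.lt_succ_iff_lt_or_eq.1 hd with hd | rfl
    · have hh := hP d hd
      have hd' := h d (by omega)
      simp only [defOk, Bool.and_eq_true, Bool.or_eq_true] at hd'
      obtain ⟨he', hc'⟩ := hd'
      simp only [Holds, he', if_true] at hh ⊢
      rcases hc' with ⟨⟨-, e1⟩, e2⟩ | ⟨⟨-, e1⟩, e2⟩ <;>
      · have e1' := Nat.eq_of_beq_eq_true e1
        have e2' := Nat.le_of_ble_eq_true e2
        rw [hsame _ _ (by omega), hsame _ _ (by omega)]
        exact hh
    · rw [← hf]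
      simp only [Holds, he, if_true]
      by_cases hfwd : (Nat.beq f.j (d + 1) && Nat.beq f.b 0 && Nat.blt f.i (d + 1)) = true
      · have hv : v = s • tm ρ P f.a f.i := if_pos hfwd
        simp only [Bool.and_eq_true] at hfwd
        obtain ⟨⟨e1, e2⟩, e3⟩ := hfwd
        rw [hsame _ _ (Nat.le_of_ble_eq_true e3), Nat.eq_of_beq_eq_true e1, Nat.eq_of_beq_eq_true e2, hnew, hv]
      · have hv : v = s⁻¹ • tm ρ P f.b f.j := if_neg hfwd
        rcases hcase with ⟨⟨e1, e2⟩, e3⟩ | ⟨⟨e1, e2⟩, e3⟩
        · exact absurd (by rw [e1, e2, e3]; rfl) hfwd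
        · rw [hsame f.b f.j (Nat.le_of_ble_eq_true e3), Nat.eq_of_beq_eq_true e1, Nat.eq_of_beq_eq_true e2, hnew, hv,
            smul_inv_smul]

end Sys

end Cfsg.Agent.J3Uniq
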