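import Cfsg.Agent.Lib.J3Uniq.ModelChecks
import Cfsg.Agent.Lib.J3Uniq.Sound
import Cfsg.Agent.Lib.J3.Simple

/-!
The relations of the certificate hold in the simple group, and the elements involved generate it.
-/

set_option autoImplicit false
set_option linter.all false
set_option maxRecDepth 100000

namespace Cfsg.Agent.J3Uniq.Model

open Cfsg.Spor
open Cfsg.Agent.Lib.J3 (Fld InG el all_range blt_lt)
open Cfsg.Agent.J2Uniq (Letter wordG letterG inCU phi inv ec cc)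
open scoped MatrixGroups

variable {F : Type*} [Field F] {ω : F}

/-- The image of a matrix in the simple group. -/
noncomputable def pj (ω : F) (m : ℕ) : J3 F ω :=
  QuotientGroup.mk' (Subgroup.center (threeJ3 F ω)) (el ω m)

/-- The image of a code. -/
noncomputable def rJ (ω : F) (a : ℕ) : J3 F ω := pj ω (rc (a % 1920))

/-- The image of the element of order three. -/
noncomputable def sJ (ω : F) : J3 F ω := pj ω sc

theorem pj_mul (h : Fld F ω) {a b : ℕ} (ha : InG ω a) (hb : InG ω b) :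
    pj ω (Lib.J3.mul a b) = pj ω a * pj ω b := by
  rw [pj, h.el_mul ha hb, map_mul]; rfl

theorem pj_idM (h : Fld F ω) : pj ω Lib.J3.idM = 1 := by rw [pj, h.el_idM, map_one]

variable [Finite F]

theorem pj_scal (h : Fld F ω) (k : ℕ) : pj ω (Lib.J3.scal k) = 1 := by
  obtain ⟨m, hm⟩ := h.el_scal k
  rw [pj, hm, map_pow, show QuotientGroup.mk' (Subgroup.center (threeJ3 F ω)) (Lib.J3.scalGen ω) = 1 from
    (QuotientGroup.eq_one_iff _).2 h.scalGen_central, one_pow]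

theorem treeOk_spec : (∀ k < 3, Lib.J3.dok (MData.trips.getD k 0) = true ∧ rc (g3 k) = Lib.J3.dval (MData.trips.getD k 0)) ∧
    Lib.J3.dok (MData.trips.getD 3 0) = true ∧ rc 0 = Lib.J3.idM ∧ ord 0 = 0 ∧ rc 16 = Lib.J3.Cent.zc ∧
    (∀ a < 1920, Lib.J3.tab 11 MData.posTab a < 1920 ∧ ord (Lib.J3.tab 11 MData.posTab a) = a) ∧
    ∀ j < 1919, Lib.J3.tab 13 MData.parent (j + 1) / 4 ≤ j ∧ Lib.J3.tab 13 MData.parent (j + 1) % 4 < 3 ∧
      ord (j + 1) = J2Uniq.mul (g3 (Lib.J3.tab 13 MData.parent (j + 1) % 4))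
        (ord (Lib.J3.tab 13 MData.parent (j + 1) / 4)) := by
  have e := treeOk_eq
  simp only [treeOk, Bool.and_eq_true] at e
  obtain ⟨⟨⟨⟨⟨⟨e1, e2⟩, e3⟩, e4⟩, e5⟩, e6⟩, e7⟩ := e
  refine ⟨fun k hk => ?_, e2, Nat.eq_of_beq_eq_true e3, Nat.eq_of_beq_eq_true e4, Nat.eq_of_beq_eq_true e5,
    fun a ha => ?_, fun j hj => ?_⟩
  · have := all_range e1 hk
    rw [Bool.and_eq_true] at this
    exact ⟨this.1, Nat.eq_of_beq_eq_true this.2⟩
  · have := all_range e6 ha
    rw [Bool.and_eq_true] at this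
    exact ⟨blt_lt this.1, Nat.eq_of_beq_eq_true this.2⟩
  · have := all_range e7 hj
    simp only [Bool.and_eq_true] at this
    exact ⟨Nat.lt_succ_iff.1 (blt_lt this.1.1), blt_lt this.1.2, Nat.eq_of_beq_eq_true this.2⟩

theorem left_spec {k a : ℕ} (hk : k < 3) (ha : a < 1920) :
    rc (J2Uniq.mul (g3 k) a) = Lib.J3.mul (rc (g3 k)) (rc a) := by
  interval_cases k
  · exact Nat.eq_of_beq_eq_true (all_range leftOk_0 ha)
  · exact Nat.eq_of_beq_eq_true (all_range leftOk_1 ha)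
  · exact Nat.eq_of_beq_eq_true (all_range leftOk_2 ha)

theorem inG_gen (h : Fld F ω) {k : ℕ} (hk : k < 3) : InG ω (rc (g3 k)) := by
  rw [(treeOk_spec.1 k hk).2]; exact (h.dval_spec (treeOk_spec.1 k hk).1).1

theorem inG_sc (h : Fld F ω) : InG ω sc := (h.dval_spec treeOk_spec.2.1).1

theorem inG_ord (h : Fld F ω) : ∀ j, j < 1920 → ord j < 1920 ∧ InG ω (rc (ord j)) := by
  obtain ⟨-, -, h0, ho, -, -, hs⟩ := treeOk_spec
  intro j
  induction j using Nat.strong_induction_on with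
  | _ j ih =>
    intro hj
    rcases j with _ | j
    · rw [ho, h0]; exact ⟨by norm_num, h.inG_idM⟩
    · obtain ⟨hp, hg, e⟩ := hs j (by omega)
      obtain ⟨hl, hi⟩ := ih _ (Nat.lt_succ_iff.2 hp) (by omega)
      rw [e]
      refine ⟨J2Uniq.mul_lt _ _, ?_⟩
      rw [left_spec hg hl]
      exact h.inG_mul (inG_gen h hg) hi

theorem inG_rc (h : Fld F ω) {a : ℕ} (ha : a < 1920) : InG ω (rc a) := by
  obtain ⟨hp, e⟩ := treeOk_spec.2.2.2.2.2.1 a ha
  rw [← e]; exact (inG_ord h _ hp).2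

/-- The codes form a group. -/
structure Codes : Prop where
  assoc : ∀ a b c, J2Uniq.mul (J2Uniq.mul a b) c = J2Uniq.mul a (J2Uniq.mul b c)
  zero_mul : ∀ b < 1920, J2Uniq.mul 0 b = b

theorem rJ_lt {a : ℕ} (ha : a < 1920) : rJ ω a = pj ω (rc a) := by rw [rJ, Nat.mod_eq_of_lt ha]

theorem rJ_mod (a : ℕ) : rJ ω (a % 1920) = rJ ω a := by rw [rJ, rJ, Nat.mod_mod]

theorem rJ_zero (h : Fld F ω) : rJ ω 0 = 1 := by
  rw [rJ_lt (by norm_num), treeOk_spec.2.2.1, pj_idM h]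

theorem rJ_gen_mul (h : Fld F ω) {k : ℕ} (hk : k < 3) {b : ℕ} (hb : b < 1920) :
    rJ ω (J2Uniq.mul (g3 k) b) = pj ω (rc (g3 k)) * rJ ω b := by
  rw [rJ_lt (J2Uniq.mul_lt _ _), rJ_lt hb, left_spec hk hb, pj_mul h (inG_gen h hk) (inG_rc h hb)]

theorem rJ_mul_lt (h : Fld F ω) (C : Codes) : ∀ j, j < 1920 → ∀ b < 1920,
    rJ ω (J2Uniq.mul (ord j) b) = rJ ω (ord j) * rJ ω b := by
  obtain ⟨-, -, -, ho, -, -, hs⟩ := treeOk_spec
  intro j
  induction j using Nat.strong_induction_on with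
  | _ j ih =>
    intro hj b hb
    rcases j with _ | j
    · rw [ho, C.zero_mul b hb, rJ_zero h, one_mul]
    · obtain ⟨hp, hg, e⟩ := hs j (by omega)
      rw [e, C.assoc, rJ_gen_mul h hg (J2Uniq.mul_lt _ _), ih _ (Nat.lt_succ_iff.2 hp) (by omega) b hb,
        rJ_gen_mul h hg (inG_ord h _ (lt_of_le_of_lt hp (by omega))).1, mul_assoc]

theorem rJ_mul (h : Fld F ω) (C : Codes) (a b : ℕ) : rJ ω (J2Uniq.mul a b) = rJ ω a * rJ ω b := by
  rw [← J2Uniq.mul_mod_left a b, ← J2Uniq.mul_mod_right _ b, ← rJ_mod a, ← rJ_mod b]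
  obtain ⟨hp, e⟩ := treeOk_spec.2.2.2.2.2.1 (a % 1920) (Nat.mod_lt _ (by norm_num))
  conv_lhs => rw [← e]
  rw [rJ_mul_lt h C _ hp _ (Nat.mod_lt _ (by norm_num)), e]

theorem rJ_inv (h : Fld F ω) (C : Codes) {a : ℕ} (ha : a < 1920) : rJ ω (inv a) = (rJ ω a)⁻¹ :=
  (inv_eq_of_mul_eq_one_right (by rw [← rJ_mul h C, J2Uniq.inv_ok a ha, rJ_zero h])).symm

theorem sJ_conj (h : Fld F ω) {r : ℕ} (hr : inCU r = true) : sJ ω * rJ ω r = rJ ω (phi r) * sJ ω := by
  rw [← J2Uniq.inCU_mod] at hr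
  rw [← rJ_mod r, ← J2Uniq.phi_mod r]
  have hr' : r % 1920 < 1920 := Nat.mod_lt _ (by norm_num)
  generalize r % 1920 = a at hr hr'
  have hp : phi a < 1920 := by rw [← (J2Uniq.cu_ok a hr' hr).2.1]; exact J2Uniq.ev_lt _ _
  have e := all_range actOk_eq hr'
  simp only [Bool.and_eq_true, Bool.or_eq_true, Bool.not_eq_true'] at e
  rcases e.2 with e | e
  · rw [hr] at e; cases e
  · rw [rJ_lt hr', rJ_lt hp, sJ, ← pj_mul h (inG_sc h) (inG_rc h hr'), Nat.eq_of_beq_eq_true e,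
      pj_mul h (inG_rc h hp) (inG_sc h)]

theorem pj_pw (h : Fld F ω) {m : ℕ} (hm : InG ω m) : ∀ n, InG ω (pw m n) ∧ pj ω (pw m n) = pj ω m ^ n
  | 0 => ⟨h.inG_idM, by rw [pw, pj_idM h, pow_zero]⟩
  | n + 1 => ⟨h.inG_mul hm (pj_pw h hm n).1, by rw [pw, pj_mul h hm (pj_pw h hm n).1, (pj_pw h hm n).2, pow_succ']⟩

theorem sJ_s3 (h : Fld F ω) : sJ ω * sJ ω * sJ ω = 1 := by
  rw [sJ, ← pj_mul h (inG_sc h) (inG_sc h), ← pj_mul h (h.inG_mul (inG_sc h) (inG_sc h)) (inG_sc h), rels_eq.1,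
    pj_idM h]

theorem sJ_twist (h : Fld F ω) : rJ ω ec * sJ ω * rJ ω ec * sJ ω = rJ ω cc := by
  have s := inG_sc h
  have e := inG_rc h (show ec < 1920 by decide)
  have c := inG_rc h (show cc < 1920 by decide)
  have := congrArg (pj ω) rels_eq.2.1
  rw [pj_mul h e (h.inG_mul s (h.inG_mul e s)), pj_mul h s (h.inG_mul e s), pj_mul h e s,
    pj_mul h (h.inG_scal 1) c, pj_scal h, one_mul] at this
  rw [rJ_lt (show ec < 1920 by decide), rJ_lt (show cc < 1920 by decide), sJ, ← this]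
  simp only [mul_assoc]

theorem sJ_five (h : Fld F ω) : (rJ ω 384 * sJ ω * rJ ω 384 * sJ ω) ^ 5 = 1 := by
  have s := inG_sc h
  have e := inG_rc h (show 384 < 1920 by decide)
  have hw := h.inG_mul e (h.inG_mul s (h.inG_mul e s))
  have := congrArg (pj ω) rels_eq.2.2.1
  rw [(pj_pw h hw 5).2, pj_mul h e (h.inG_mul s (h.inG_mul e s)), pj_mul h s (h.inG_mul e s), pj_mul h e s,
    pj_scal h] at this
  rw [rJ_lt (show 384 < 1920 by decide), sJ, ← this]
  simp only [mul_assoc]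

theorem sJ_four (h : Fld F ω) (C : Codes) : (sJ ω * rJ ω 386 * sJ ω * (rJ ω 386)⁻¹) ^ 4 = 1 := by
  have s := inG_sc h
  have e := inG_rc h (show 386 < 1920 by decide)
  have hi : inv 386 < 1920 := by decide +kernel
  have f := inG_rc h hi
  have hw := h.inG_mul s (h.inG_mul e (h.inG_mul s f))
  have := congrArg (pj ω) rels_eq.2.2.2
  rw [(pj_pw h hw 4).2, pj_mul h s (h.inG_mul e (h.inG_mul s f)), pj_mul h e (h.inG_mul s f), pj_mul h s f,
    pj_scal h] at this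
  rw [← rJ_inv h C (show 386 < 1920 by decide), rJ_lt (show 386 < 1920 by decide), rJ_lt hi, sJ, ← this]
  simp only [mul_assoc]

theorem pj_word (h : Fld F ω) : ∀ w : List ℕ, (∀ k ∈ w, k < 4) →
    InG ω (Lib.J3.mulList (w.map lc)) ∧
      pj ω (Lib.J3.mulList (w.map lc)) ∈ Subgroup.closure (Set.range (rJ ω) ∪ {sJ ω})
  | [], _ => ⟨h.inG_idM, by rw [show pj ω (Lib.J3.mulList (List.map lc [])) = 1 from pj_idM h]; exact one_mem _⟩
  | k :: w, hw => by
    obtain ⟨i, m⟩ := pj_word h w fun j hj => hw j (List.mem_cons_of_mem _ hj)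
    have hk : k < 4 := hw k List.mem_cons_self
    have hl : InG ω (lc k) ∧ pj ω (lc k) ∈ Subgroup.closure (Set.range (rJ ω) ∪ {sJ ω}) := by
      unfold lc
      split_ifs with h3
      · exact ⟨inG_sc h, Subgroup.subset_closure (Or.inr rfl)⟩
      · have hg : g3 k < 1920 := by interval_cases k <;> decide
        exact ⟨inG_gen h (by omega), Subgroup.subset_closure (Or.inl ⟨g3 k, rJ_lt hg⟩)⟩
    rw [List.map_cons, show Lib.J3.mulList (lc k :: w.map lc) = Lib.J3.mul (lc k) (Lib.J3.mulList (w.map lc)) from rfl,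
      pj_mul h hl.1 i]
    exact ⟨h.inG_mul hl.1 i, mul_mem hl.2 m⟩

theorem generate (h : Fld F ω) : Subgroup.closure (Set.range (rJ ω) ∪ {sJ ω}) = ⊤ := by
  set H := Subgroup.closure (Set.range (rJ ω) ∪ {sJ ω}) with hH
  have hword : ∀ j < 6, pj ω (if Nat.blt j 5 then Lib.J3.hg (j + 1) else Lib.J3.tr 1) ∈ H := by
    intro j hj
    have e := all_range wordsOk_eq hj
    simp only [Bool.and_eq_true, List.all_eq_true] at e
    obtain ⟨⟨e1, e2⟩, e3⟩ := e
    have hw := pj_word h _ fun k hk => blt_lt (e1 k hk)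
    have ha := blt_lt e2
    rw [Nat.eq_of_beq_eq_true e3, pj_mul h (h.inG_scal _) (h.inG_mul hw.1 (inG_rc h ha)), pj_scal h, one_mul,
      pj_mul h hw.1 (inG_rc h ha), ← rJ_lt ha]
    exact mul_mem hw.2 (Subgroup.subset_closure (Or.inl ⟨_, rfl⟩))
  have hle : Lib.J3.bigGp ω ≤ H.comap (QuotientGroup.mk' _) := by
    refine (Subgroup.closure_le _).2 (Set.union_subset ?_ ?_)
    · refine (Subgroup.closure_le _).2 ?_
      rintro _ ⟨g, rfl⟩
      show pj ω (Lib.J3.hg g) ∈ H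
      obtain ⟨g, hg⟩ := g
      rcases g with _ | j
      · rw [show Lib.J3.hg 0 = Lib.J3.scal 1 from rfl, pj_scal h]; exact one_mem _
      · have := hword j (by omega)
        rwa [if_pos (show Nat.blt j 5 = true from Nat.ble_eq_true_of_le (by omega))] at this
    · rintro _ rfl
      exact hword 5 (by norm_num)
  rw [h.bigGp_eq_top, top_le_iff] at hle
  rw [eq_top_iff]
  intro x _
  obtain ⟨g, rfl⟩ := QuotientGroup.mk'_surjective _ x
  have : g ∈ H.comap (QuotientGroup.mk' _) := by rw [hle]; exact Subgroup.mem_top g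
  exact this

end Cfsg.Agent.J3Uniq.Model
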