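import Cfsg.Agent.Lib.J3Uniq.Rels
import Cfsg.Agent.Lib.J3Uniq.CertChecks
import Cfsg.Agent.Lib.J3Uniq.Model

/-!
A group with a frame satisfying the relations contains a copy of the third Janko group through the frame.
-/

set_option autoImplicit false
set_option linter.all false
set_option maxRecDepth 100000

namespace Cfsg.Agent.J3Uniq.Finish

open Cfsg.Spor
open Cfsg.Agent.Lib.J3 (Fld all_range)
open Cfsg.Agent.J2Uniq (Letter wordG letterG inCU phi inv ec cc zc mul mul_lt inv_ok)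
open scoped MatrixGroups

universe v

/-- A homomorphism commutes with words. -/
theorem wordG_map {D E : Type*} [Group D] [Group E] (f : D →* E) (ρ : ℕ → D) (s : D) :
    ∀ L : List Letter, f (wordG ρ s L) = wordG (fun a => f (ρ a)) (f s) L
  | [] => map_one f
  | l :: L => by
    rw [J2Uniq.wordG, map_mul, wordG_map f ρ s L, J2Uniq.wordG]
    congr 1
    cases l <;> simp [J2Uniq.letterG]

/-- The relations as words. -/
theorem rels_hold {D : Type*} [Group D] {ρ : ℕ → D} {s : D} (hcc : ρ (inv cc) = (ρ cc)⁻¹)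
    (h386 : ρ (inv 386) = (ρ 386)⁻¹) (s3 : s * s * s = 1) (twist : ρ ec * s * ρ ec * s = ρ cc)
    (five : (ρ 384 * s * ρ 384 * s) ^ 5 = 1) (four : (s * ρ 386 * s * (ρ 386)⁻¹) ^ 4 = 1) :
    ∀ L ∈ rels, wordG ρ s L = 1 := by
  intro L hL
  simp only [rels, List.mem_cons, List.mem_nil_iff, or_false] at hL
  rcases hL with rfl | rfl | rfl | rfl | rfl | rfl <;>
    simp only [J2Uniq.wordG, J2Uniq.letterG, one_mul, hcc, h386]
  · exact s3
  · rw [← twist]; group
  · rw [← five]; simp only [pow_succ, pow_zero, one_mul, mul_assoc]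
  · rw [← four]; simp only [pow_succ, pow_zero, one_mul, mul_assoc]
  · exact inv_mul_cancel s
  · exact mul_inv_cancel s

variable {G : Type v} [Group G] {t : G} {ρ : ℕ → G} {s : G}

theorem inv_eq (R : Rels t ρ s) {a : ℕ} (ha : a < 1920) : ρ (inv a) = (ρ a)⁻¹ :=
  (inv_eq_of_mul_eq_one_right (by rw [← R.mul_eq, inv_ok a ha, R.zero])).symm

theorem rho_inj (R : Rels t ρ s) {a b : ℕ} (ha : a < 1920) (hb : b < 1920) (e : ρ a = ρ b) : a = b :=
  J2Uniq.inv_unique a ha b hb (R.inj _ (mul_lt _ _) (by rw [R.mul_eq, e, inv_eq R hb, mul_inv_cancel]))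

theorem codes (R : Rels t ρ s) : Model.Codes where
  assoc a b c := rho_inj R (mul_lt _ _) (mul_lt _ _) (by simp only [R.mul_eq, mul_assoc])
  zero_mul b hb := rho_inj R (mul_lt _ _) hb (by rw [R.mul_eq, R.zero, one_mul])

theorem rho_t (R : Rels t ρ s) : ρ 16 = t := R.zc_eq

theorem code_facts : inCU 16 = true ∧ inCU 1 = true ∧ phi 16 = 1 ∧ phi 1 = 17 ∧ mul 16 1 = 17 ∧ inv cc < 1920 ∧
    cc < 1920 := by decide +kernel

theorem center_check : ((List.range 1920).all fun a => Nat.beq a 0 || Nat.beq a 16 ||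
    (List.range 3).any fun k => !Nat.beq (mul (Model.g3 k) a) (mul a (Model.g3 k))) = true := by decide +kernel

theorem three_check : ((List.range 1920).all fun a => Nat.beq a 0 || !Nat.beq (mul a (mul a a)) 0 ||
    (List.range 3).any fun k => !Nat.beq (mul (Model.g3 k) a) (mul a (Model.g3 k)) &&
      !Nat.beq (mul (Model.g3 k) a) (mul (mul a a) (Model.g3 k))) = true := by decide +kernel

/-- The subgroup generated by the frame has no normal subgroup of order two. -/
theorem no_two (R : Rels t ρ s) {y : G} (hy : y ≠ 1) (hρ : ∀ a, ρ a * y = y * ρ a) (hs : s * y = y * s) : False := by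
  have hyC : y ∈ Subgroup.centralizer ({t} : Set G) := by
    rw [Subgroup.mem_centralizer_singleton_iff, ← rho_t R]
    exact (hρ 16).symm
  obtain ⟨a, ha, rfl⟩ := R.surj y hyC
  have e := all_range center_check ha
  simp only [Bool.or_eq_true, List.any_eq_true, Bool.not_eq_true'] at e
  obtain ⟨⟨-, -, p16, -, -, -, -⟩, i16⟩ := And.intro code_facts code_facts.1
  rcases e with (e | e) | ⟨k, -, e⟩
  · rw [Nat.eq_of_beq_eq_true e, R.zero] at hy; exact hy rfl
  · rw [Nat.eq_of_beq_eq_true e] at hs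
    have h1 := R.sconj 16 i16
    rw [p16, hs] at h1
    exact absurd (rho_inj R (by norm_num) (by norm_num) (mul_right_cancel h1)) (by norm_num)
  · have h1 := hρ (Model.g3 k)
    rw [← R.mul_eq, ← R.mul_eq] at h1
    rw [rho_inj R (mul_lt _ _) (mul_lt _ _) h1, Nat.beq_refl] at e
    exact Bool.noConfusion e

/-- The subgroup generated by the frame has no normal subgroup of order three. -/
theorem no_three (R : Rels t ρ s) {y : G} (hy : y ≠ 1) (hy3 : y * y * y = 1)
    (hρ : ∀ a, ρ a * y * (ρ a)⁻¹ = y ∨ ρ a * y * (ρ a)⁻¹ = y * y)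
    (hs : s * y * s⁻¹ = y ∨ s * y * s⁻¹ = y * y) : False := by
  obtain ⟨i16, i1, p16, p1, h17, -, -⟩ := code_facts
  have hyy : y * y ≠ y := fun e => hy (mul_left_cancel (e.trans (mul_one y).symm))
  have h4 : y * y * (y * y) = y := by rw [← mul_assoc, hy3, one_mul]
  have hs' : s * y * s⁻¹ = y := by
    rcases hs with e | e
    · exact e
    · exfalso
      have e2 : s * (y * y) * s⁻¹ = y := by rw [← conj_mul, e, h4]
      have e3 : s * (s * (s * y * s⁻¹) * s⁻¹) * s⁻¹ = y * y := by rw [e, e2, e]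
      refine hyy (e3.symm.trans ?_)
      have hi : s⁻¹ = s * s := inv_eq_of_mul_eq_one_right (by rw [← mul_assoc]; exact R.s3)
      calc s * (s * (s * y * s⁻¹) * s⁻¹) * s⁻¹ = (s * s * s) * y * (s * s * s)⁻¹ := by group
        _ = y := by rw [R.s3, one_mul, inv_one, mul_one]
  have key : ∀ r, inCU r = true → ρ r * y * (ρ r)⁻¹ = y * y → ρ (phi r) * y * (ρ (phi r))⁻¹ = y * y := by
    intro r hr e
    have e1 : ρ (phi r) = s * ρ r * s⁻¹ := by rw [R.sconj r hr, mul_inv_cancel_right]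
    have hsi : s⁻¹ * y * s = y := by
      conv_lhs => rw [← hs']
      group
    calc ρ (phi r) * y * (ρ (phi r))⁻¹ = s * (ρ r * (s⁻¹ * y * s) * (ρ r)⁻¹) * s⁻¹ := by rw [e1]; group
      _ = s * (y * y) * s⁻¹ := by rw [hsi, e]
      _ = y * y := by rw [← conj_mul, hs']
  have hty : t * y = y * t := by
    rcases hρ 16 with e | e
    · rw [rho_t R] at e; exact mul_inv_eq_iff_eq_mul.1 e
    · exfalso
      have e1 := key 16 i16 e
      rw [p16] at e1
      have e17 := key 1 i1 e1
      rw [p1, ← h17, R.mul_eq] at e17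
      refine hyy (e17.symm.trans ?_)
      calc ρ 16 * ρ 1 * y * (ρ 16 * ρ 1)⁻¹ = ρ 16 * (ρ 1 * y * (ρ 1)⁻¹) * (ρ 16)⁻¹ := by group
        _ = y := by rw [e1, ← conj_mul, e, h4]
  obtain ⟨a, ha, rfl⟩ := R.surj y (Subgroup.mem_centralizer_singleton_iff.2 hty.symm)
  have e := all_range three_check ha
  simp only [Bool.or_eq_true, List.any_eq_true, Bool.not_eq_true', Bool.and_eq_true] at e
  rcases e with (e | e) | ⟨k, -, e1, e2⟩
  · rw [Nat.eq_of_beq_eq_true e, R.zero] at hy; exact hy rfl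
  · rw [rho_inj R (mul_lt _ _) (by norm_num)
      (show ρ (mul a (mul a a)) = ρ 0 by rw [R.mul_eq, R.mul_eq, R.zero, ← mul_assoc, hy3]), Nat.beq_refl] at e
    exact Bool.noConfusion e
  · rcases hρ (Model.g3 k) with e | e
    · have h1 := mul_inv_eq_iff_eq_mul.1 e
      rw [← R.mul_eq, ← R.mul_eq] at h1
      rw [rho_inj R (mul_lt _ _) (mul_lt _ _) h1, Nat.beq_refl] at e1
      exact Bool.noConfusion e1
    · have h1 := mul_inv_eq_iff_eq_mul.1 e
      rw [← R.mul_eq, ← R.mul_eq, ← R.mul_eq] at h1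
      rw [rho_inj R (mul_lt _ _) (mul_lt _ _) h1, Nat.beq_refl] at e2
      exact Bool.noConfusion e2

variable [Finite G]

/-- The frame generates a copy of the third Janko group. -/
theorem exists_sub (R : Rels t ρ s) {F : Type*} [Field F] [Fintype F] {ω : F} (h : Fld F ω) :
    ∃ M : Subgroup G, (∀ a, ρ a ∈ M) ∧ s ∈ M ∧ Nonempty (J3 F ω ≃* M) := by
  haveI := h.isSimple
  have C := codes R
  obtain ⟨-, -, -, -, -, -, hcc⟩ := code_facts
  let S₀ : Set (G × J3 F ω) := Set.range (fun a => (ρ a, Model.rJ ω a)) ∪ {(s, Model.sJ ω)}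
  let D : Subgroup (G × J3 F ω) := Subgroup.closure S₀
  let rD : ℕ → D := fun a => ⟨(ρ a, Model.rJ ω a), Subgroup.subset_closure (Or.inl ⟨a, rfl⟩)⟩
  let sD : D := ⟨(s, Model.sJ ω), Subgroup.subset_closure (Or.inr rfl)⟩
  let φ : D →* G := (MonoidHom.fst G (J3 F ω)).comp D.subtype
  let π : D →* J3 F ω := (MonoidHom.snd G (J3 F ω)).comp D.subtype
  have S : Sys rD sD :=
    { mul_eq := fun a b => Subtype.ext (Prod.ext (R.mul_eq a b) (Model.rJ_mul h C a b))
      zero := Subtype.ext (Prod.ext R.zero (Model.rJ_zero h))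
      mod_eq := fun a => Subtype.ext (Prod.ext (R.mod_eq a) (Model.rJ_mod a))
      inj := fun a ha e => R.inj a ha (congrArg φ e)
      sconj := fun r hr => Subtype.ext (Prod.ext (R.sconj r hr) (Model.sJ_conj h hr))
      rel := fun L hL => Subtype.ext (Prod.ext
        ((wordG_map φ rD sD L).trans
          (rels_hold (inv_eq R hcc) (inv_eq R (by norm_num)) R.s3 R.twist R.five R.four L hL))
        ((wordG_map π rD sD L).trans
          (rels_hold (Model.rJ_inv h C hcc) (Model.rJ_inv h C (by norm_num)) (Model.sJ_s3 h) (Model.sJ_twist h)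
            (Model.sJ_five h) (Model.sJ_four h C) L hL))) }
  have gen : Subgroup.closure (Set.range rD ∪ {sD}) = ⊤ := by
    refine eq_top_iff.2 ((Subgroup.closure_closure_coe_preimage (k := S₀)).ge.trans ((Subgroup.closure_le _).2 ?_))
    rintro x (⟨a, ha⟩ | hx)
    · exact Subgroup.subset_closure (Or.inl ⟨a, Subtype.ext ha⟩)
    · exact Subgroup.subset_closure (Or.inr (Subtype.ext hx))
  let B : Subgroup D :=
    { carrier := Set.range rD
      one_mem' := ⟨0, S.zero⟩
      mul_mem' := by rintro _ _ ⟨a, rfl⟩ ⟨b, rfl⟩; exact ⟨mul a b, S.mul_eq a b⟩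
      inv_mem' := by rintro _ ⟨a, rfl⟩; exact ⟨inv a, S.inv_eq a⟩ }
  have hB : Nat.card B ≤ 1920 := by
    refine (Nat.card_le_card_of_surjective (fun i : Fin 1920 => (⟨rD i, i, rfl⟩ : B)) ?_).trans_eq (Nat.card_fin _)
    rintro ⟨_, a, rfl⟩
    exact ⟨⟨a % 1920, Nat.mod_lt _ (by norm_num)⟩, Subtype.ext (S.mod_eq a)⟩
  have hX : Nat.card (D ⧸ B) ≤ 81000 := by
    obtain ⟨Y, h1, h2, h3, h4⟩ := S.orbit_bound (X := D ⧸ B) EData.factTab EData.numDefs EData.numFacts EData.nodes
      ((1 : D) : D ⧸ B)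
      (fun a _ => by
        rw [MulAction.Quotient.smul_coe, smul_eq_mul, mul_one]
        exact QuotientGroup.eq.2 (by rw [mul_one]; exact B.inv_mem ⟨a, rfl⟩))
      init_ok defs_ok cmd_ok nodes_ok nodes_size.2
    have hall : ∀ q : D ⧸ B, q ∈ Y := by
      intro q
      obtain ⟨g, rfl⟩ := QuotientGroup.mk_surjective q
      have := Lib.J3.closure_subset_left (s := Set.range rD ∪ {sD}) (S := {g : D | g • ((1 : D) : D ⧸ B) ∈ Y})
        (by show (1 : D) • _ ∈ Y; rwa [one_smul]) (fun x hx y hy => by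
          show (x * y) • _ ∈ Y
          rw [mul_smul]
          rcases hx with ⟨a, rfl⟩ | rfl
          · exact h3 a _ hy
          · exact h2 _ hy) g (by rw [gen]; exact Subgroup.mem_top g)
      rwa [Set.mem_setOf_eq, MulAction.Quotient.smul_coe, smul_eq_mul, mul_one] at this
    calc Nat.card (D ⧸ B) ≤ Y.card := by
          rw [← Nat.card_eq_finsetCard]
          exact Nat.card_le_card_of_injective (fun q => (⟨q, hall q⟩ : Y)) fun a b e => congrArg Subtype.val e
      _ ≤ _ := h4.trans nodes_size.1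
  have hD : Nat.card D ≤ 81000 * 1920 := by
    rw [Subgroup.card_eq_card_quotient_mul_card_subgroup B]
    exact Nat.mul_le_mul hX hB
  have hπ : Function.Surjective π := by
    rw [← MonoidHom.range_eq_top, eq_top_iff, ← Model.generate h, Subgroup.closure_le]
    rintro x (⟨a, rfl⟩ | rfl)
    · exact ⟨rD a, rfl⟩
    · exact ⟨sD, rfl⟩
  have hK : Nat.card π.ker ≤ 3 := by
    have e := Subgroup.index_mul_card π.ker
    rw [Subgroup.index_ker, MonoidHom.range_eq_top.2 hπ, Subgroup.card_top, h.card_J3] at e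
    omega
  have hle : π.ker ≤ φ.ker := by
    set K := π.ker.map φ with hKdef
    have hcard : Nat.card K ≤ 3 :=
      (Nat.card_le_card_of_surjective (fun x : π.ker => (⟨φ x, x.1, x.2, rfl⟩ : K))
        (by rintro ⟨_, x, hx, rfl⟩; exact ⟨⟨x, hx⟩, rfl⟩)).trans hK
    suffices hbot : K = ⊥ by exact fun x hx => Subgroup.mem_bot.1 (hbot ▸ Subgroup.mem_map_of_mem φ hx)
    by_contra hne
    obtain ⟨y, hy, hy1⟩ := (Subgroup.ne_bot_iff_exists_ne_one.1 hne : ∃ y : K, y ≠ 1).elim
      fun y hy => (⟨y.1, y.2, fun e => hy (Subtype.ext e)⟩ : ∃ y : G, y ∈ K ∧ y ≠ 1)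
    have hconj : ∀ d : D, φ d * y * (φ d)⁻¹ ∈ K := by
      intro d
      obtain ⟨k, hk, rfl⟩ := hy
      exact ⟨d * k * d⁻¹, (inferInstance : π.ker.Normal).conj_mem k hk d, by rw [map_mul, map_mul, map_inv]⟩
    have h2 : 2 ≤ Nat.card K := (Subgroup.one_lt_card_iff_ne_bot K).2 hne
    have hz : ∀ w ∈ K, ∃ i < Nat.card K, w = y ^ i := by
      intro w hw
      have hp : (Nat.card K).Prime := by
        rcases (show Nat.card K = 2 ∨ Nat.card K = 3 by omega) with e | e <;> rw [e] <;> norm_num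
      haveI := Fact.mk hp
      have hne' : (⟨y, hy⟩ : K) ≠ 1 := fun e => hy1 (congrArg Subtype.val e)
      obtain ⟨n, hn⟩ := (mem_powers_of_prime_card rfl hne' : (⟨w, hw⟩ : K) ∈ Submonoid.powers ⟨y, hy⟩)
      refine ⟨n % Nat.card K, Nat.mod_lt _ hp.pos, ?_⟩
      have e := congrArg Subtype.val hn
      simp only [SubmonoidClass.coe_pow] at e
      have h1 : y ^ Nat.card K = 1 := congrArg Subtype.val (pow_card_eq_one' (x := (⟨y, hy⟩ : K)))
      rw [← e]
      exact pow_eq_pow_mod n h1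
    have hyn : y ^ Nat.card K = 1 := congrArg Subtype.val (pow_card_eq_one' (x := (⟨y, hy⟩ : K)))
    have hopt : ∀ d : D, φ d * y * (φ d)⁻¹ = y ∨ (Nat.card K = 3 ∧ φ d * y * (φ d)⁻¹ = y * y) := by
      intro d
      obtain ⟨i, hi, e⟩ := hz _ (hconj d)
      rcases (show i = 0 ∨ i = 1 ∨ (Nat.card K = 3 ∧ i = 2) by omega) with rfl | rfl | ⟨h3, rfl⟩
      · rw [pow_zero, conj_eq_one_iff] at e; exact absurd e hy1
      · exact Or.inl (e.trans (pow_one y))
      · exact Or.inr ⟨h3, e.trans (pow_two y)⟩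
    rcases (show Nat.card K = 2 ∨ Nat.card K = 3 by omega) with e2 | e3
    · have hc : ∀ d : D, φ d * y = y * φ d := fun d =>
        mul_inv_eq_iff_eq_mul.1 ((hopt d).resolve_right fun hh => by omega)
      exact no_two R hy1 (fun a => hc (rD a)) (hc sD)
    · refine no_three R hy1 (by rw [← pow_two, ← pow_succ]; rw [e3] at hyn; exact hyn)
        (fun a => (hopt (rD a)).imp id And.right) ((hopt sD).imp id And.right)
  let ψ : J3 F ω →* G := π.liftOfSurjective hπ ⟨φ, hle⟩
  have hψ : ∀ d, ψ (π d) = φ d := fun d => MonoidHom.liftOfRightInverse_comp_apply _ _ _ _ d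
  have hinj : Function.Injective ψ := by
    rw [← MonoidHom.ker_eq_bot_iff]
    refine (IsSimpleGroup.eq_bot_or_eq_top_of_normal ψ.ker inferInstance).resolve_right fun e => ?_
    have h1 : ψ (π (rD 1)) = 1 := MonoidHom.mem_ker.1 (e ▸ Subgroup.mem_top _)
    rw [hψ] at h1
    exact absurd (R.inj 1 (by norm_num) h1) (by norm_num)
  exact ⟨ψ.range, fun a => ⟨π (rD a), hψ (rD a)⟩, ⟨π sD, hψ sD⟩, ⟨MonoidHom.ofInjective hinj⟩⟩

end Cfsg.Agent.J3Uniq.Finish
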