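import Mathlib
import Cfsg.Agent.Lib.J2Uniq.Start
import Cfsg.Agent.Lib.JankoTwo.Classes

/-!
The centralizer of an involution of type `2^{1+4}.A₅` by codes: an element of order three, its centralizer, and
the elementary abelian subgroup of order sixteen.
-/

set_option autoImplicit false
set_option linter.all false
set_option maxRecDepth 100000
set_option maxHeartbeats 1000000

namespace Cfsg.Agent.J3Uniq.Local

open Cfsg.Agent.J2Uniq Subgroup InvChar.JankoTwoCount

universe v

/-- The code of an element of order three. -/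
def yc : ℕ := 32

/-- The codes of the two-part of its centralizer. -/
def fD : DihedralGroup 4 → ℕ
  | .r i => [0, 3, 16, 19].getD i.val 0
  | .sr i => [1, 2, 17, 18].getD i.val 0

/-- The codes of the centralizer of the involution `tc`. -/
def inA (a : ℕ) : Bool := Nat.beq (J2Uniq.mul a tc) (J2Uniq.mul tc a)

/-- The codes of the normalizer of the elementary abelian subgroup. -/
def inN (g : ℕ) : Bool :=
  ([0, 1, 16, 17, 96, 97, 112, 113, 256, 257, 272, 273, 352, 353, 368, 369] : List ℕ).all fun a => inA (cj g a)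

theorem fD_mul : ∀ a b : DihedralGroup 4, J2Uniq.mul (fD a) (fD b) = fD (a * b) := by decide +kernel

theorem fD_ok : ∀ a : DihedralGroup 4, fD a < 1920 ∧ J2Uniq.mul (fD a) yc = J2Uniq.mul yc (fD a) ∧
    (fD a = 0 ∨ fD a = 32 ∨ fD a = 64 → a = 1) := by decide +kernel

theorem cy_ok : ∀ a < 1920, J2Uniq.mul a yc = J2Uniq.mul yc a →
    ∃ d : DihedralGroup 4, ∃ i < 3, a = J2Uniq.mul (fD d) (32 * i) := by decide +kernel

theorem three_conj : ∀ a < 1920, J2Uniq.mul a (J2Uniq.mul a a) = 0 → a ≠ 0 →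
    ∃ g < 1920, cj g a = 32 ∨ cj g a = 64 := by decide +kernel

theorem inv_conj : ∀ a ∈ Data.invs, pp a ≠ 0 → ∃ g < 1920, cj g a = tc := by decide +kernel

theorem q_count : ((Finset.range 32).filter fun q => J2Uniq.mul q q = 0).card = 12 := by decide +kernel

theorem inA_ok : ∀ a < 1920, inA a = true → J2Uniq.mul a a = 0 ∧
    ([0, 1, 16, 17, 96, 97, 112, 113, 256, 257, 272, 273, 352, 353, 368, 369] : List ℕ).contains a = true := by
  decide +kernel

theorem Alist_ok : ∀ a ∈ ([0, 1, 16, 17, 96, 97, 112, 113, 256, 257, 272, 273, 352, 353, 368, 369] : List ℕ),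
    a < 1920 ∧ inA a = true := by decide +kernel

theorem inA_comm : ∀ a ∈ ([0, 1, 16, 17, 96, 97, 112, 113, 256, 257, 272, 273, 352, 353, 368, 369] : List ℕ),
    ∀ b ∈ ([0, 1, 16, 17, 96, 97, 112, 113, 256, 257, 272, 273, 352, 353, 368, 369] : List ℕ),
      J2Uniq.mul a b = J2Uniq.mul b a := by decide +kernel

theorem A_count : ((Finset.range 1920).filter fun a => inA a = true).card = 16 := by decide +kernel

theorem N_count : ((Finset.range 1920).filter fun g => inN g = true).card = 192 := by decide +kernel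

/-- The centralizer of `t` by codes. -/
structure Chart {G : Type v} [Group G] (t : G) (ρ : ℕ → G) : Prop where
  mul_eq : ∀ a b, ρ (J2Uniq.mul a b) = ρ a * ρ b
  zero : ρ 0 = 1
  zc_eq : ρ zc = t
  inj : ∀ a < 1920, ρ a = 1 → a = 0
  mem : ∀ a, ρ a * t = t * ρ a
  mod_eq : ∀ a, ρ (a % 1920) = ρ a
  surj : ∀ g : G, g * t = t * g → ∃ a < 1920, ρ a = g

variable {G : Type v} [Group G] [Finite G] {t : G} {ρ : ℕ → G}

theorem exists_chart {Q K : Subgroup (Subgroup.centralizer ({t} : Set G))} (S : Setting Q K (JankoTwo.zed t)) :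
    ∃ ρ : ℕ → G, Chart t ρ := by
  classical
  obtain ⟨eK⟩ := S.iso
  obtain ⟨τ, hτ2, hτ1⟩ : ∃ τ : alternatingGroup (Fin 5), τ * τ = 1 ∧ τ ≠ 1 := by decide +kernel
  set k0 : Subgroup.centralizer ({t} : Set G) := ((eK.symm τ : K) : Subgroup.centralizer ({t} : Set G)) with hk0
  have hk0K : k0 ∈ K := (eK.symm τ).2
  have hk02 : k0 * k0 = 1 := by rw [hk0, ← Subgroup.coe_mul, ← map_mul, hτ2, map_one]; rfl
  have hk01 : k0 ≠ 1 := fun e => hτ1 (eK.symm.injective ((Subtype.ext e : eK.symm τ = 1).trans eK.symm.map_one.symm))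
  obtain ⟨u, hu, hus, -⟩ := JankoTwo.setting_fix_involution S hk0K hk02 hk01
  obtain ⟨uu, kk, hC, -, -⟩ := exists_coord S hu hk0K hk02 hk01 hus.symm
  have hcard : Nat.card (Subgroup.centralizer ({t} : Set G)) = 1920 := by
    have hF : Function.Bijective (fun p : Q × K => (p.1 : Subgroup.centralizer ({t} : Set G)) * p.2) := by
      refine ⟨fun p p' e => ?_, fun c => ?_⟩
      · obtain ⟨e1, e2⟩ := S.eq_of_mul p.1.2 p'.1.2 p.2.2 p'.2.2 e
        exact Prod.ext (Subtype.ext e1) (Subtype.ext e2)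
      · obtain ⟨q, hq, k, hk, rfl⟩ := S.prod c
        exact ⟨(⟨q, hq⟩, ⟨k, hk⟩), rfl⟩
    rw [← Nat.card_eq_of_bijective _ hF, Nat.card_prod, S.card32, Nat.card_congr eK.toEquiv,
      nat_card_alternatingGroup, Nat.card_fin]
    rfl
  refine ⟨fun a => ((val (JankoTwo.zed t) uu kk a : Subgroup.centralizer ({t} : Set G)) : G),
    fun a b => by rw [hC.val_mul, Subgroup.coe_mul], by rw [hC.val_zero]; rfl, congrArg Subtype.val hC.val_zc,
    fun a ha e => hC.ker ha (Subtype.ext e), fun a => mem_centralizer_singleton_iff.1 (Subtype.prop _),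
    fun a => congrArg Subtype.val (val_mod _ uu kk a), fun g hg => ?_⟩
  have hf : Function.Bijective (fun a : Fin 1920 => val (JankoTwo.zed t) uu kk a) := by
    refine (Nat.bijective_iff_injective_and_card _).2 ⟨fun a b e => ?_, by
      rw [hcard, Nat.card_eq_fintype_card, Fintype.card_fin]⟩
    have e1 : val (JankoTwo.zed t) uu kk (J2Uniq.mul a (inv b)) = 1 := by
      rw [hC.val_mul, show val (JankoTwo.zed t) uu kk a = val (JankoTwo.zed t) uu kk b from e, ← hC.val_mul,
        inv_ok b b.2, hC.val_zero]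
    exact Fin.ext (inv_unique a a.2 b b.2 (hC.ker (mul_lt _ _) e1))
  obtain ⟨a, ha⟩ := hf.2 ⟨g, mem_centralizer_singleton_iff.2 hg⟩
  exact ⟨a, a.2, congrArg Subtype.val ha⟩

namespace Chart

variable (h : Chart t ρ)

include h

omit [Finite G] in
theorem inv_eq {a : ℕ} (ha : a < 1920) : ρ (inv a) = (ρ a)⁻¹ := by
  refine (inv_eq_of_mul_eq_one_right ?_).symm
  rw [← h.mul_eq, inv_ok a ha, h.zero]

omit [Finite G] in
theorem cj_eq {g : ℕ} (hg : g < 1920) (a : ℕ) : ρ (cj g a) = ρ g * ρ a * (ρ g)⁻¹ := by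
  rw [cj, h.mul_eq, h.mul_eq, h.inv_eq hg]

omit [Finite G] in
theorem eq_of {a b : ℕ} (ha : a < 1920) (hb : b < 1920) (e : ρ a = ρ b) : a = b :=
  inv_unique a ha b hb (h.inj _ (mul_lt _ _) (by rw [h.mul_eq, h.inv_eq hb, e, mul_inv_cancel]))

omit [Finite G] in
theorem comm_of {a b : ℕ} (e : ρ a * ρ b = ρ b * ρ a) : J2Uniq.mul a b = J2Uniq.mul b a :=
  h.eq_of (mul_lt _ _) (mul_lt _ _) (by rw [h.mul_eq, h.mul_eq, e])

omit [Finite G] in
theorem comm_iff (a b : ℕ) : ρ a * ρ b = ρ b * ρ a ↔ J2Uniq.mul a b = J2Uniq.mul b a :=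
  ⟨h.comm_of, fun e => by rw [← h.mul_eq, e, h.mul_eq]⟩

end Chart

end Cfsg.Agent.J3Uniq.Local
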