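import Mathlib
import Cfsg.Agent.Lib.JankoTwo.Common

/-!
A group of order 180 in which no involution commutes with an element of order five, and its lift over an
elementary abelian normal subgroup of order sixteen.
-/

set_option autoImplicit false
set_option linter.all false
set_option maxHeartbeats 1000000

namespace Cfsg.Agent.J3Uniq.LocalFive

open Subgroup

variable {X : Type*} [Group X] [Finite X]

theorem exists_pow_of_normalizer {f g : X} (hf : f ^ 5 = 1) (hg : g * f * g⁻¹ ∈ zpowers f) :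
    ∃ k < 5, g * f * g⁻¹ = f ^ k := by
  obtain ⟨j, hj⟩ := hg
  refine ⟨(j % 5).toNat, by omega, ?_⟩
  rw [← hj]
  show f ^ j = f ^ (j % 5).toNat
  rw [← zpow_natCast, Int.toNat_of_nonneg (Int.emod_nonneg _ (by norm_num))]
  conv_lhs => rw [← Int.emod_add_mul_ediv j 5]
  rw [zpow_add, zpow_mul, show f ^ (5 : ℤ) = 1 by exact_mod_cast hf, one_zpow, mul_one]

theorem conj_pow_conj {f g : X} {k : ℕ} (h : g * f * g⁻¹ = f ^ k) :
    ∀ n : ℕ, g ^ n * f * (g ^ n)⁻¹ = f ^ k ^ n
  | 0 => by simp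
  | n + 1 => by
    rw [show g ^ (n + 1) * f * (g ^ (n + 1))⁻¹ = g * (g ^ n * f * (g ^ n)⁻¹) * g⁻¹ by rw [pow_succ']; group,
      conj_pow_conj h n, ← conj_pow, h, ← pow_mul, ← pow_succ']

theorem one_eighty (hX : Nat.card X = 180)
    (hno : ∀ r f : X, r * r = 1 → r ≠ 1 → f ^ 5 = 1 → r * f = f * r → f = 1)
    {r s : X} (hr : r * r = 1) (hs : s * s = 1) (hr1 : r ≠ 1) (hs1 : s ≠ 1) (hrs : r ≠ s) (hc : r * s = s * r) :
    ∃ e : X, e ^ 3 = 1 ∧ e ≠ 1 ∧ (∃ f, f ^ 5 = 1 ∧ f ≠ 1 ∧ e * f = f * e) ∧ ∃ w, w * w = 1 ∧ w ≠ 1 ∧ e * w = w * e := by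
  classical
  haveI := Fintype.ofFinite X
  haveI : Fact (Nat.Prime 5) := ⟨by norm_num⟩
  haveI : Fact (Nat.Prime 3) := ⟨by norm_num⟩
  haveI : Fact (Nat.Prime 2) := ⟨by norm_num⟩
  obtain ⟨f, hf⟩ := exists_prime_orderOf_dvd_card' (G := X) 5 (by rw [hX]; norm_num)
  have hf5 : f ^ 5 = 1 := hf ▸ pow_orderOf_eq_one f
  have hf1 : f ≠ 1 := fun e => by rw [e, orderOf_one] at hf; omega
  have hfac : (180 : ℕ).factorization 5 = 1 := by
    rw [show (180 : ℕ) = 5 * 36 from rfl, Nat.factorization_mul (by norm_num) (by norm_num), Finsupp.add_apply,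
      Nat.Prime.factorization_self (by norm_num), Nat.factorization_eq_zero_of_not_dvd (by norm_num)]
  let P : Sylow 5 X := Sylow.ofCard (zpowers f) (by rw [Nat.card_zpowers, hf, hX, hfac, pow_one])
  have hPz : (P : Subgroup X) = zpowers f := Sylow.coe_ofCard _ _
  have hn : Nat.card (Sylow 5 X) = (Subgroup.normalizer ((P : Subgroup X) : Set X)).index :=
    Sylow.card_eq_index_normalizer P
  have hmod := card_sylow_modEq_one 5 X
  have hdvd : Nat.card (Sylow 5 X) ∣ (P : Subgroup X).index := P.card_dvd_index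
  have hPi : (P : Subgroup X).index = 36 := by
    have := (P : Subgroup X).card_mul_index
    rw [hX, hPz, Nat.card_zpowers, hf] at this
    rw [hPz]; omega
  rw [hPi] at hdvd
  have hNc := (Subgroup.normalizer ((P : Subgroup X) : Set X)).card_mul_index
  rw [← hn, hX] at hNc
  have hcases : Nat.card (Sylow 5 X) = 1 ∨ Nat.card (Sylow 5 X) = 6 ∨ Nat.card (Sylow 5 X) = 36 := by
    have hle := Nat.le_of_dvd (by norm_num) hdvd
    generalize Nat.card (Sylow 5 X) = n at *
    interval_cases n <;> simp [Nat.ModEq] at hmod hdvd ⊢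
  have hmemN : ∀ g : X, g * f * g⁻¹ ∈ zpowers f ↔ g ∈ Subgroup.normalizer ((P : Subgroup X) : Set X) := by
    intro g
    refine ⟨fun hg => JankoTwo.mem_normalizer_of_map (P := (P : Subgroup X)) fun x hx => ?_, fun hg => ?_⟩
    · rw [hPz] at hx ⊢
      obtain ⟨j, rfl⟩ := hx
      show g * f ^ j * g⁻¹ ∈ zpowers f
      rw [← conj_zpow]
      exact zpow_mem hg j
    · have := JankoTwo.conj_mem_of_normalizer hg (hPz ▸ mem_zpowers f : f ∈ (P : Subgroup X))
      rwa [hPz] at this
  rcases hcases with h1 | h6 | h36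
  · exfalso
    have hall : ∀ g : X, g * g = 1 → g ≠ 1 → g * f * g⁻¹ = f⁻¹ := by
      intro g hg hg1
      have htop : Subgroup.normalizer ((P : Subgroup X) : Set X) = ⊤ := by
        rw [← Subgroup.index_eq_one, ← hn, h1]
      obtain ⟨k, hk, e⟩ := exists_pow_of_normalizer hf5 ((hmemN g).2 (htop ▸ mem_top g))
      have h2 := conj_pow_conj e 2
      rw [pow_two g, hg, one_mul, inv_one, mul_one] at h2
      have hk2 : k ^ 2 ≡ 1 [MOD 5] := by
        rw [← hf, ← pow_eq_pow_iff_modEq, pow_one]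
        exact h2.symm
      interval_cases k <;> simp [Nat.ModEq] at hk2
      · refine absurd (hno g f hg hg1 hf5 ?_) hf1
        rw [pow_one] at e
        exact mul_inv_eq_iff_eq_mul.1 e
      · rw [e]
        exact eq_inv_of_mul_eq_one_left (by rw [← pow_succ, hf5])
    have e1 : r * s * f * (r * s)⁻¹ = f := by
      rw [show r * s * f * (r * s)⁻¹ = r * (s * f * s⁻¹) * r⁻¹ by group, hall s hs hs1, ← conj_inv, hall r hr hr1, inv_inv]
    refine hf1 (hno (r * s) f ?_ ?_ hf5 (mul_inv_eq_iff_eq_mul.1 e1))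
    · rw [show r * s * (r * s) = r * (s * r) * s by group, ← hc, show r * (r * s) * s = r * r * (s * s) by group, hr, hs,
        mul_one]
    · intro e0
      exact hrs (by rw [eq_inv_of_mul_eq_one_left e0, inv_eq_of_mul_eq_one_right hs])
  · have hN30 : Nat.card (Subgroup.normalizer ((P : Subgroup X) : Set X)) = 30 := by rw [h6] at hNc; omega
    obtain ⟨e', he'⟩ := exists_prime_orderOf_dvd_card' (G := Subgroup.normalizer ((P : Subgroup X) : Set X)) 3
      (by rw [hN30]; norm_num)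
    obtain ⟨e, he⟩ : ∃ e, e = (e' : X) := ⟨_, rfl⟩
    have heo : orderOf e = 3 := by rw [he, Subgroup.orderOf_coe, he']
    have he3 : e ^ 3 = 1 := heo ▸ pow_orderOf_eq_one e
    have he1 : e ≠ 1 := fun e0 => by rw [e0, orderOf_one] at heo; omega
    obtain ⟨k, hk, ek⟩ := exists_pow_of_normalizer hf5 ((hmemN e).2 (he ▸ e'.2))
    have h3 := conj_pow_conj ek 3
    rw [he3, one_mul, inv_one, mul_one] at h3
    have hk3 : k ^ 3 ≡ 1 [MOD 5] := by
      rw [← hf, ← pow_eq_pow_iff_modEq, pow_one]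
      exact h3.symm
    have hef : e * f = f * e := by
      interval_cases k <;> simp [Nat.ModEq] at hk3
      rw [pow_one] at ek
      exact mul_inv_eq_iff_eq_mul.1 ek
    refine ⟨e, he3, he1, ⟨f, hf5, hf1, hef⟩, ?_⟩
    -- a Sylow three-subgroup through the element
    have h3e : IsPGroup 3 (zpowers e) := IsPGroup.of_card (n := 1) (by rw [Nat.card_zpowers, heo, pow_one])
    obtain ⟨T, hT⟩ := h3e.exists_le_sylow
    have hT9 : Nat.card (T : Subgroup X) = 9 := by
      rw [T.card_eq_multiplicity, hX, show (180 : ℕ) = 3 ^ 2 * 20 from rfl, Nat.factorization_mul (by norm_num) (by norm_num),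
        Finsupp.add_apply, Nat.Prime.factorization_pow (by norm_num), Finsupp.single_eq_same,
        Nat.factorization_eq_zero_of_not_dvd (by norm_num)]
      norm_num
    have hTc : (T : Subgroup X) ≤ Subgroup.centralizer ({e} : Set X) := by
      intro x hx
      refine mem_centralizer_singleton_iff.2 ?_
      have := (IsPGroup.commGroupOfCardEqPrimeSq (p := 3) (G := (T : Subgroup X)) (by rw [hT9]; norm_num)).mul_comm
        ⟨x, hx⟩ ⟨e, hT (mem_zpowers e)⟩
      exact congrArg Subtype.val this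
    have hfC : zpowers f ≤ Subgroup.centralizer ({e} : Set X) := zpowers_le.2 (mem_centralizer_singleton_iff.2 hef.symm)
    have h9 := card_dvd_of_le hTc
    rw [hT9] at h9
    have h5 := card_dvd_of_le hfC
    rw [Nat.card_zpowers, hf] at h5
    by_cases h2 : 2 ∣ Nat.card (Subgroup.centralizer ({e} : Set X))
    · obtain ⟨w, hw⟩ := exists_prime_orderOf_dvd_card' (G := Subgroup.centralizer ({e} : Set X)) 2 h2
      refine ⟨w, ?_, fun e0 => ?_, (mem_centralizer_singleton_iff.1 w.2).symm⟩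
      · have := pow_orderOf_eq_one w
        rw [hw, pow_two] at this
        exact congrArg Subtype.val this
      · rw [show w = 1 from Subtype.ext e0, orderOf_one] at hw
        omega
    exfalso
    set C := Subgroup.centralizer ({e} : Set X) with hC
    have hd := Subgroup.card_subgroup_dvd_card C
    rw [hX] at hd
    have h45 : Nat.card C = 45 := by
      obtain ⟨m, hm⟩ : 45 ∣ Nat.card C := Nat.Coprime.mul_dvd_of_dvd_of_dvd (by norm_num) h9 h5
      rw [hm] at hd h2 ⊢
      have : m ∣ 4 := Nat.dvd_of_mul_dvd_mul_left (by norm_num : 0 < 45) hd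
      have hm4 := Nat.le_of_dvd (by norm_num) this
      interval_cases m <;> first | rfl | omega
    -- the five-subgroup is normal in the centralizer
    haveI hfin : Finite (Sylow 5 C) := inferInstance
    have h51 : Nat.card (Sylow 5 C) = 1 := by
      obtain ⟨S⟩ : Nonempty (Sylow 5 C) := inferInstance
      have hS5 : Nat.card (S : Subgroup C) = 5 := by
        rw [S.card_eq_multiplicity, h45, show (45 : ℕ) = 5 * 9 from rfl, Nat.factorization_mul (by norm_num) (by norm_num),
          Finsupp.add_apply, Nat.Prime.factorization_self (by norm_num), Nat.factorization_eq_zero_of_not_dvd (by norm_num)]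
        norm_num
      have hdv : Nat.card (Sylow 5 C) ∣ 9 := by
        have h1 := S.card_dvd_index
        have h2 := (S : Subgroup C).card_mul_index
        rw [hS5, h45] at h2
        rwa [show (S : Subgroup C).index = 9 by omega] at h1
      have hm := card_sylow_modEq_one 5 C
      have hle := Nat.le_of_dvd (by norm_num) hdv
      generalize Nat.card (Sylow 5 C) = n at *
      interval_cases n <;> simp [Nat.ModEq] at hm hdv ⊢
    haveI : Subsingleton (Sylow 5 C) := (Nat.card_eq_one_iff_unique.1 h51).1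
    obtain ⟨S, hS⟩ := (IsPGroup.of_card (n := 1) (p := 5) (G := zpowers (⟨f, hfC (mem_zpowers f)⟩ : C))
      (by rw [Nat.card_zpowers, ← Subgroup.orderOf_coe, hf, pow_one])).exists_le_sylow
    haveI := S.normal_of_subsingleton
    have hS' : (S : Subgroup C).map C.subtype = zpowers f := by
      have hfS : f ∈ (S : Subgroup C).map C.subtype := Subgroup.mem_map.2 ⟨_, hS (mem_zpowers _), rfl⟩
      refine (eq_of_le_of_card_ge (zpowers_le.2 hfS) ?_).symm
      rw [card_map_of_injective C.subtype_injective, Nat.card_zpowers, hf, S.card_eq_multiplicity, h45,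
        show (45 : ℕ) = 5 * 9 from rfl, Nat.factorization_mul (by norm_num) (by norm_num),
        Finsupp.add_apply, Nat.Prime.factorization_self (by norm_num), Nat.factorization_eq_zero_of_not_dvd (by norm_num)]
      norm_num
    have hTN : (T : Subgroup X) ≤ Subgroup.normalizer ((P : Subgroup X) : Set X) := fun x hx => (hmemN x).1 (by
      rw [← hS']
      exact ⟨(⟨x, hTc hx⟩ : C) * ⟨f, hfC (mem_zpowers f)⟩ * (⟨x, hTc hx⟩ : C)⁻¹,
        Subgroup.Normal.conj_mem inferInstance _ (hS (mem_zpowers _)) _, rfl⟩)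
    have := card_dvd_of_le hTN
    rw [hT9, hN30] at this
    omega
  · exfalso
    have hN5 : Nat.card (Subgroup.normalizer ((P : Subgroup X) : Set X)) = 5 := by rw [h36] at hNc; omega
    have hNP : Subgroup.normalizer ((P : Subgroup X) : Set X) = (P : Subgroup X) :=
      (eq_of_le_of_card_ge le_normalizer (by rw [hN5, hPz, Nat.card_zpowers, hf])).symm
    have hle : Subgroup.normalizer ((P : Subgroup X) : Set X) ≤ Subgroup.centralizer ((P : Subgroup X) : Set X) := by
      rw [hNP, hPz]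
      intro x hx
      refine mem_centralizer_iff.2 fun y hy => ?_
      obtain ⟨i, rfl⟩ := hx
      obtain ⟨j, rfl⟩ := hy
      show f ^ j * f ^ i = f ^ i * f ^ j
      rw [← zpow_add, ← zpow_add, add_comm]
    have hcomp := MonoidHom.ker_transferSylow_isComplement' P hle
    set M := (MonoidHom.transferSylow P hle).ker with hM
    have hMc : Nat.card M = 36 := by
      have := hcomp.card_mul
      rw [hX, hPz, Nat.card_zpowers, hf] at this
      omega
    haveI : M.Normal := by rw [hM]; infer_instance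
    obtain ⟨R⟩ : Nonempty (Sylow 2 M) := inferInstance
    have hR4 : Nat.card ((R : Subgroup M).map M.subtype) = 4 := by
      rw [card_map_of_injective M.subtype_injective, R.card_eq_multiplicity, hMc, show (36 : ℕ) = 2 ^ 2 * 9 from rfl,
        Nat.factorization_mul (by norm_num) (by norm_num), Finsupp.add_apply, Nat.Prime.factorization_pow (by norm_num),
        Finsupp.single_eq_same, Nat.factorization_eq_zero_of_not_dvd (by norm_num)]
      norm_num
    set R' := (R : Subgroup M).map M.subtype with hR'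
    set N := Subgroup.normalizer (R' : Set X) with hN
    have hsup : N ⊔ M = ⊤ := Sylow.normalizer_sup_eq_top R
    have h5N : 5 ∣ Nat.card N := by
      by_contra h5N
      have hNM : N ≤ M := by
        intro n hn
        have h1 : orderOf (QuotientGroup.mk' M n) ∣ 5 := by
          have h2 := orderOf_dvd_natCard (QuotientGroup.mk' M n)
          rwa [← Subgroup.index_eq_card, show M.index = 5 by
            have := M.card_mul_index
            rw [hMc, hX] at this
            omega] at h2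
        have h2 : orderOf (QuotientGroup.mk' M n) ∣ Nat.card N :=
          (orderOf_map_dvd _ n).trans ((Subgroup.orderOf_coe (⟨n, hn⟩ : N)) ▸ orderOf_dvd_natCard _)
        rcases (Nat.dvd_prime (by norm_num)).1 h1 with e0 | e0
        · exact (QuotientGroup.eq_one_iff n).1 (orderOf_eq_one_iff.1 e0)
        · exact absurd (e0 ▸ h2) h5N
      rw [sup_eq_right.2 hNM] at hsup
      rw [hsup, card_top, hX] at hMc
      omega
    obtain ⟨g', hg'⟩ := exists_prime_orderOf_dvd_card' (G := N) 5 h5N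
    obtain ⟨g, hg⟩ : ∃ g, g = (g' : X) := ⟨_, rfl⟩
    have hg5 : g ^ 5 = 1 := by
      rw [hg, ← SubmonoidClass.coe_pow]
      exact congrArg Subtype.val (hg' ▸ pow_orderOf_eq_one g')
    have hg1 : g ≠ 1 := fun e0 => by
      rw [show g' = 1 from Subtype.ext (hg.symm.trans e0), orderOf_one] at hg'
      omega
    obtain ⟨w', hw'⟩ := exists_prime_orderOf_dvd_card' (G := R') 2 (by rw [hR4]; norm_num)
    have hfix := JankoTwo.card_modEq_fixed_prime (S := fun x => x ∈ R') hg5 fun x hx =>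
      JankoTwo.conj_mem_of_normalizer (hg ▸ g'.2) hx
    change Nat.card R' ≡ _ [MOD 5] at hfix
    rw [hR4] at hfix
    let F : Subgroup X := R' ⊓ Subgroup.centralizer {g}
    have hFe : Nat.card {x : X // x ∈ R' ∧ g * x = x * g} = Nat.card F :=
      Nat.card_congr (Equiv.subtypeEquivRight fun x =>
        ⟨fun hx => ⟨hx.1, mem_centralizer_singleton_iff.2 hx.2.symm⟩,
          fun hx => ⟨hx.1, (mem_centralizer_singleton_iff.1 hx.2).symm⟩⟩)
    rw [hFe] at hfix
    have hFle := card_le_of_le (inf_le_left : F ≤ R')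
    rw [hR4] at hFle
    have hF4 : Nat.card F = 4 := by
      have : 0 < Nat.card F := Nat.card_pos
      generalize Nat.card F = n at *
      interval_cases n <;> simp [Nat.ModEq] at hfix ⊢
    have heq : F = R' := eq_of_le_of_card_ge inf_le_left (by rw [hR4, hF4])
    refine hg1 (hno (w' : X) g ?_ (fun e0 => ?_) hg5 ?_)
    · have := pow_orderOf_eq_one w'
      rw [hw', pow_two] at this
      exact congrArg Subtype.val this
    · rw [show w' = 1 from Subtype.ext e0, orderOf_one] at hw'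
      omega
    · exact mem_centralizer_singleton_iff.1 (heq.ge w'.2).2

/-- The lift over an elementary abelian subgroup of order sixteen. -/
theorem exists_three_five {G : Type*} [Group G] [Finite G] (A : Subgroup G) (hA : Nat.card A = 16)
    (hcomm : ∀ a ∈ A, ∀ b ∈ A, a * b = b * a) (hsq : ∀ a ∈ A, a * a = 1)
    (hCA : ∀ g : G, (∀ a ∈ A, g * a = a * g) → g ∈ A)
    (hN : Nat.card (Subgroup.normalizer (A : Set G)) = 2880)
    (hfive : ∀ f ∈ Subgroup.normalizer (A : Set G), f ^ 5 = 1 → ∀ a ∈ A, a ≠ 1 → f * a = a * f → f = 1)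
    {r s : G} (hrN : r ∈ Subgroup.normalizer (A : Set G)) (hsN : s ∈ Subgroup.normalizer (A : Set G))
    (hr : r * r ∈ A) (hs : s * s ∈ A) (hrA : r ∉ A) (hsA : s ∉ A) (hrs : r⁻¹ * s ∉ A)
    (hc : (r * s)⁻¹ * (s * r) ∈ A) :
    ∃ e f w : G, e ^ 3 = 1 ∧ e ≠ 1 ∧ f ^ 5 = 1 ∧ f ≠ 1 ∧ e * f = f * e ∧ w * w = 1 ∧ w ≠ 1 ∧ e * w = w * e := by
  classical
  haveI : Fact (Nat.Prime 5) := ⟨by norm_num⟩
  set N := Subgroup.normalizer (A : Set G) with hNdef
  haveI hn : (A.subgroupOf N).Normal := normal_in_normalizer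
  have hAN : A ≤ N := le_normalizer
  let π : N →* N ⧸ A.subgroupOf N := QuotientGroup.mk' _
  have hπ : ∀ x : N, π x = 1 ↔ (x : G) ∈ A := fun x => (QuotientGroup.eq_one_iff x).trans mem_subgroupOf
  have hπe : ∀ x y : N, π x = π y ↔ (x : G)⁻¹ * y ∈ A := fun x y => by
    rw [← inv_mul_eq_one, ← map_inv, ← map_mul, hπ]; rfl
  have hX : Nat.card (N ⧸ A.subgroupOf N) = 180 := by
    have h1 := (A.subgroupOf N).card_mul_index
    rw [Nat.card_congr (subgroupOfEquivOfLe hAN).toEquiv, hA, hN, Subgroup.index_eq_card] at h1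
    omega
  have hpowA : ∀ x : G, x ∈ A → x ^ 2 = 1 := fun x hx => by rw [pow_two]; exact hsq x hx
  -- fixed points of a lift
  have hfix : ∀ (m : G), m ∈ N → m ∉ A → ∀ g : G, g ^ 5 = 1 → g ≠ 1 → g ∈ N → g * m * g⁻¹ * m⁻¹ ∈ A →
      ∀ x ∈ A, m * x = x * m → x = 1 := by
    intro m hm hmA g hg hg1 hgN hgm
    let S : Subgroup G := A ⊓ Subgroup.centralizer {m}
    have hS : ∀ x : G, x ∈ S ↔ x ∈ A ∧ x * m = m * x := fun x =>
      ⟨fun hx => ⟨hx.1, mem_centralizer_singleton_iff.1 hx.2⟩, fun hx => ⟨hx.1, mem_centralizer_singleton_iff.2 hx.2⟩⟩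
    have hinv : ∀ x, x ∈ S → g * x * g⁻¹ ∈ S := by
      intro x hx
      obtain ⟨hxA, hxm⟩ := (hS x).1 hx
      have hyA := JankoTwo.conj_mem_of_normalizer hgN hxA
      refine (hS _).2 ⟨hyA, ?_⟩
      obtain ⟨a, ha, hae⟩ : ∃ a ∈ A, g * m * g⁻¹ = a * m := ⟨_, hgm, by group⟩
      have h1 : g * x * g⁻¹ * (a * m) = a * m * (g * x * g⁻¹) := by
        rw [← hae, show g * x * g⁻¹ * (g * m * g⁻¹) = g * (x * m) * g⁻¹ by group, hxm]; group
      refine mul_left_cancel (a := a) ?_
      rw [← mul_assoc, hcomm a ha _ hyA, mul_assoc, h1, mul_assoc]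
    have hmod := JankoTwo.card_modEq_fixed_prime (S := fun x => x ∈ S) hg hinv
    have hone : Nat.card {x : G // x ∈ S ∧ g * x = x * g} = 1 := by
      rw [Nat.card_eq_one_iff_unique]
      refine ⟨⟨fun x y => Subtype.ext ?_⟩, ⟨⟨1, one_mem S, by simp⟩⟩⟩
      have : ∀ z : {x : G // x ∈ S ∧ g * x = x * g}, (z : G) = 1 := fun z => by
        by_contra hz
        exact hg1 (hfive g hgN hg _ z.2.1.1 hz z.2.2)
      rw [this x, this y]
    change Nat.card S ≡ _ [MOD 5] at hmod
    rw [hone] at hmod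
    have hdvd := card_dvd_of_le (inf_le_left : S ≤ A)
    rw [hA] at hdvd
    have hne : Nat.card S ≠ 16 := fun e0 => hmA (hCA m fun a ha => by
      have : S = A := eq_of_le_of_card_ge inf_le_left (by rw [e0, hA])
      exact (((hS a).1 (this.ge ha)).2).symm)
    have hS1 : Nat.card S = 1 := by
      have hle := Nat.le_of_dvd (by norm_num) hdvd
      generalize Nat.card S = n at *
      interval_cases n <;> simp [Nat.ModEq] at hmod hdvd hne ⊢
    intro x hxA hxm
    have : x ∈ S := (hS x).2 ⟨hxA, hxm.symm⟩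
    rwa [Subgroup.card_eq_one.1 hS1, mem_bot] at this
  have hlift5 : ∀ F : N ⧸ A.subgroupOf N, F ^ 5 = 1 → F ≠ 1 → ∃ g : N, π g = F ∧ (g : G) ^ 5 = 1 ∧ (g : G) ≠ 1 := by
    intro F hF hF1
    obtain ⟨n, hn'⟩ : ∃ n, π n = F := QuotientGroup.mk'_surjective _ F
    have h5 : (n : G) ^ 5 ∈ A := by
      rw [← SubmonoidClass.coe_pow, ← hπ, map_pow, hn', hF]
    refine ⟨n ^ 16, ?_, ?_, ?_⟩
    · rw [map_pow, hn', show (16 : ℕ) = 5 * 3 + 1 from rfl, pow_succ, pow_mul, hF, one_pow, one_mul]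
    · rw [SubmonoidClass.coe_pow, ← pow_mul, show 16 * 5 = 5 * 2 * 8 from rfl, pow_mul, pow_mul, hpowA _ h5, one_pow]
    · intro e0
      refine hF1 ?_
      have : π (n ^ 16) = 1 := (hπ _).2 (by rw [e0]; exact one_mem A)
      rwa [map_pow, hn', show (16 : ℕ) = 5 * 3 + 1 from rfl, pow_succ, pow_mul, hF, one_pow, one_mul] at this
  have hno : ∀ R F : N ⧸ A.subgroupOf N, R * R = 1 → R ≠ 1 → F ^ 5 = 1 → R * F = F * R → F = 1 := by
    intro R F hR hR1 hF hRF
    by_contra hF1
    obtain ⟨m, rfl⟩ : ∃ n, π n = R := QuotientGroup.mk'_surjective _ R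
    obtain ⟨g, rfl, hg5, hg1⟩ := hlift5 F hF hF1
    have hmA : (m : G) ∉ A := fun h => hR1 ((hπ m).2 h)
    have hmm : (m : G) * m ∈ A := by rw [← Subgroup.coe_mul, ← hπ, map_mul, hR]
    have hgm : (g : G) * m * (g : G)⁻¹ * (m : G)⁻¹ ∈ A := by
      have : π (g * m * g⁻¹ * m⁻¹) = 1 := by
        rw [map_mul, map_mul, map_mul, map_inv, map_inv, ← hRF, mul_inv_cancel_right, mul_inv_cancel]
      exact (hπ _).1 this
    have hS := hfix m m.2 hmA g hg5 hg1 g.2 hgm
    refine hmA (hCA m fun x hx => ?_)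
    have hy : (m : G) * x * (m : G)⁻¹ ∈ A := JankoTwo.conj_mem_of_normalizer m.2 hx
    have h2 : (m : G) * ((m : G) * x * (m : G)⁻¹) * (m : G)⁻¹ = x := by
      rw [show (m : G) * ((m : G) * x * (m : G)⁻¹) * (m : G)⁻¹ = (m : G) * m * x * ((m : G) * m)⁻¹ by group,
        hcomm _ hmm x hx, mul_inv_cancel_right]
    have h1 : x * ((m : G) * x * (m : G)⁻¹) = 1 := hS _ (A.mul_mem hx hy) (mul_inv_eq_iff_eq_mul.1 (by
      rw [show (m : G) * (x * ((m : G) * x * (m : G)⁻¹)) * (m : G)⁻¹ =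
        (m : G) * x * (m : G)⁻¹ * ((m : G) * ((m : G) * x * (m : G)⁻¹) * (m : G)⁻¹) by group, h2]
      exact hcomm _ hy x hx))
    exact mul_inv_eq_iff_eq_mul.1 ((inv_eq_of_mul_eq_one_right h1).symm.trans (inv_eq_of_mul_eq_one_right (hsq x hx)))
  obtain ⟨E, hE3, hE1, ⟨F, hF5, hF1, hEF⟩, W, hW2, hW1, hEW⟩ := one_eighty hX hno
    (r := π ⟨r, hrN⟩) (s := π ⟨s, hsN⟩) (by rw [← map_mul, hπ]; exact hr) (by rw [← map_mul, hπ]; exact hs)
    (fun h => hrA ((hπ _).1 h)) (fun h => hsA ((hπ _).1 h)) (fun h => hrs ((hπe _ _).1 h))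
    (by rw [← map_mul, ← map_mul, hπe]; exact hc)
  obtain ⟨n, hn'⟩ : ∃ n, π n = E := QuotientGroup.mk'_surjective _ E
  have hn3 : (n : G) ^ 3 ∈ A := by rw [← SubmonoidClass.coe_pow, ← hπ, map_pow, hn', hE3]
  obtain ⟨e, he⟩ : ∃ e : N, e = n ^ 4 := ⟨_, rfl⟩
  have heE : π e = E := by rw [he, map_pow, hn', show (4 : ℕ) = 3 + 1 from rfl, pow_succ, hE3, one_mul]
  have he3 : (e : G) ^ 3 = 1 := by
    rw [he, SubmonoidClass.coe_pow, ← pow_mul, show 4 * 3 = 3 * 2 * 2 from rfl, pow_mul, pow_mul, hpowA _ hn3, one_pow]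
  have heA : (e : G) ∉ A := fun h => hE1 (heE ▸ (hπ e).2 h)
  have he1 : (e : G) ≠ 1 := fun h => heA (h ▸ one_mem A)
  obtain ⟨g, hgF, hg5, hg1⟩ := hlift5 F hF5 hF1
  have hge : (g : G) * e * (g : G)⁻¹ * (e : G)⁻¹ ∈ A := by
    have : π (g * e * g⁻¹ * e⁻¹) = 1 := by
      rw [map_mul, map_mul, map_mul, map_inv, map_inv, heE, hgF, ← hEF, mul_inv_cancel_right, mul_inv_cancel]
    exact (hπ _).1 this
  have hfree := hfix e e.2 heA g hg5 hg1 g.2 hge
  -- the map used to correct a lift
  have hsurj : ∀ a ∈ A, ∃ b ∈ A, b * ((e : G) * b * (e : G)⁻¹) = a := by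
    let φ : A → A := fun b => ⟨(b : G) * ((e : G) * b * (e : G)⁻¹),
      A.mul_mem b.2 (JankoTwo.conj_mem_of_normalizer e.2 b.2)⟩
    have hφ : Function.Injective φ := by
      intro b c h
      have h1 : (b : G) * ((e : G) * b * (e : G)⁻¹) = (c : G) * ((e : G) * c * (e : G)⁻¹) := congrArg Subtype.val h
      have hcA := JankoTwo.conj_mem_of_normalizer e.2 c.2
      have hbA := JankoTwo.conj_mem_of_normalizer e.2 b.2
      have h2 : (b : G) * c = (e : G) * ((b : G) * c) * (e : G)⁻¹ := by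
        calc (b : G) * c = c * b := hcomm _ b.2 _ c.2
          _ = c * ((b : G) * ((e : G) * b * (e : G)⁻¹)) * ((e : G) * b * (e : G)⁻¹) := by
            rw [mul_assoc, mul_assoc (b : G), hsq _ hbA, mul_one]
          _ = ((c : G) * c) * (((e : G) * c * (e : G)⁻¹) * ((e : G) * b * (e : G)⁻¹)) := by rw [h1]; group
          _ = (e : G) * ((b : G) * c) * (e : G)⁻¹ := by rw [hsq _ c.2, one_mul, hcomm _ hcA _ hbA]; group
      have h3 := hfree _ (A.mul_mem b.2 c.2) (mul_inv_eq_iff_eq_mul.1 h2.symm)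
      exact Subtype.ext (by rw [eq_inv_of_mul_eq_one_left h3, inv_eq_of_mul_eq_one_right (hsq _ c.2)])
    intro a ha
    obtain ⟨b, hb⟩ := (Finite.injective_iff_surjective.1 hφ) ⟨a, ha⟩
    exact ⟨b, b.2, congrArg Subtype.val hb⟩
  have hcorr : ∀ M : N ⧸ A.subgroupOf N, E * M = M * E → ∃ m : N, π m = M ∧ (e : G) * m = m * e := by
    intro M hM
    obtain ⟨m, rfl⟩ : ∃ n, π n = M := QuotientGroup.mk'_surjective _ M
    have ha : (m : G) * e * (m : G)⁻¹ * (e : G)⁻¹ ∈ A := by
      have : π (m * e * m⁻¹ * e⁻¹) = 1 := by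
        rw [map_mul, map_mul, map_mul, map_inv, map_inv, heE, ← hM, mul_inv_cancel_right, mul_inv_cancel]
      exact (hπ _).1 this
    obtain ⟨b, hb, hbe⟩ := hsurj _ ha
    refine ⟨⟨b, hAN hb⟩ * m, ?_, ?_⟩
    · rw [map_mul, (hπ ⟨b, hAN hb⟩).2 hb, one_mul]
    · show (e : G) * (b * m) = b * m * e
      have hbi := inv_eq_of_mul_eq_one_right (hsq b hb)
      calc (e : G) * (b * m) = (e : G) * b * (e : G)⁻¹ * ((e : G) * m) := by group
        _ = b⁻¹ * ((m : G) * e * (m : G)⁻¹ * (e : G)⁻¹) * ((e : G) * m) := by rw [← hbe]; group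
        _ = b * m * e := by rw [hbi]; group
  have hkill : ∀ x : G, x ∈ A → (e : G) * x = x * e → x = 1 := hfree
  obtain ⟨f, hfF, hef⟩ := hcorr F hEF
  obtain ⟨w, hwW, hew⟩ := hcorr W hEW
  refine ⟨e, f, w, he3, he1, ?_, fun h => hF1 (hfF ▸ (hπ f).2 (h ▸ one_mem A)), hef, ?_,
    fun h => hW1 (hwW ▸ (hπ w).2 (h ▸ one_mem A)), hew⟩
  · refine hkill _ (by rw [← SubmonoidClass.coe_pow, ← hπ, map_pow, hfF, hF5]) ?_
    exact (Commute.pow_right hef 5).eq
  · refine hkill _ (by rw [← Subgroup.coe_mul, ← hπ, map_mul, hwW, hW2]) ?_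
    exact (Commute.mul_right hew hew).eq

end Cfsg.Agent.J3Uniq.LocalFive
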