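import Mathlib
import Cfsg.Agent.Lib.J3Uniq.LocalCodes
import Cfsg.Agent.Lib.J3Uniq.LocalFive
import Cfsg.Agent.S3035
import Cfsg.Agent.Lib.Cores.Basic

/-!
A group with one class of involutions and an involution centralizer `2^{1+4}.A₅`: the centralizer of an element of
order three that centralizes an involution is an extension of the group it generates by `A₆`.
-/

set_option autoImplicit false
set_option linter.all false
set_option maxRecDepth 100000
set_option maxHeartbeats 1000000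

namespace Cfsg.Agent.J3Uniq.Local

open Cfsg.Agent.J2Uniq Subgroup

universe v

theorem mul_facts : J2Uniq.mul zc zc = 0 ∧ J2Uniq.mul 32 32 = 64 ∧ J2Uniq.mul 32 64 = 0 ∧
    J2Uniq.mul tc tc = 0 ∧ inA zc = true := by decide +kernel

theorem rs_ok : inN 6 = true ∧ inN 10 = true ∧ inA 6 = false ∧ inA 10 = false ∧
    inA (J2Uniq.mul 6 6) = true ∧ inA (J2Uniq.mul 10 10) = true ∧ inA (J2Uniq.mul (inv 6) 10) = false ∧
    inA (J2Uniq.mul (inv (J2Uniq.mul 6 10)) (J2Uniq.mul 10 6)) = true := by decide +kernel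

theorem dihedral_fact : ∃ u b : DihedralGroup 4, u * u = 1 ∧ u ≠ 1 ∧ u * b ≠ b * u := by decide +kernel

theorem symm_five_fact : ∃ x : Equiv.Perm (Fin 5), x * x = 1 ∧ x ≠ 1 ∧
    Fintype.card {q : Equiv.Perm (Fin 5) // q * x = x * q} = 12 := by decide +kernel

theorem four_of_three {M : Type*} [Monoid M] {a : M} (ha : a ^ 3 = 1) : a * a * (a * a) = a := by
  rw [show a * a * (a * a) = a ^ 3 * a by simp only [pow_succ, pow_zero, one_mul, mul_assoc], ha, one_mul]

theorem sl_card : Nat.card (Matrix.SpecialLinearGroup (Fin 3) (ZMod 2)) = 168 := by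
  rw [Nat.card_eq_fintype_card]
  decide +kernel

variable {G : Type v} [Group G] [Finite G] {t : G} {ρ : ℕ → G}

namespace Chart

variable (h : Chart t ρ)

include h

omit [Finite G] in
theorem tt : t * t = 1 := by rw [← h.zc_eq, ← h.mul_eq, mul_facts.1, h.zero]

omit [Finite G] in
theorem t_ne : t ≠ 1 := fun e => absurd (h.inj zc (by norm_num [zc]) (h.zc_eq.trans e)) (by norm_num [zc])

omit [Finite G] in
theorem order_t : orderOf t = 2 := orderOf_eq_prime (hp := ⟨Nat.prime_two⟩) (by rw [pow_two, h.tt]) h.t_ne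

omit [Finite G] in
theorem sixty_four : ρ 64 = ρ 32 * ρ 32 := by rw [← h.mul_eq, mul_facts.2.1]

omit [Finite G] in
theorem order_y : orderOf (ρ 32) = 3 :=
  orderOf_eq_prime (hp := ⟨by norm_num⟩)
    (by rw [show (3 : ℕ) = 1 + 2 from rfl, pow_add, pow_one, pow_two, ← h.sixty_four, ← h.mul_eq, mul_facts.2.2.1, h.zero])
    (fun e => absurd (h.inj 32 (by norm_num) e) (by norm_num))

omit [Finite G] in
theorem y_zpowers {a : G} (ha : a ∈ zpowers (ρ 32)) : ∃ i < 3, a = ρ (32 * i) := by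
  obtain ⟨j, rfl⟩ := ha
  refine ⟨(j % 3).toNat, by omega, ?_⟩
  show ρ 32 ^ j = _
  rw [show j % 3 = j % ((orderOf (ρ 32) : ℕ) : ℤ) by rw [h.order_y]; rfl]
  conv_lhs => rw [← zpow_mod_orderOf]
  have h1 := Int.emod_lt_of_pos j (show (0 : ℤ) < (orderOf (ρ 32) : ℕ) by rw [h.order_y]; norm_num)
  rw [h.order_y] at h1 ⊢
  have h0 := Int.emod_nonneg j (show ((3 : ℕ) : ℤ) ≠ 0 by norm_num)
  generalize j % ((3 : ℕ) : ℤ) = k at *
  interval_cases k <;> simp [h.zero, h.sixty_four, zpow_ofNat, pow_two]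

omit [Finite G] in
theorem three_in {g : G} (hg : g * t = t * g) (h3 : g * g * g = 1) (h1 : g ≠ 1) :
    ∃ c : G, c * t = t * c ∧ (c * g * c⁻¹ = ρ 32 ∨ c * g * c⁻¹ = ρ 32 * ρ 32) := by
  obtain ⟨a, ha, rfl⟩ := h.surj g hg
  obtain ⟨c, hc, hcase⟩ := three_conj a ha
    (h.inj _ (mul_lt _ _) (by rw [h.mul_eq, h.mul_eq, ← mul_assoc, h3]))
    (fun e => h1 (by rw [e, h.zero]))
  refine ⟨ρ c, h.mem c, ?_⟩
  rw [← h.cj_eq hc, ← h.sixty_four]
  exact hcase.imp (congrArg ρ) (congrArg ρ)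

theorem pair_conj (hone : ∀ x y : G, orderOf x = 2 → orderOf y = 2 → IsConj x y) {y w : G} (hy : orderOf y = 3)
    (hw : w * w = 1) (hw1 : w ≠ 1) (hyw : y * w = w * y) :
    ∃ g : G, g * w * g⁻¹ = t ∧ (g * y * g⁻¹ = ρ 32 ∨ g * y * g⁻¹ = ρ 32 * ρ 32) := by
  obtain ⟨g, hg⟩ := isConj_iff.1 (hone w t (orderOf_eq_prime (hp := ⟨Nat.prime_two⟩) (by rw [pow_two, hw]) hw1) h.order_t)
  have h3 : y * y * y = 1 := by rw [← pow_two, ← pow_succ]; exact (congrArg (fun n => y ^ n) hy).symm.trans (pow_orderOf_eq_one y)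
  have hy1 : y ≠ 1 := fun e => by rw [e, orderOf_one] at hy; omega
  obtain ⟨c, hc, hcase⟩ := h.three_in (g := g * y * g⁻¹)
    (by rw [← hg, show g * y * g⁻¹ * (g * w * g⁻¹) = g * (y * w) * g⁻¹ by group, hyw]; group)
    (by rw [show g * y * g⁻¹ * (g * y * g⁻¹) * (g * y * g⁻¹) = g * (y * y * y) * g⁻¹ by group, h3]; group)
    (fun e => hy1 (conj_eq_one_iff.1 e))
  refine ⟨c * g, ?_, ?_⟩
  · rw [show c * g * w * (c * g)⁻¹ = c * (g * w * g⁻¹) * c⁻¹ by group, hg, hc, mul_inv_cancel_right]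
  · rw [show c * g * y * (c * g)⁻¹ = c * (g * y * g⁻¹) * c⁻¹ by group]
    exact hcase

/-- The elementary abelian subgroup. -/
theorem mem_A {x : G} : x ∈ Subgroup.centralizer ({t} : Set G) ⊓ Subgroup.centralizer ({ρ tc} : Set G) ↔
    ∃ a < 1920, inA a = true ∧ ρ a = x := by
  simp only [mem_inf, mem_centralizer_singleton_iff]
  constructor
  · rintro ⟨h1, h2⟩
    obtain ⟨a, ha, rfl⟩ := h.surj x h1
    refine ⟨a, ha, ?_, rfl⟩
    unfold inA
    rw [h.comm_of h2]
    exact Nat.beq_refl _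
  · rintro ⟨a, ha, hin, rfl⟩
    exact ⟨h.mem a, (h.comm_iff a tc).2 (Nat.eq_of_beq_eq_true hin)⟩

omit [Finite G] in
theorem inA_iff {a : ℕ} (ha : a < 1920) :
    ρ a ∈ Subgroup.centralizer ({t} : Set G) ⊓ Subgroup.centralizer ({ρ tc} : Set G) ↔ inA a = true := by
  constructor
  · intro hx
    unfold inA
    rw [h.comm_of (mem_centralizer_singleton_iff.1 hx.2)]
    exact Nat.beq_refl _
  · intro hin
    exact ⟨mem_centralizer_singleton_iff.2 (h.mem a),
      mem_centralizer_singleton_iff.2 ((h.comm_iff a tc).2 (Nat.eq_of_beq_eq_true hin))⟩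

theorem A_card : Nat.card ↥(Subgroup.centralizer ({t} : Set G) ⊓ Subgroup.centralizer ({ρ tc} : Set G)) = 16 := by
  rw [← A_count, ← Nat.card_eq_finsetCard]
  refine (Nat.card_eq_of_bijective (fun a => ⟨ρ a.1,
    (h.inA_iff (Finset.mem_range.1 (Finset.mem_filter.1 a.2).1)).2 (Finset.mem_filter.1 a.2).2⟩)
    ⟨fun a b e => ?_, fun x => ?_⟩).symm
  · exact Subtype.ext (h.eq_of (Finset.mem_range.1 (Finset.mem_filter.1 a.2).1)
      (Finset.mem_range.1 (Finset.mem_filter.1 b.2).1) (congrArg Subtype.val e))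
  · obtain ⟨a, ha, hin, hax⟩ := h.mem_A.1 x.2
    exact ⟨⟨a, Finset.mem_filter.2 ⟨Finset.mem_range.2 ha, hin⟩⟩, Subtype.ext hax⟩

theorem A_props : (∀ a ∈ Subgroup.centralizer ({t} : Set G) ⊓ Subgroup.centralizer ({ρ tc} : Set G),
      a * a = 1 ∧ ∀ b ∈ Subgroup.centralizer ({t} : Set G) ⊓ Subgroup.centralizer ({ρ tc} : Set G), a * b = b * a) ∧
    t ∈ Subgroup.centralizer ({t} : Set G) ⊓ Subgroup.centralizer ({ρ tc} : Set G) ∧
    ρ tc ∈ Subgroup.centralizer ({t} : Set G) ⊓ Subgroup.centralizer ({ρ tc} : Set G) := by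
  refine ⟨fun x hx => ?_, h.mem_A.2 ⟨zc, by norm_num [zc], mul_facts.2.2.2.2, h.zc_eq⟩,
    ⟨mem_centralizer_singleton_iff.2 (h.mem tc), mem_centralizer_singleton_iff.2 rfl⟩⟩
  obtain ⟨a, ha, hin, rfl⟩ := h.mem_A.1 hx
  refine ⟨by rw [← h.mul_eq, (inA_ok a ha hin).1, h.zero], fun y hy => ?_⟩
  obtain ⟨b, hb, hbin, rfl⟩ := h.mem_A.1 hy
  exact (h.comm_iff a b).2 (inA_comm a (List.contains_iff_mem.1 (inA_ok a ha hin).2) b
    (List.contains_iff_mem.1 (inA_ok b hb hbin).2))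

theorem inN_iff {g : ℕ} (hg : g < 1920) : inN g = true ↔
    ρ g ∈ Subgroup.normalizer
      ((Subgroup.centralizer ({t} : Set G) ⊓ Subgroup.centralizer ({ρ tc} : Set G) : Subgroup G) : Set G) := by
  constructor
  · intro hin
    refine JankoTwo.mem_normalizer_of_map fun x hx => ?_
    obtain ⟨a, ha, hai, rfl⟩ := h.mem_A.1 hx
    rw [← h.cj_eq hg]
    exact (h.inA_iff (mul_lt _ _)).2 (List.all_eq_true.1 hin a (List.contains_iff_mem.1 (inA_ok a ha hai).2))
  · intro hn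
    refine List.all_eq_true.2 fun a ha => (h.inA_iff (mul_lt _ _)).1 ?_
    rw [← cj, h.cj_eq hg]
    exact JankoTwo.conj_mem_of_normalizer hn ((h.inA_iff (Alist_ok a ha).1).2 (Alist_ok a ha).2)

theorem N_card_t : Nat.card ↥(Subgroup.normalizer
      ((Subgroup.centralizer ({t} : Set G) ⊓ Subgroup.centralizer ({ρ tc} : Set G) : Subgroup G) : Set G) ⊓
      Subgroup.centralizer ({t} : Set G)) = 192 := by
  rw [← N_count, ← Nat.card_eq_finsetCard]
  refine (Nat.card_eq_of_bijective (fun a => ⟨ρ a.1,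
    (h.inN_iff (Finset.mem_range.1 (Finset.mem_filter.1 a.2).1)).1 (Finset.mem_filter.1 a.2).2,
      mem_centralizer_singleton_iff.2 (h.mem _)⟩) ⟨fun a b e => ?_, fun x => ?_⟩).symm
  · exact Subtype.ext (h.eq_of (Finset.mem_range.1 (Finset.mem_filter.1 a.2).1)
      (Finset.mem_range.1 (Finset.mem_filter.1 b.2).1) (congrArg Subtype.val e))
  · obtain ⟨a, ha, hax⟩ := h.surj x (mem_centralizer_singleton_iff.1 x.2.2)
    exact ⟨⟨a, Finset.mem_filter.2 ⟨Finset.mem_range.2 ha, (h.inN_iff ha).2 (hax ▸ x.2.1)⟩⟩, Subtype.ext hax⟩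

/-- The elementary abelian subgroups of order sixteen in the centralizer are conjugate. -/
theorem A_unique (A' : Subgroup G) (hcard : Nat.card A' = 16) (hsq : ∀ a ∈ A', a * a = 1)
    (hcomm : ∀ a ∈ A', ∀ b ∈ A', a * b = b * a) (hC : ∀ a ∈ A', a * t = t * a) :
    ∃ c : G, c * t = t * c ∧
      A'.map (MulAut.conj c).toMonoidHom = Subgroup.centralizer ({t} : Set G) ⊓ Subgroup.centralizer ({ρ tc} : Set G) := by
  classical
  obtain ⟨a, ha, haA, hpa⟩ : ∃ a < 1920, ρ a ∈ A' ∧ pp a ≠ 0 := by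
    by_contra hh
    push Not at hh
    have hmem : ∀ x : A', ∃ q ∈ (Finset.range 32).filter (fun q => J2Uniq.mul q q = 0), ρ q = x := by
      intro x
      obtain ⟨a, ha, hax⟩ := h.surj x (hC x x.2)
      refine ⟨a, Finset.mem_filter.2 ⟨Finset.mem_range.2 ?_, h.inj _ (mul_lt _ _) ?_⟩, hax⟩
      · have := hh a ha (hax ▸ x.2)
        unfold pp at this
        omega
      · rw [h.mul_eq, hax, hsq x x.2]
    choose q hq hqe using hmem
    have := Nat.card_le_card_of_injective (fun x => (⟨q x, hq x⟩ : {n // n ∈ (Finset.range 32).filter (fun q => J2Uniq.mul q q = 0)}))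
      fun x y e => Subtype.ext ((hqe x).symm.trans ((congrArg ρ (congrArg Subtype.val e)).trans (hqe y)))
    rw [hcard, Nat.card_eq_finsetCard, q_count] at this
    omega
  have ha0 : a ≠ 0 := fun e => hpa (by rw [e]; rfl)
  have hai : a ∈ Data.invs :=
    (invs_ok a ha (h.inj _ (mul_lt _ _) (by rw [h.mul_eq, hsq _ haA]))).resolve_left ha0
  obtain ⟨c, hc, hce⟩ := inv_conj a hai hpa
  refine ⟨ρ c, h.mem c, eq_of_le_of_card_ge ?_ ?_⟩
  · rintro _ ⟨x, hx, rfl⟩
    show ρ c * x * (ρ c)⁻¹ ∈ _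
    refine ⟨mem_centralizer_singleton_iff.2 ?_, mem_centralizer_singleton_iff.2 ?_⟩
    · exact ((Commute.mul_left (Commute.mul_left (h.mem c) (hC x hx)) (Commute.inv_left (h.mem c))).eq)
    · rw [← hce, h.cj_eq hc,
        show ρ c * x * (ρ c)⁻¹ * (ρ c * ρ a * (ρ c)⁻¹) = ρ c * (x * ρ a) * (ρ c)⁻¹ by group, hcomm x hx _ haA]
      group
  · rw [h.A_card, card_map_of_injective (MulAut.conj (ρ c)).injective, hcard]

theorem five_dvd (hone : ∀ x y : G, orderOf x = 2 → orderOf y = 2 → IsConj x y) :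
    5 ∣ Nat.card (Subgroup.centralizer ({ρ 32} : Set G)) := by
  classical
  obtain ⟨hA, htA, hTA⟩ := h.A_props
  set A := Subgroup.centralizer ({t} : Set G) ⊓ Subgroup.centralizer ({ρ tc} : Set G) with hAdef
  set N := Subgroup.normalizer (A : Set G) with hNdef
  have hAN : A ≤ N := le_normalizer
  have htrans : ∀ x ∈ A, x ≠ 1 → ∃ n ∈ N, n * t * n⁻¹ = x := by
    intro x hx hx1
    obtain ⟨g, hg⟩ := isConj_iff.1
      (hone x t (orderOf_eq_prime (hp := ⟨Nat.prime_two⟩) (by rw [pow_two, (hA x hx).1]) hx1) h.order_t)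
    obtain ⟨c, hc, hce⟩ := h.A_unique (A.map (MulAut.conj g).toMonoidHom)
      (by rw [card_map_of_injective (MulAut.conj g).injective]; exact h.A_card)
      (by
        rintro _ ⟨a, ha, rfl⟩
        rw [← map_mul, (hA a ha).1, map_one])
      (by
        rintro _ ⟨a, ha, rfl⟩ _ ⟨b, hb, rfl⟩
        rw [← map_mul, ← map_mul, (hA a ha).2 b hb])
      (by
        rintro _ ⟨a, ha, rfl⟩
        rw [show t = (MulAut.conj g).toMonoidHom x from hg.symm, ← map_mul, ← map_mul, (hA a ha).2 x hx])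
    have hn : c * g ∈ N := JankoTwo.mem_normalizer_of_map fun y hy => by
      have := mem_map_of_mem (MulAut.conj c).toMonoidHom (mem_map_of_mem (MulAut.conj g).toMonoidHom hy)
      rw [hce] at this
      rw [show c * g * y * (c * g)⁻¹ = c * (g * y * g⁻¹) * c⁻¹ by group]
      exact this
    refine ⟨(c * g)⁻¹, inv_mem hn, ?_⟩
    have e1 : c * g * x * (c * g)⁻¹ = t := by
      rw [show c * g * x * (c * g)⁻¹ = c * (g * x * g⁻¹) * c⁻¹ by group, hg, hc, mul_inv_cancel_right]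
    conv_lhs => rw [← e1]
    group
  have hN : Nat.card N = 2880 := by
    rw [← JankoTwo.orbit_card N (hAN htA), h.N_card_t]
    have h15 : Nat.card {y : G // ∃ n ∈ N, n * t * n⁻¹ = y} = 15 := by
      haveI := Fintype.ofFinite A
      have hc : Nat.card {a : A // ¬ a = 1} = 15 := by
        rw [Nat.card_eq_fintype_card, Fintype.card_subtype_compl, Fintype.card_subtype_eq, ← Nat.card_eq_fintype_card,
          h.A_card]
      rw [← hc]
      refine Nat.card_congr
        { toFun := fun y => ⟨⟨y.1, ?_⟩, ?_⟩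
          invFun := fun a => ⟨a.1.1, htrans _ a.1.2 fun e => a.2 (Subtype.ext e)⟩
          left_inv := fun y => rfl
          right_inv := fun a => rfl }
      · obtain ⟨n, hn, e⟩ := y.2
        exact e ▸ JankoTwo.conj_mem_of_normalizer hn htA
      · intro e
        obtain ⟨n, hn, e'⟩ := y.2
        exact h.t_ne (conj_eq_one_iff.1 (e'.trans (congrArg Subtype.val e)))
    rw [h15]
  have hfive : ∀ f ∈ N, f ^ 5 = 1 → ∀ a ∈ A, a ≠ 1 → f * a = a * f → f = 1 := by
    intro f hf h5 a ha ha1 hfa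
    obtain ⟨n, hn, hna⟩ := htrans a ha ha1
    have hf' : n⁻¹ * f * n ∈ N ⊓ Subgroup.centralizer ({t} : Set G) := by
      refine ⟨N.mul_mem (N.mul_mem (N.inv_mem hn) hf) hn, mem_centralizer_singleton_iff.2 ?_⟩
      rw [show n⁻¹ * f * n * t = n⁻¹ * (f * (n * t * n⁻¹)) * n by group, hna, hfa, ← hna]
      group
    have hd : orderOf (n⁻¹ * f * n) ∣ 192 := by
      rw [← h.N_card_t]
      exact (Subgroup.orderOf_coe (⟨_, hf'⟩ : ↥(N ⊓ Subgroup.centralizer ({t} : Set G)))) ▸ orderOf_dvd_natCard _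
    have h55 : orderOf (n⁻¹ * f * n) ∣ 5 := orderOf_dvd_of_pow_eq_one (by
      have := conj_pow (i := 5) (a := n⁻¹) (b := f)
      rw [inv_inv] at this
      rw [this, h5, mul_one, inv_mul_cancel])
    have h1 : orderOf (n⁻¹ * f * n) = 1 := Nat.eq_one_of_dvd_coprimes (by norm_num) h55 hd
    rw [orderOf_eq_one_iff] at h1
    calc f = n * (n⁻¹ * f * n) * n⁻¹ := by group
      _ = 1 := by rw [h1, mul_one, mul_inv_cancel]
  obtain ⟨n6, n10, a6, a10, s6, s10, d6, c6⟩ := rs_ok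
  have hout : ∀ {a : ℕ}, a < 1920 → inA a = false → ρ a ∉ A := fun ha hf hh => by
    rw [(h.inA_iff ha).1 hh] at hf
    exact absurd hf (by simp)
  obtain ⟨e, f, w, he3, he1, hf5, hf1, hef, hw2, hw1, hew⟩ :=
    LocalFive.exists_three_five A h.A_card (fun a ha b hb => (hA a ha).2 b hb) (fun a ha => (hA a ha).1)
      (fun g hg => ⟨mem_centralizer_singleton_iff.2 (hg t htA), mem_centralizer_singleton_iff.2 (hg _ hTA)⟩)
      hN hfive ((h.inN_iff (by norm_num : 6 < 1920)).1 n6) ((h.inN_iff (by norm_num : 10 < 1920)).1 n10)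
      (by rw [← h.mul_eq]; exact (h.inA_iff (mul_lt _ _)).2 s6)
      (by rw [← h.mul_eq]; exact (h.inA_iff (mul_lt _ _)).2 s10)
      (hout (by norm_num) a6) (hout (by norm_num) a10)
      (by rw [← h.inv_eq (by norm_num : 6 < 1920), ← h.mul_eq]; exact hout (mul_lt _ _) d6)
      (by rw [← h.mul_eq, ← h.inv_eq (mul_lt _ _), ← h.mul_eq 10 6, ← h.mul_eq]; exact (h.inA_iff (mul_lt _ _)).2 c6)
  obtain ⟨g, hgw, hge⟩ := h.pair_conj hone
    (orderOf_eq_prime (hp := ⟨by norm_num⟩) he3 he1 : orderOf e = 3) hw2 hw1 hew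
  have hmem : g * f * g⁻¹ ∈ Subgroup.centralizer ({ρ 32} : Set G) := by
    refine mem_centralizer_singleton_iff.2 ?_
    have hc : Commute (g * f * g⁻¹) (g * e * g⁻¹) := (Commute.conj_iff g).2 (show Commute f e from hef.symm)
    rcases hge with e1 | e1 <;> rw [e1] at hc
    · exact hc.eq
    · have h4 := hc.mul_right hc
      rw [four_of_three (h.order_y ▸ pow_orderOf_eq_one (ρ 32))] at h4
      exact h4.eq
  have ho : orderOf (g * f * g⁻¹) = 5 :=
    orderOf_eq_prime (hp := ⟨by norm_num⟩) (by rw [conj_pow, hf5, mul_one, mul_inv_cancel])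
      (fun e0 => hf1 (conj_eq_one_iff.1 e0))
  rw [← ho]
  exact (Subgroup.orderOf_coe (⟨_, hmem⟩ : Subgroup.centralizer ({ρ 32} : Set G))) ▸ orderOf_dvd_natCard _

theorem centralizer_y (hone : ∀ x y : G, orderOf x = 2 → orderOf y = 2 → IsConj x y) :
    ∃ φ : Subgroup.centralizer ({ρ 32} : Set G) →* alternatingGroup (Fin 6),
      Function.Surjective φ ∧ ∀ c, φ c = 1 ↔ (c : G) ∈ zpowers (ρ 32) := by
  classical
  haveI : Fact (Nat.Prime 5) := ⟨by norm_num⟩
  obtain ⟨y0, hy0⟩ : ∃ y0, y0 = ρ 32 := ⟨_, rfl⟩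
  rw [← hy0]
  haveI := JankoTwo.cyc_normal y0
  set H := Subgroup.centralizer ({y0} : Set G) with hH
  let π : H →* H ⧸ (zpowers y0).subgroupOf H := QuotientGroup.mk' _
  have hπ : ∀ c : H, π c = 1 ↔ (c : G) ∈ zpowers y0 := fun c => (QuotientGroup.eq_one_iff c).trans mem_subgroupOf
  have hyo : orderOf y0 = 3 := hy0 ▸ h.order_y
  have hk3 : ∀ a ∈ zpowers y0, a ^ 3 = 1 := by
    rintro _ ⟨j, rfl⟩
    show (y0 ^ j) ^ 3 = 1
    rw [← zpow_natCast, zpow_comm, show y0 ^ ((3 : ℕ) : ℤ) = 1 by rw [zpow_natCast, ← hyo, pow_orderOf_eq_one], one_zpow]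
  have hyc : ∀ a ∈ zpowers y0, ∀ c : H, (c : G) * a = a * c := by
    rintro _ ⟨j, rfl⟩ c
    exact ((show Commute (c : G) y0 from mem_centralizer_singleton_iff.1 c.2).zpow_right j).eq
  have key : ∀ W : H ⧸ (zpowers y0).subgroupOf H, W * W = 1 → W ≠ 1 →
      Nonempty (↥(Subgroup.centralizer ({W} : Set (H ⧸ (zpowers y0).subgroupOf H))) ≃* DihedralGroup 4) := by
    intro W hW hW1
    obtain ⟨x, rfl⟩ : ∃ x, π x = W := QuotientGroup.mk'_surjective _ W
    have hx2 : ((x : G) * x) ∈ zpowers y0 := (hπ (x * x)).1 (by rw [map_mul, hW])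
    obtain ⟨w, hw⟩ : ∃ w : H, w = x ^ 3 := ⟨_, rfl⟩
    have hwx : π w = π x := by rw [hw, pow_succ, pow_two, map_mul, map_mul, hW, one_mul]
    have hw2 : (w : G) * w = 1 := by
      rw [hw, SubmonoidClass.coe_pow, ← hk3 _ hx2, ← pow_two, ← pow_two, ← pow_mul, ← pow_mul]
    have hw1 : (w : G) ≠ 1 := fun e => hW1 (by rw [← hwx, show w = 1 from Subtype.ext e, map_one])
    rw [← hwx]
    obtain ⟨g, hgw, hgy⟩ := h.pair_conj hone hyo hw2 hw1 (mem_centralizer_singleton_iff.1 w.2).symm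
    rw [← hy0] at hgy
    have hy2 : y0 * y0 * (y0 * y0) = y0 := four_of_three (hyo ▸ pow_orderOf_eq_one y0)
    have hto : ∀ c : G, c * y0 = y0 * c → (g * c * g⁻¹) * y0 = y0 * (g * c * g⁻¹) := by
      intro c hc
      have hc' : Commute (g * c * g⁻¹) (g * y0 * g⁻¹) := (Commute.conj_iff g).2 hc
      rcases hgy with e | e <;> rw [e] at hc'
      · exact hc'.eq
      · have h4 := hc'.mul_right hc'
        rwa [hy2] at h4
    have hgy' : g⁻¹ * y0 * g ∈ zpowers y0 := by
      rcases hgy with e | e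
      · refine ⟨1, ?_⟩
        show y0 ^ (1 : ℤ) = _
        rw [zpow_one]
        conv_rhs => rw [← e]
        group
      · refine ⟨2, ?_⟩
        show y0 ^ (2 : ℤ) = _
        have e2 : g⁻¹ * (y0 * y0) * g = y0 := by rw [← e]; group
        calc y0 ^ (2 : ℤ) = (g⁻¹ * (y0 * y0) * g) * (g⁻¹ * (y0 * y0) * g) := by rw [e2, zpow_two]
          _ = g⁻¹ * (y0 * y0 * (y0 * y0)) * g := by group
          _ = _ := by rw [hy2]
    have hfrom : ∀ c : G, c * y0 = y0 * c → (g⁻¹ * c * g) * y0 = y0 * (g⁻¹ * c * g) := by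
      intro c hc
      have hc2 : Commute c (g * y0 * g⁻¹) := by
        rcases hgy with e | e <;> rw [e]
        · exact hc
        · exact Commute.mul_right hc hc
      have := (Commute.conj_iff g⁻¹).2 hc2
      rw [inv_inv, show g⁻¹ * (g * y0 * g⁻¹) * g = y0 by group] at this
      exact this.eq
    have hgyz : ∀ a ∈ zpowers y0, g * a * g⁻¹ ∈ zpowers y0 := by
      rintro _ ⟨j, rfl⟩
      show g * y0 ^ j * g⁻¹ ∈ zpowers y0
      rw [← conj_zpow]
      refine zpow_mem ?_ j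
      rcases hgy with e | e <;> rw [e]
      · exact mem_zpowers y0
      · exact mul_mem (mem_zpowers y0) (mem_zpowers y0)
    -- the map
    have hdy : ∀ d, ρ (fD d) * y0 = y0 * ρ (fD d) := fun d => hy0 ▸ (h.comm_iff _ _).2 (fD_ok d).2.1
    let F0 : DihedralGroup 4 →* H := MonoidHom.mk'
      (fun d => ⟨g⁻¹ * ρ (fD d) * g, mem_centralizer_singleton_iff.2 (hfrom _ (hdy d))⟩) fun a b => Subtype.ext (by
        show g⁻¹ * ρ (fD (a * b)) * g = g⁻¹ * ρ (fD a) * g * (g⁻¹ * ρ (fD b) * g)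
        rw [← fD_mul, h.mul_eq]; group)
    have hF0v : ∀ d, ((F0 d : H) : G) = g⁻¹ * ρ (fD d) * g := fun d => rfl
    have hcen : ∀ d, π (F0 d) ∈ Subgroup.centralizer ({π w} : Set (H ⧸ (zpowers y0).subgroupOf H)) := fun d => by
      refine mem_centralizer_singleton_iff.2 ?_
      rw [← map_mul, ← map_mul]
      refine congrArg π (Subtype.ext ?_)
      have hc : Commute (ρ (fD d)) (g * (w : G) * g⁻¹) := hgw ▸ h.mem (fD d)
      have := (Commute.conj_iff g⁻¹).2 hc
      rw [inv_inv, show g⁻¹ * (g * (w : G) * g⁻¹) * g = w by group] at this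
      simpa [hF0v] using this.eq
    let F : DihedralGroup 4 →* ↥(Subgroup.centralizer ({π w} : Set (H ⧸ (zpowers y0).subgroupOf H))) :=
      (π.comp F0).codRestrict _ hcen
    refine ⟨(MulEquiv.ofBijective F ⟨?_, ?_⟩).symm⟩
    · refine (injective_iff_map_eq_one F).2 fun d hd => ?_
      have h1 : π (F0 d) = 1 := congrArg Subtype.val hd
      have h2 := hgyz _ ((hπ _).1 h1)
      rw [hF0v, show g * (g⁻¹ * ρ (fD d) * g) * g⁻¹ = ρ (fD d) by group, hy0] at h2
      obtain ⟨i, hi, he⟩ := h.y_zpowers h2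
      have := h.eq_of (fD_ok d).1 (by omega) he
      exact (fD_ok d).2.2 (by omega)
    · rintro ⟨X, hX⟩
      obtain ⟨c, rfl⟩ : ∃ c, π c = X := QuotientGroup.mk'_surjective _ X
      have hX' := mem_centralizer_singleton_iff.1 hX
      obtain ⟨k, hk, hke⟩ : ∃ k ∈ zpowers y0, (c : G) * w * (c : G)⁻¹ = w * k := by
        refine ⟨(w : G)⁻¹ * ((c : G) * w * (c : G)⁻¹), (hπ (w⁻¹ * (c * w * c⁻¹))).1 ?_, by group⟩
        rw [map_mul, map_mul, map_mul, map_inv, map_inv, hX', mul_inv_cancel_right, inv_mul_cancel]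
      have hkk : k * k = 1 := by
        have e1 : (c : G) * w * (c : G)⁻¹ * ((c : G) * w * (c : G)⁻¹) = 1 := by
          rw [show (c : G) * w * (c : G)⁻¹ * ((c : G) * w * (c : G)⁻¹) = (c : G) * ((w : G) * w) * (c : G)⁻¹ by group,
            hw2, mul_one, mul_inv_cancel]
        rw [hke, show (w : G) * k * ((w : G) * k) = (w : G) * (k * w) * k by group, ← hyc k hk w, ← mul_assoc, hw2,
          one_mul] at e1
        exact e1
      have hk1 : k = 1 := by
        have := hk3 k hk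
        rwa [pow_succ, pow_two, hkk, one_mul] at this
      rw [hk1, mul_one] at hke
      have hct : g * (c : G) * g⁻¹ * t = t * (g * (c : G) * g⁻¹) := by
        rw [← hgw]
        exact ((Commute.conj_iff g).2 (show Commute (c : G) w from mul_inv_eq_iff_eq_mul.1 hke)).eq
      obtain ⟨a, ha, hae⟩ := h.surj _ hct
      obtain ⟨d, i, hi, hd⟩ := cy_ok a ha (h.comm_of (by
        rw [hae, show ρ yc = y0 from hy0.symm]
        exact hto c (mem_centralizer_singleton_iff.1 c.2)))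
      refine ⟨d, Subtype.ext ?_⟩
      show π (F0 d) = π c
      rw [← inv_mul_eq_one, ← map_inv, ← map_mul, hπ]
      have e1 : ((F0 d : H) : G)⁻¹ * (c : G) = g⁻¹ * ρ (32 * i) * g := by
        rw [hF0v, show (c : G) = g⁻¹ * ρ a * g by rw [hae]; group, hd, h.mul_eq]; group
      show ((F0 d : H) : G)⁻¹ * (c : G) ∈ zpowers y0
      rw [e1]
      obtain ⟨j, hj⟩ : ρ (32 * i) ∈ zpowers y0 := by
        interval_cases i
        · rw [Nat.mul_zero, h.zero]; exact one_mem _
        · rw [hy0]; exact mem_zpowers _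
        · rw [show 32 * 2 = 64 from rfl, h.sixty_four, hy0]; exact mul_mem (mem_zpowers _) (mem_zpowers _)
      rw [← hj]
      show g⁻¹ * y0 ^ j * g ∈ _
      have := conj_zpow (i := j) (a := g⁻¹) (b := y0)
      rw [inv_inv] at this
      rw [← this]
      exact zpow_mem hgy' j
  -- the image of `t`
  have htH : t ∈ H := mem_centralizer_singleton_iff.2 (hy0 ▸ (h.mem 32).symm)
  set T := π ⟨t, htH⟩ with hT
  have hT2 : T * T = 1 := by
    rw [hT, ← map_mul, hπ]
    show t * t ∈ _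
    rw [h.tt]; exact one_mem _
  have hT1 : T ≠ 1 := fun e => h.t_ne (by
    have h1 := hk3 t ((hπ _).1 e)
    rwa [pow_succ, pow_two, h.tt, one_mul] at h1)
  have h5 : 5 ∣ Nat.card (H ⧸ (zpowers y0).subgroupOf H) := by
    have h1 : 5 ∣ Nat.card H := by rw [hH, hy0]; exact h.five_dvd hone
    have h2 := ((zpowers y0).subgroupOf H).card_mul_index
    rw [Subgroup.index_eq_card, Nat.card_congr (subgroupOfEquivOfLe (zpowers_le.2
      (mem_centralizer_singleton_iff.2 rfl) : zpowers y0 ≤ H)).toEquiv, Nat.card_zpowers, hyo] at h2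
    rw [← h2] at h1
    exact ((Nat.Prime.dvd_mul (by norm_num)).1 h1).resolve_left (by norm_num)
  rcases S3035.result T (orderOf_eq_prime (hp := ⟨Nat.prime_two⟩) (by rw [pow_two, hT2]) hT1) (key T hT2 hT1) with
    hc | ⟨⟨e⟩⟩ | ⟨⟨e⟩⟩ | ⟨⟨e⟩⟩ | ⟨⟨e⟩⟩
  · exfalso
    set O := Cfsg.oddCore (H ⧸ (zpowers y0).subgroupOf H) with hO
    haveI : O.Normal := Cores.pPrimeCore_normal 2
    have hodd : Odd (Nat.card O) := Cores.oddCore_odd
    have hcard8 : ∀ W : H ⧸ (zpowers y0).subgroupOf H, W * W = 1 → W ≠ 1 →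
        Nat.card ↥(Subgroup.centralizer ({W} : Set (H ⧸ (zpowers y0).subgroupOf H))) = 8 ∧
          ∀ x ∈ Subgroup.centralizer ({W} : Set (H ⧸ (zpowers y0).subgroupOf H)), x ∈ O → x = 1 := by
      intro W hW hW1
      obtain ⟨eW⟩ := key W hW hW1
      have h8 : Nat.card ↥(Subgroup.centralizer ({W} : Set (H ⧸ (zpowers y0).subgroupOf H))) = 8 := by
        rw [Nat.card_congr eW.toEquiv, DihedralGroup.nat_card]
      refine ⟨h8, fun x hx hxO => ?_⟩
      have d1 : orderOf x ∣ 2 ^ 3 := by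
        rw [show (2 : ℕ) ^ 3 = 8 from rfl, ← h8]
        exact (Subgroup.orderOf_coe (⟨x, hx⟩ : ↥(Subgroup.centralizer ({W} : Set (H ⧸ (zpowers y0).subgroupOf H))))) ▸
          orderOf_dvd_natCard _
      have d2 : orderOf x ∣ Nat.card O := (Subgroup.orderOf_coe (⟨x, hxO⟩ : O)) ▸ orderOf_dvd_natCard _
      exact orderOf_eq_one_iff.1 (Nat.eq_one_of_dvd_coprimes
        (Nat.Coprime.pow_left 3 (Nat.coprime_two_left.2 hodd)) d1 d2)
    obtain ⟨eT⟩ := key T hT2 hT1
    obtain ⟨u', b', hu', hu1', hub'⟩ := dihedral_fact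
    obtain ⟨u, hu⟩ : ∃ u, u = ((eT.symm u' : _) : H ⧸ (zpowers y0).subgroupOf H) := ⟨_, rfl⟩
    obtain ⟨b, hb⟩ : ∃ b, b = ((eT.symm b' : _) : H ⧸ (zpowers y0).subgroupOf H) := ⟨_, rfl⟩
    have hu2 : u * u = 1 := by rw [hu, ← Subgroup.coe_mul, ← map_mul, hu', map_one]; rfl
    have hu1 : u ≠ 1 := fun e => hu1' (eT.symm.injective ((Subtype.ext (hu ▸ e) : eT.symm u' = 1).trans eT.symm.map_one.symm))
    have hub : u * b ≠ b * u := fun e => hub' (eT.symm.injective (by
      rw [map_mul, map_mul]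
      exact Subtype.ext (by rw [Subgroup.coe_mul, Subgroup.coe_mul, ← hu, ← hb]; exact e)))
    have huT : u ∈ Subgroup.centralizer ({T} : Set _) := hu ▸ (eT.symm u').2
    have hbT : b ∈ Subgroup.centralizer ({T} : Set _) := hb ▸ (eT.symm b').2
    -- the quotient by the odd core has order eight
    have hbijT : Function.Bijective ((QuotientGroup.mk' O).comp (Subgroup.centralizer ({T} : Set _)).subtype) := by
      refine ⟨(injective_iff_map_eq_one _).2 fun x hx => Subtype.ext ((hcard8 T hT2 hT1).2 x x.2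
        ((QuotientGroup.eq_one_iff _).1 hx)), fun q => ?_⟩
      obtain ⟨x, rfl⟩ := QuotientGroup.mk'_surjective O q
      obtain ⟨a, ha, o, ho, rfl⟩ := Subgroup.mem_sup_of_normal_right.1 (hc.symm ▸ mem_top x :
        x ∈ Subgroup.centralizer ({T} : Set _) ⊔ O)
      refine ⟨⟨a, ha⟩, ?_⟩
      show QuotientGroup.mk' O a = QuotientGroup.mk' O (a * o)
      rw [map_mul]
      simp [(QuotientGroup.eq_one_iff o).2 ho]
    have hbiju : Function.Bijective ((QuotientGroup.mk' O).comp (Subgroup.centralizer ({u} : Set _)).subtype) := by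
      refine (Nat.bijective_iff_injective_and_card _).2 ⟨(injective_iff_map_eq_one _).2 fun x hx =>
        Subtype.ext ((hcard8 u hu2 hu1).2 x x.2 ((QuotientGroup.eq_one_iff _).1 hx)), ?_⟩
      rw [(hcard8 u hu2 hu1).1, ← (hcard8 T hT2 hT1).1]
      exact Nat.card_eq_of_bijective _ hbijT
    obtain ⟨⟨c, hcu⟩, hce⟩ := hbiju.2 (QuotientGroup.mk' O b)
    have hcu' : u * c = c * u := (mem_centralizer_singleton_iff.1 hcu).symm
    refine hub ?_
    have h1 : QuotientGroup.mk' O (u * b) = QuotientGroup.mk' O (b * u) := by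
      rw [map_mul, map_mul, ← hce]
      show _ * QuotientGroup.mk' O c = QuotientGroup.mk' O c * _
      rw [← map_mul, ← map_mul, hcu']
    have h2 : (⟨u, huT⟩ : ↥(Subgroup.centralizer ({T} : Set _))) * ⟨b, hbT⟩ = ⟨b, hbT⟩ * ⟨u, huT⟩ := hbijT.1 h1
    exact congrArg Subtype.val h2
  · rw [Nat.card_congr e.toEquiv, Nat.card_perm, Nat.card_fin] at h5
    norm_num [Nat.factorial] at h5
  · exfalso
    obtain ⟨x, hx2, hx1, hx12⟩ := symm_five_fact
    obtain ⟨eW⟩ := key (e.symm x) (by rw [← map_mul, hx2, map_one])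
      (fun h0 => hx1 (e.symm.injective (h0.trans e.symm.map_one.symm)))
    have h8 := Nat.card_congr eW.toEquiv
    rw [DihedralGroup.nat_card] at h8
    have h12 : Nat.card ↥(Subgroup.centralizer ({e.symm x} : Set (H ⧸ (zpowers y0).subgroupOf H))) = 12 := by
      rw [← hx12, ← Nat.card_eq_fintype_card]
      refine Nat.card_congr (Equiv.subtypeEquiv e.toEquiv fun a => ?_)
      rw [mem_centralizer_singleton_iff]
      show _ ↔ e a * x = x * e a
      rw [← e.apply_eq_iff_eq, map_mul, map_mul, e.apply_symm_apply]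
    omega
  · rw [Nat.card_congr e.toEquiv, sl_card] at h5
    norm_num at h5
  · refine ⟨e.toMonoidHom.comp π, e.surjective.comp (QuotientGroup.mk'_surjective _), fun c => ?_⟩
    show e (π c) = 1 ↔ _
    rw [MulEquiv.map_eq_one_iff, hπ]

/-- The centralizer of an element of order three centralizing an involution. -/
theorem centralizer_three (hone : ∀ x y : G, orderOf x = 2 → orderOf y = 2 → IsConj x y) {y w : G}
    (hy : orderOf y = 3) (hw : w * w = 1) (hw1 : w ≠ 1) (hyw : y * w = w * y) :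
    ∃ φ : Subgroup.centralizer ({y} : Set G) →* alternatingGroup (Fin 6),
      Function.Surjective φ ∧ ∀ c, φ c = 1 ↔ (c : G) ∈ zpowers y := by
  obtain ⟨φ, hφ, hker⟩ := h.centralizer_y hone
  obtain ⟨g, -, hg⟩ := h.pair_conj hone hy hw hw1 hyw
  have hz : zpowers (g * y * g⁻¹) = zpowers (ρ 32) := by
    rcases hg with e | e <;> rw [e]
    refine le_antisymm (zpowers_le.2 (mul_mem (mem_zpowers _) (mem_zpowers _))) (zpowers_le.2 ⟨2, ?_⟩)
    show (ρ 32 * ρ 32) ^ (2 : ℤ) = ρ 32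
    rw [zpow_two, four_of_three (h.order_y ▸ pow_orderOf_eq_one (ρ 32))]
  have hmap : ∀ c : Subgroup.centralizer ({y} : Set G), g * (c : G) * g⁻¹ ∈ Subgroup.centralizer ({ρ 32} : Set G) := by
    intro c
    refine mem_centralizer_singleton_iff.2 ?_
    have hc : Commute (g * (c : G) * g⁻¹) (g * y * g⁻¹) := (Commute.conj_iff g).2 (mem_centralizer_singleton_iff.1 c.2)
    obtain ⟨j, hj⟩ : ρ 32 ∈ zpowers (g * y * g⁻¹) := hz ▸ mem_zpowers _
    rw [← hj]
    exact (hc.zpow_right j).eq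
  let ψ : Subgroup.centralizer ({y} : Set G) →* Subgroup.centralizer ({ρ 32} : Set G) :=
    ((MulAut.conj g).toMonoidHom.comp (Subgroup.centralizer ({y} : Set G)).subtype).codRestrict _ hmap
  have hψ : Function.Surjective ψ := by
    intro d
    have hd : Commute (d : G) (g * y * g⁻¹) := by
      obtain ⟨j, hj⟩ : g * y * g⁻¹ ∈ zpowers (ρ 32) := hz ▸ mem_zpowers _
      rw [← hj]
      exact (show Commute (d : G) (ρ 32) from mem_centralizer_singleton_iff.1 d.2).zpow_right j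
    have := (Commute.conj_iff g⁻¹).2 hd
    rw [inv_inv, show g⁻¹ * (g * y * g⁻¹) * g = y by group] at this
    exact ⟨⟨g⁻¹ * (d : G) * g, mem_centralizer_singleton_iff.2 this.eq⟩, Subtype.ext (by
      show g * (g⁻¹ * (d : G) * g) * g⁻¹ = d
      group)⟩
  refine ⟨φ.comp ψ, hφ.comp hψ, fun c => ?_⟩
  show φ (ψ c) = 1 ↔ _
  rw [hker, ← hz]
  show g * (c : G) * g⁻¹ ∈ zpowers (g * y * g⁻¹) ↔ _
  constructor
  · rintro ⟨j, hj⟩
    change (g * y * g⁻¹) ^ j = _ at hj
    rw [conj_zpow] at hj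
    exact ⟨j, mul_left_cancel (mul_right_cancel hj)⟩
  · rintro ⟨j, hj⟩
    change y ^ j = _ at hj
    exact ⟨j, by show (g * y * g⁻¹) ^ j = _; rw [conj_zpow, hj]⟩

end Chart

end Cfsg.Agent.J3Uniq.Local
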