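import Mathlib
import Cfsg.Agent.Lib.J3Uniq.Reduce
import Cfsg.Agent.Lib.J3Uniq.Local

/-!
An involution centralizer `2^{1+4}.A₅` in a simple group with one class of involutions has an involution outside the
extraspecial subgroup, hence splits.
-/

set_option autoImplicit false
set_option linter.all false
set_option maxHeartbeats 1000000

namespace Cfsg.Agent.J3Uniq.Local

open Subgroup

universe v

theorem alt_five_product : ∀ a : alternatingGroup (Fin 5), a * a = 1 → a ≠ 1 →
    ∃ b : alternatingGroup (Fin 5), (a * (b * a * b⁻¹)) ^ 5 = 1 ∧ a * (b * a * b⁻¹) ≠ 1 := by decide +kernel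

/-- An element over an involution of `A₅` moves some element commuting with a given involution, modulo the center. -/
theorem exists_moved {C : Type*} [Group C] [Finite C] {Q : Subgroup C} {z : C} {π : C →* JankoTwo.AltFive.A5}
    (h : JankoTwo.Pre Q z π) {u w : C} (hu : u ∈ Q) (hw : π w * π w = 1) (hw1 : π w ≠ 1) :
    ∃ q ∈ Q, q * u = u * q ∧ w * q * w⁻¹ ≠ q ∧ w * q * w⁻¹ ≠ z * q := by
  classical
  by_contra hno
  push Not at hno
  haveI := h.normal
  obtain ⟨-, hcomm, -⟩ := h.facts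
  have hall : ∀ q ∈ Q, q * u = u * q → w * q * w⁻¹ = q ∨ w * q * w⁻¹ = z * q := fun q hq hqu => by
    by_cases e : w * q * w⁻¹ = q
    · exact Or.inl e
    · exact Or.inr (hno q hq hqu e)
  let H : Subgroup Q := (Subgroup.centralizer ({u} : Set C)).subgroupOf Q
  have hH : ∀ a b : Q, a ∉ H → b ∉ H → a⁻¹ * b ∈ H := by
    intro a b ha hb
    simp only [H, mem_subgroupOf, mem_centralizer_singleton_iff, Subgroup.coe_mul, Subgroup.coe_inv] at ha hb ⊢
    have a1 := (hcomm a a.2 u hu).resolve_left ha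
    have b1 := (hcomm b b.2 u hu).resolve_left hb
    have a2 : (a : C)⁻¹ * u = z * (u * (a : C)⁻¹) := by
      calc (a : C)⁻¹ * u = z * z * ((a : C)⁻¹ * u) := by rw [h.zz, one_mul]
        _ = z * ((a : C)⁻¹ * z * u) := by rw [mul_assoc z z, ← mul_assoc z (a : C)⁻¹, h.zc (a : C)⁻¹]
        _ = z * ((a : C)⁻¹ * (z * (u * (a : C))) * (a : C)⁻¹) := by group
        _ = z * ((a : C)⁻¹ * ((a : C) * u) * (a : C)⁻¹) := by rw [a1]
        _ = z * (u * (a : C)⁻¹) := by group
    calc (a : C)⁻¹ * b * u = (a : C)⁻¹ * (z * (u * b)) := by rw [mul_assoc, b1]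
      _ = z * ((a : C)⁻¹ * u) * b := by rw [← mul_assoc, ← h.zc]; group
      _ = z * z * (u * (a : C)⁻¹) * b := by rw [a2]; group
      _ = u * ((a : C)⁻¹ * b) := by rw [h.zz, one_mul, mul_assoc]
  have hHi : H.index ≤ 2 := by
    rw [Subgroup.index_eq_card]
    refine (Nat.card_le_card_of_injective (fun x : Q ⧸ H => decide (x = ((1 : Q) : Q ⧸ H))) fun x y e => ?_).trans
      (by rw [Nat.card_eq_fintype_card, Fintype.card_bool])
    induction x using QuotientGroup.induction_on with | _ a =>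
    induction y using QuotientGroup.induction_on with | _ b =>
    simp only [decide_eq_decide, QuotientGroup.eq, mul_one, inv_mem_iff] at e ⊢
    by_cases ha : a ∈ H
    · exact H.mul_mem (H.inv_mem ha) (e.1 ha)
    · exact hH a b ha fun hb => ha (e.2 hb)
  obtain ⟨b, hb5, hb1⟩ := alt_five_product (π w) hw hw1
  obtain ⟨c, hc⟩ := h.surj b
  let σ : Q →* Q := ((MulAut.conj c⁻¹).toMonoidHom.comp Q.subtype).codRestrict Q fun q =>
    h.normal.conj_mem q q.2 c⁻¹
  let H' : Subgroup Q := H.comap σ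
  have hH'i : H'.index ≤ 2 := by
    have hσs : Function.Surjective σ := fun q => ⟨⟨c * (q : C) * c⁻¹, h.normal.conj_mem q q.2 c⟩, Subtype.ext (by
      show c⁻¹ * (c * (q : C) * c⁻¹) * c⁻¹⁻¹ = q
      group)⟩
    rw [Subgroup.index_comap_of_surjective H hσs]
    exact hHi
  have hinf : 8 ≤ Nat.card ↥(H ⊓ H') := by
    have h1 := (H ⊓ H').card_mul_index
    rw [h.card32] at h1
    have h2 : (H ⊓ H').index ≤ 4 := Subgroup.index_inf_le.trans (Nat.mul_le_mul hHi hH'i)
    have h3 := Nat.mul_le_mul_left (Nat.card ↥(H ⊓ H')) h2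
    rw [h1] at h3
    omega
  obtain ⟨q, hq, hq1, hqz⟩ : ∃ q ∈ H ⊓ H', (q : C) ≠ 1 ∧ (q : C) ≠ z := by
    by_contra hh
    push Not at hh
    have hle := Nat.card_le_card_of_injective (fun x : ↥(H ⊓ H') => (⟨((x : Q) : C), by
      by_cases e : ((x : Q) : C) = 1
      · simp [e]
      · simp [hh x x.2 e]⟩ : ({1, z} : Finset C))) fun x y e => Subtype.ext (Subtype.ext (congrArg Subtype.val e :))
    rw [Nat.card_eq_finsetCard] at hle
    have := hle.trans Finset.card_le_two
    omega
  have h1 := hall q q.2 (mem_centralizer_singleton_iff.1 (mem_subgroupOf.1 hq.1))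
  have hq' : c⁻¹ * (q : C) * c⁻¹⁻¹ * u = u * (c⁻¹ * (q : C) * c⁻¹⁻¹) :=
    mem_centralizer_singleton_iff.1 (mem_subgroupOf.1 (show σ q ∈ H from hq.2))
  have h2 := hall _ (h.normal.conj_mem q q.2 c⁻¹) hq'
  have h3 : c * w * c⁻¹ * q * (c * w * c⁻¹)⁻¹ = q ∨ c * w * c⁻¹ * q * (c * w * c⁻¹)⁻¹ = z * q := by
    rw [show c * w * c⁻¹ * (q : C) * (c * w * c⁻¹)⁻¹ = c * (w * (c⁻¹ * (q : C) * c⁻¹⁻¹) * w⁻¹) * c⁻¹ by group]
    rcases h2 with e | e <;> rw [e]
    · exact Or.inl (by group)
    · refine Or.inr ?_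
      rw [← mul_assoc c z, ← h.zc c]
      group
  have h4 : (w * (c * w * c⁻¹)) * q * (w * (c * w * c⁻¹))⁻¹ = q ∨
      (w * (c * w * c⁻¹)) * q * (w * (c * w * c⁻¹))⁻¹ = z * q := by
    rw [show (w * (c * w * c⁻¹)) * (q : C) * (w * (c * w * c⁻¹))⁻¹ =
      w * (c * w * c⁻¹ * q * (c * w * c⁻¹)⁻¹) * w⁻¹ by group]
    rcases h3 with e | e <;> rw [e]
    · exact h1
    · rw [← mul_assoc w z, ← h.zc w, show z * w * (q : C) * w⁻¹ = z * (w * q * w⁻¹) by group]
      rcases h1 with e1 | e1 <;> rw [e1]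
      · exact Or.inr rfl
      · exact Or.inl (by rw [← mul_assoc, h.zz, one_mul])
  rcases h.fix_five (c := w * (c * w * c⁻¹)) (by rw [map_mul, map_mul, map_mul, map_inv, hc]; exact hb5)
    (by rw [map_mul, map_mul, map_mul, map_inv, hc]; exact hb1) q.2 h4 with e | e
  · exact hq1 e
  · exact hqz e

theorem exists_setting {G : Type v} [Group G] [Finite G] [IsSimpleGroup G] (t : G) (ht : orderOf t = 2)
    (E : Subgroup (Subgroup.centralizer ({t} : Set G))) [E.Normal] (hX : Cfsg.IsExtraspecial 2 E)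
    (hE : Nat.card E = 32) (e : (Subgroup.centralizer ({t} : Set G)) ⧸ E ≃* alternatingGroup (Fin 5))
    (hone : ∀ x y : G, orderOf x = 2 → orderOf y = 2 → IsConj x y) :
    ∃ K, InvChar.JankoTwoCount.Setting E K (JankoTwo.zed t) := by
  classical
  haveI : Fact (Nat.Prime 2) := ⟨Nat.prime_two⟩
  have h2c := Reduce.centralizer_le t ht E hX hE e
  have htt : t * t = 1 := by rw [← pow_two, ← ht, pow_orderOf_eq_one]
  have ht1 : t ≠ 1 := fun e0 => by rw [e0, orderOf_one] at ht; omega
  let z : (Subgroup.centralizer ({t} : Set G)) := JankoTwo.zed t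
  have hzc : ∀ c : (Subgroup.centralizer ({t} : Set G)), z * c = c * z := fun c => Subtype.ext (mem_centralizer_singleton_iff.1 c.2).symm
  have hzE : z ∈ E := h2c (mem_centralizer_iff.2 fun c _ => (hzc c).symm)
  let π : (Subgroup.centralizer ({t} : Set G)) →* JankoTwo.AltFive.A5 := e.toMonoidHom.comp (QuotientGroup.mk' E)
  have hP : JankoTwo.Pre E z π := ⟨inferInstance, hX, hE, hzE, Subtype.ext htt, fun e0 => ht1 (congrArg Subtype.val e0),
    hzc, h2c, e.surjective.comp (QuotientGroup.mk'_surjective E), by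
      ext x
      rw [MonoidHom.mem_ker]
      show e (QuotientGroup.mk' E x) = 1 ↔ x ∈ E
      rw [MulEquiv.map_eq_one_iff]
      exact QuotientGroup.eq_one_iff x⟩
  obtain ⟨hsq, hcomm, -⟩ := hP.facts
  by_contra hno
  have hin : ∀ x : (Subgroup.centralizer ({t} : Set G)), x * x = 1 → x ∈ E := fun x hx => by
    by_contra hxE
    exact hno (hP.exists_setting hx hxE)
  set Q0 : Subgroup G := E.map (Subgroup.centralizer ({t} : Set G)).subtype with hQ0
  have hQC : ∀ x ∈ Q0, x * t = t * x := by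
    rintro _ ⟨q, -, rfl⟩
    exact mem_centralizer_singleton_iff.1 q.2
  have hlift : ∀ x : G, x * t = t * x → x * x = 1 → x ∈ Q0 := fun x hx hxx =>
    ⟨⟨x, mem_centralizer_singleton_iff.2 hx⟩, hin _ (Subtype.ext hxx), rfl⟩
  have hsq0 : ∀ x ∈ Q0, x * x = 1 ∨ x * x = t := by
    rintro _ ⟨q, hq, rfl⟩
    exact (hsq q hq).imp (congrArg Subtype.val) (congrArg Subtype.val)
  have hnorm : ∀ c : G, c * t = t * c → ∀ x ∈ Q0, c * x * c⁻¹ ∈ Q0 := by
    rintro c hc _ ⟨q, hq, rfl⟩
    exact ⟨⟨c, mem_centralizer_singleton_iff.2 hc⟩ * q * (⟨c, mem_centralizer_singleton_iff.2 hc⟩ : (Subgroup.centralizer ({t} : Set G)))⁻¹,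
      Subgroup.Normal.conj_mem inferInstance q hq _, rfl⟩
  -- elementary abelian subgroups are small
  have helem : ∀ v : G, v ∈ Q0 → v * v = 1 → v ≠ 1 → v ≠ t → ∀ x ∈ Q0, x * v = v * x → x * x = 1 →
      x = 1 ∨ x = t ∨ x = v ∨ x = v * t := by
    rintro _ ⟨v, hv, rfl⟩ hvv hv1 hvt _ ⟨x, hx, rfl⟩ hxv hxx
    by_contra hh
    push Not at hh
    obtain ⟨hx1, hxt, hxv', hxvt⟩ := hh
    set A : Subgroup E := Subgroup.closure ({⟨z, hzE⟩, ⟨v, hv⟩, ⟨x, hx⟩} : Set E) with hA
    have hpair : ∀ a ∈ ({⟨z, hzE⟩, ⟨v, hv⟩, ⟨x, hx⟩} : Set E), ∀ b ∈ ({⟨z, hzE⟩, ⟨v, hv⟩, ⟨x, hx⟩} : Set E),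
        a * b = b * a := by
      intro a ha b hb
      simp only [Set.mem_insert_iff, Set.mem_singleton_iff] at ha hb
      have hvx : (v : (Subgroup.centralizer ({t} : Set G))) * x = x * v := Subtype.ext hxv.symm
      rcases ha with rfl | rfl | rfl <;> rcases hb with rfl | rfl | rfl <;> apply Subtype.ext <;>
        simp only [Subgroup.coe_mul] <;> first | exact hzc _ | exact (hzc _).symm | exact hvx | exact hvx.symm | rfl
    have hcommA : IsMulCommutative A := Subgroup.isMulCommutative_closure hpair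
    have hEA : Cfsg.IsElementaryAbelian 2 A := by
      refine ⟨hcommA, fun a ha => ?_⟩
      rw [pow_two]
      induction ha using Subgroup.closure_induction with
      | mem a ha =>
        simp only [Set.mem_insert_iff, Set.mem_singleton_iff] at ha
        rcases ha with rfl | rfl | rfl <;> apply Subtype.ext <;> apply Subtype.ext
        · exact htt
        · exact hvv
        · exact hxx
      | one => rw [one_mul]
      | mul a b ha hb ea eb =>
        have := hcommA.is_comm.comm (⟨b, hb⟩ : A) ⟨a, ha⟩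
        rw [show a * b * (a * b) = a * (b * a) * b by group, show b * a = a * b from congrArg Subtype.val this,
          show a * (a * b) * b = a * a * (b * b) by group, ea, eb, one_mul]
      | inv a ha ea => rw [← mul_inv_rev, ea, inv_one]
    have hcard := Reduce.minus_type t ht E hX hE e A hEA
    let L : Fin 5 → G := ![1, t, (v : G), (v : G) * t, (x : G)]
    have hL : ∀ i, ∃ a ∈ A, ((a : (Subgroup.centralizer ({t} : Set G))) : G) = L i := by
      intro i
      have hz' : (⟨z, hzE⟩ : E) ∈ A := Subgroup.subset_closure (by simp)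
      have hv' : (⟨v, hv⟩ : E) ∈ A := Subgroup.subset_closure (by simp)
      have hx' : (⟨x, hx⟩ : E) ∈ A := Subgroup.subset_closure (by simp)
      fin_cases i
      · exact ⟨1, one_mem A, rfl⟩
      · exact ⟨_, hz', rfl⟩
      · exact ⟨_, hv', rfl⟩
      · exact ⟨_, mul_mem hv' hz', rfl⟩
      · exact ⟨_, hx', rfl⟩
    choose a ha hae using hL
    have hLi : Function.Injective L := by
      have h1 : (v : G) * t ≠ 1 := fun e0 => hvt ((eq_inv_of_mul_eq_one_left e0).trans (inv_eq_of_mul_eq_one_right htt))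
      have h2 : (v : G) * t ≠ t := fun e0 => hv1 (mul_eq_right.1 e0)
      have h3 : (v : G) * t ≠ (v : G) := fun e0 => ht1 (mul_eq_left.1 e0)
      intro i j hij
      simp only [Subgroup.coe_subtype] at hx1 hxt hxv' hxvt hv1 hvt
      fin_cases i <;> fin_cases j <;> first
        | rfl
        | (exfalso; first
            | exact ht1 hij | exact ht1 hij.symm | exact hv1 hij | exact hv1 hij.symm | exact hvt hij
            | exact hvt hij.symm | exact h1 hij | exact h1 hij.symm | exact h2 hij | exact h2 hij.symm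
            | exact h3 hij | exact h3 hij.symm | exact hx1 hij | exact hx1 hij.symm | exact hxt hij
            | exact hxt hij.symm | exact hxv' hij | exact hxv' hij.symm | exact hxvt hij | exact hxvt hij.symm)
    have := Nat.card_le_card_of_injective (fun i => (⟨a i, ha i⟩ : A)) fun i j h => hLi (by
      rw [← hae i, ← hae j, show a i = a j from congrArg Subtype.val h])
    rw [Nat.card_eq_fintype_card, Fintype.card_fin] at this
    omega
  -- a second conjugate
  obtain ⟨u, hut, huu, hu1, hune⟩ : ∃ u : G, u * t = t * u ∧ u * u = 1 ∧ u ≠ 1 ∧ u ≠ t := by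
    by_contra hh
    push Not at hh
    have hI : Cfsg.IsIsolatedInvolution t := ⟨ht, fun g hg => hh (g * t * g⁻¹) hg.eq.symm (by
      rw [show g * t * g⁻¹ * (g * t * g⁻¹) = g * (t * t) * g⁻¹ by group, htt, mul_one, mul_inv_cancel])
      fun e0 => ht1 (conj_eq_one_iff.1 e0)⟩
    have h2G : 2 ∣ Nat.card G := ht ▸ orderOf_dvd_natCard t
    have hO : Cfsg.oddCore G = ⊥ := ZStar.Consequences.oddCore_eq_bot fun N hN hodd => by
      rcases hN.eq_bot_or_eq_top with hb | htop
      · exact hb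
      · exfalso
        rw [htop, card_top] at hodd
        exact (Nat.not_even_iff_odd.2 hodd) (even_iff_two_dvd.2 h2G)
    have hzcen := ZStar.Main.mem_center_of_isolated hO hI
    have hCtop : (Subgroup.centralizer ({t} : Set G)) = ⊤ := eq_top_iff.2 fun g _ => mem_centralizer_singleton_iff.2 (mem_center_iff.1 hzcen g)
    haveI hn : Q0.Normal := ⟨fun a ha g => hnorm g (mem_centralizer_singleton_iff.1 (hCtop ▸ mem_top g)) a ha⟩
    have hEc : Nat.card Q0 = 32 := by rw [hQ0, card_map_of_injective (Subgroup.centralizer ({t} : Set G)).subtype_injective, hE]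
    rcases hn.eq_bot_or_eq_top with hb | ht'
    · rw [hb, card_bot] at hEc; omega
    · rw [ht', card_top] at hEc
      have h1 := E.card_mul_index
      rw [hE, Subgroup.index_eq_card, Nat.card_congr e.toEquiv, nat_card_alternatingGroup, Nat.card_fin,
        hCtop, card_top, hEc] at h1
      norm_num [Nat.factorial] at h1
  have huQ : u ∈ Q0 := hlift u hut huu
  obtain ⟨g, hg⟩ := isConj_iff.1 (hone u t (orderOf_eq_prime (by rw [pow_two, huu]) hu1) ht)
  obtain ⟨u', hu'⟩ : ∃ u', u' = g * t * g⁻¹ := ⟨_, rfl⟩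
  have hcg : ∀ {a b : G}, a * b = b * a → g * a * g⁻¹ * (g * b * g⁻¹) = g * b * g⁻¹ * (g * a * g⁻¹) := fun {a b} hab => by
    rw [show g * a * g⁻¹ * (g * b * g⁻¹) = g * (a * b) * g⁻¹ by group, hab]; group
  have hcg' : ∀ {a b : G}, a * b = b * a → g⁻¹ * a * g * (g⁻¹ * b * g) = g⁻¹ * b * g * (g⁻¹ * a * g) := fun {a b} hab => by
    rw [show g⁻¹ * a * g * (g⁻¹ * b * g) = g⁻¹ * (a * b) * g by group, hab]; group
  have hu't : u' * t = t * u' := by
    have := hcg hut.symm
    rwa [hg, ← hu'] at this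
  have hu'u : u' * u' = 1 := by rw [hu', show g * t * g⁻¹ * (g * t * g⁻¹) = g * (t * t) * g⁻¹ by group, htt]; group
  have hu'1 : u' ≠ 1 := fun e0 => ht1 (conj_eq_one_iff.1 (hu' ▸ e0))
  have hu'ne : u' ≠ t := fun e0 => hune (mul_left_cancel (mul_right_cancel ((hg.trans e0.symm).trans hu')))
  have hu'Q : u' ∈ Q0 := hlift u' hu't hu'u
  have hgu : g⁻¹ * t * g = u := by rw [← hg]; group
  have hgu' : g⁻¹ * u' * g = t := by rw [hu']; group
  -- the intersection
  have hV : ∀ x ∈ Q0, x * u = u * x → g * x * g⁻¹ ∈ Q0 → x = 1 ∨ x = t ∨ x = u ∨ x = u * t := by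
    intro x hx hxu hxg
    refine helem u huQ huu hu1 hune x hx hxu ?_
    rcases hsq0 x hx with e0 | e0
    · exact e0
    exfalso
    rcases hsq0 _ hxg with e1 | e1 <;> rw [show g * x * g⁻¹ * (g * x * g⁻¹) = g * (x * x) * g⁻¹ by group, e0, ← hu'] at e1
    · exact hu'1 e1
    · exact hu'ne e1
  have hclaim : ∀ v ∈ Q0, ∀ w : G, w * t = t * w → w ∉ Q0 → w * w ∈ Q0 →
      ∃ q ∈ Q0, q * v = v * q ∧ w * q * w⁻¹ ≠ q ∧ w * q * w⁻¹ ≠ t * q := by
    rintro _ ⟨v, hv, rfl⟩ w hwt hwQ hww
    have hwC : w ∈ (Subgroup.centralizer ({t} : Set G)) := mem_centralizer_singleton_iff.2 hwt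
    have hπE : ∀ x : (Subgroup.centralizer ({t} : Set G)), π x = 1 ↔ x ∈ E := fun x => hP.mem.symm
    obtain ⟨ww, hwwE, hwwe⟩ := hww
    obtain ⟨q, hq, hqv, h1, h2⟩ := exists_moved hP hv (w := ⟨w, hwC⟩)
      (by rw [← map_mul, hπE]; rwa [← show ww = (⟨w, hwC⟩ : (Subgroup.centralizer ({t} : Set G))) * ⟨w, hwC⟩ from Subtype.ext hwwe])
      (fun e0 => hwQ ⟨_, (hπE _).1 e0, rfl⟩)
    exact ⟨q, mem_map_of_mem _ hq, congrArg Subtype.val hqv, fun e0 => h1 (Subtype.ext e0),
      fun e0 => h2 (Subtype.ext e0)⟩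
  -- the commutators
  have hgC : ∀ {q : G}, q * u = u * q → g * q * g⁻¹ * t = t * (g * q * g⁻¹) := fun {q} hq => by
    rw [← hg]; exact hcg hq
  have hD : ∀ q ∈ Q0, q * u = u * q → ∀ w : G, g * w * g⁻¹ ∈ Q0 → w * t = t * w →
      q⁻¹ * w * q * w⁻¹ = 1 ∨ q⁻¹ * w * q * w⁻¹ = t ∨ q⁻¹ * w * q * w⁻¹ = u ∨ q⁻¹ * w * q * w⁻¹ = u * t := by
    intro q hq hqu w hw hwt
    have hwu : w * u = u * w := by
      have := hcg' (hQC _ hw)
      rwa [hgu, show g⁻¹ * (g * w * g⁻¹) * g = w by group] at this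
    refine hV _ ?_ ?_ ?_
    · rw [show q⁻¹ * w * q * w⁻¹ = q⁻¹ * (w * q * w⁻¹) by group]
      exact mul_mem (inv_mem hq) (hnorm w hwt q hq)
    · exact ((((show Commute q u from hqu).inv_left.mul_left hwu).mul_left hqu).mul_left
        (show Commute w u from hwu).inv_left).eq
    · rw [show g * (q⁻¹ * w * q * w⁻¹) * g⁻¹ = (g * q * g⁻¹)⁻¹ * (g * w * g⁻¹) * (g * q * g⁻¹)⁻¹⁻¹ * (g * w * g⁻¹)⁻¹ by group]
      exact mul_mem (hnorm _ (((show Commute (g * q * g⁻¹) t from hgC hqu).inv_left).eq) _ hw) (inv_mem hw)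
  -- no commutator equals the product
  have hnot : ∀ q ∈ Q0, q * u = u * q → ∀ w : G, g * w * g⁻¹ ∈ Q0 → w * t = t * w →
      q⁻¹ * w * q * w⁻¹ ≠ u * t := by
    intro q hq hqu w hw hwt hc
    have hwu : w * u = u * w := by
      have := hcg' (hQC _ hw)
      rwa [hgu, show g⁻¹ * (g * w * g⁻¹) * g = w by group] at this
    have hne : u * t ≠ 1 := fun e0 => hune ((eq_inv_of_mul_eq_one_left e0).trans (inv_eq_of_mul_eq_one_right htt))
    have hnc : q * w ≠ w * q := fun e0 => hne (by rw [← hc, mul_assoc q⁻¹ w q, ← e0]; group)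
    have hq2 : q * q = t := by
      refine (hsq0 q hq).resolve_left fun e0 => ?_
      rcases helem u huQ huu hu1 hune q hq hqu e0 with rfl | rfl | rfl | rfl
      · exact hnc (by rw [one_mul, mul_one])
      · exact hnc hwt.symm
      · exact hnc hwu.symm
      · exact hnc ((show Commute (u * t) w from Commute.mul_left hwu.symm hwt.symm).eq)
    have hw2 : w * w = u := by
      rcases hsq0 _ hw with e0 | e0
      · exfalso
        rcases helem u' hu'Q hu'u hu'1 hu'ne _ hw (by rw [hu']; exact hcg hwt) e0 with e1 | e1 | e1 | e1 <;>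
          rw [mul_inv_eq_iff_eq_mul] at e1
        · exact hnc (by rw [show w = 1 from mul_left_cancel (e1.trans (by group)), one_mul, mul_one])
        · exact hnc (by rw [show w = u from mul_left_cancel (e1.trans (by rw [← hg]; group)), hqu])
        · exact hnc (by rw [show w = t from mul_left_cancel (e1.trans (by rw [hu']; group)), hQC q hq])
        · exact hnc (by
            rw [show w = t * u from mul_left_cancel (e1.trans (by rw [hu', ← hg]; group))]
            exact ((show Commute q t from hQC q hq).mul_right hqu).eq)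
      · rw [← hgu, ← e0]; group
    have hwQ : w ∉ Q0 := fun hwQ0 => by
      rcases hsq0 w hwQ0 with e0 | e0 <;> rw [hw2] at e0
      exacts [hu1 e0, hune e0]
    have hqwt : q * w * t = t * (q * w) := ((show Commute q t from hQC q hq).mul_left hwt).eq
    have hqw : q * w * (q * w) = 1 := by
      calc q * w * (q * w) = q * q * (q⁻¹ * w * q * w⁻¹) * (w * w) := by group
        _ = t * (u * t) * u := by rw [hc, hq2, hw2]
        _ = 1 := by rw [← mul_assoc, ← hut, mul_assoc u t t, htt, mul_one, huu]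
    exact hwQ (by simpa using mul_mem (inv_mem hq) (hlift _ hqwt hqw))
  -- an element outside
  obtain ⟨w, hw, hwt, hwQ⟩ : ∃ w, g * w * g⁻¹ ∈ Q0 ∧ w * t = t * w ∧ w ∉ Q0 := by
    by_contra hh
    push Not at hh
    let H : Subgroup G := Q0 ⊓ Subgroup.centralizer {u'}
    have hle : ∀ x : H, g⁻¹ * (x : G) * g ∈ ({1, t, u, u * t} : Finset G) := by
      intro x
      have hxu : (x : G) * u' = u' * (x : G) := mem_centralizer_singleton_iff.1 x.2.2
      have h1 := hh (g⁻¹ * (x : G) * g) (by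
        rw [show g * (g⁻¹ * (x : G) * g) * g⁻¹ = x by group]; exact x.2.1) (by
        have := hcg' hxu
        rwa [hgu'] at this)
      rcases hV _ h1 (by
          have := hcg' (hQC _ x.2.1)
          rwa [hgu] at this) (by
          rw [show g * (g⁻¹ * (x : G) * g) * g⁻¹ = x by group]; exact x.2.1) with e0 | e0 | e0 | e0 <;> simp [e0]
    have hc4 := Nat.card_le_card_of_injective (fun x : H => (⟨_, hle x⟩ : ({1, t, u, u * t} : Finset G)))
      fun x y e0 => Subtype.ext (mul_left_cancel (mul_right_cancel (congrArg Subtype.val e0)))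
    rw [Nat.card_eq_finsetCard] at hc4
    have hc4' := hc4.trans Finset.card_le_four
    obtain ⟨v, hv, hve⟩ := hu'Q
    have hsub : Nat.card ↥((Subgroup.centralizer ({v} : Set (Subgroup.centralizer ({t} : Set G)))).subgroupOf E) ≤ Nat.card H := by
      refine Nat.card_le_card_of_injective (fun x => ⟨((x : E) : (Subgroup.centralizer ({t} : Set G))), ⟨mem_map_of_mem _ (x : E).2,
        mem_centralizer_singleton_iff.2 (by rw [← hve]; exact congrArg Subtype.val (mem_centralizer_singleton_iff.1 x.2))⟩⟩) ?_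
      intro x y e0
      have h1 : (((x : E) : (Subgroup.centralizer ({t} : Set G))) : G) = ((y : E) : (Subgroup.centralizer ({t} : Set G))) := congrArg (fun w : H => (w : G)) e0
      exact Subtype.ext (Subtype.ext (Subtype.ext h1))
    set A := (Subgroup.centralizer ({v} : Set (Subgroup.centralizer ({t} : Set G)))).subgroupOf E with hA
    have hcomm' : ∀ a b : E, a ∉ A → b ∉ A → a⁻¹ * b ∈ A := by
      intro a b ha hb
      simp only [hA, mem_subgroupOf, mem_centralizer_singleton_iff, Subgroup.coe_mul, Subgroup.coe_inv] at ha hb ⊢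
      have a1 := (hcomm a a.2 v hv).resolve_left ha
      have b1 := (hcomm b b.2 v hv).resolve_left hb
      have a1' : z * (v * (a : (Subgroup.centralizer ({t} : Set G)))) = (a : (Subgroup.centralizer ({t} : Set G))) * v := a1.symm
      calc (a : (Subgroup.centralizer ({t} : Set G)))⁻¹ * b * v = (a : (Subgroup.centralizer ({t} : Set G)))⁻¹ * (z * (v * b)) := by rw [mul_assoc, b1]
        _ = (a : (Subgroup.centralizer ({t} : Set G)))⁻¹ * (z * (v * (a : (Subgroup.centralizer ({t} : Set G))))) * (a : (Subgroup.centralizer ({t} : Set G)))⁻¹ * b := by group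
        _ = (a : (Subgroup.centralizer ({t} : Set G)))⁻¹ * ((a : (Subgroup.centralizer ({t} : Set G))) * v) * (a : (Subgroup.centralizer ({t} : Set G)))⁻¹ * b := by rw [a1']
        _ = v * ((a : (Subgroup.centralizer ({t} : Set G)))⁻¹ * b) := by group
    have hsplit : (Set.univ : Set E).ncard ≤ (A : Set E).ncard + (A : Set E).ncard := by
      by_cases htop : ∀ q, q ∈ A
      · rw [show (A : Set E) = Set.univ from Set.eq_univ_of_forall htop]; omega
      push Not at htop
      obtain ⟨q, hq⟩ := htop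
      refine le_trans (Set.ncard_le_ncard (t := (A : Set E) ∪ (q * ·) '' (A : Set E)) (fun y _ => ?_) (Set.toFinite _))
        ((Set.ncard_union_le _ _).trans (add_le_add le_rfl (Set.ncard_image_le (Set.toFinite _))))
      by_cases hy : y ∈ A
      · exact Or.inl hy
      · exact Or.inr ⟨q⁻¹ * y, hcomm' q y hq hy, by group⟩
    rw [Set.ncard_univ, hE, ← Nat.card_coe_set_eq] at hsplit
    have : 16 ≤ Nat.card A := by
      change 32 ≤ Nat.card A + Nat.card A at hsplit
      omega
    omega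
  have hww : w * w ∈ Q0 := by
    rcases hsq0 _ hw with e0 | e0
    · rw [show w * w = 1 by
        rw [show w * w = g⁻¹ * (g * w * g⁻¹ * (g * w * g⁻¹)) * g by group, e0]; group]
      exact one_mem _
    · rw [show w * w = u by rw [← hgu, ← e0]; group]
      exact huQ
  obtain ⟨q, hq, hqu, hq1, hq2⟩ := hclaim u huQ w hwt hwQ hww
  have hcu : q⁻¹ * w * q * w⁻¹ = u := by
    rcases hD q hq hqu w hw hwt with e0 | e0 | e0 | e0
    · exact absurd (by rw [show w * q * w⁻¹ = q * (q⁻¹ * w * q * w⁻¹) by group, e0, mul_one]) hq1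
    · exact absurd (by rw [show w * q * w⁻¹ = q * (q⁻¹ * w * q * w⁻¹) by group, e0, hQC q hq]) hq2
    · exact e0
    · exact absurd e0 (hnot q hq hqu w hw hwt)
  -- from the other side
  obtain ⟨p, hp⟩ : ∃ p, p = g * q * g⁻¹ := ⟨_, rfl⟩
  have hpQ : p ∉ Q0 := fun h0 => by
    rcases hV q hq hqu (hp ▸ h0) with h1' | h1' | h1' | h1'
    · exact hu1 (by rw [← hcu, h1']; group)
    · exact hu1 (by rw [← hcu, h1', mul_assoc t⁻¹ w t, hwt]; group)
    · have hwu : w * u = u * w := by
        have := hcg' (hQC _ hw)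
        rwa [hgu, show g⁻¹ * (g * w * g⁻¹) * g = w by group] at this
      exact hq1 (by rw [h1', hwu]; group)
    · have hwu : w * u = u * w := by
        have := hcg' (hQC _ hw)
        rwa [hgu, show g⁻¹ * (g * w * g⁻¹) * g = w by group] at this
      exact hq1 (by rw [h1', (show Commute w (u * t) from Commute.mul_right hwu hwt).eq]; group)
  have hpp : p * p ∈ Q0 := by
    rw [hp, show g * q * g⁻¹ * (g * q * g⁻¹) = g * (q * q) * g⁻¹ by group]
    rcases hsq0 q hq with e0 | e0 <;> rw [e0]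
    · rw [mul_one, mul_inv_cancel]; exact one_mem _
    · rw [← hu']; exact hu'Q
  obtain ⟨w1, hw1Q, hw1u, hw11, hw12⟩ := hclaim u' hu'Q p (hp ▸ hgC hqu) hpQ hpp
  obtain ⟨w', hw'⟩ : ∃ w', w' = g⁻¹ * w1 * g := ⟨_, rfl⟩
  have hw'g : g * w' * g⁻¹ = w1 := by rw [hw']; group
  have hw't : w' * t = t * w' := by
    have := hcg' hw1u
    rwa [hgu', ← hw'] at this
  have hw'u : w' * u = u * w' := by
    have := hcg' (hQC _ hw1Q)
    rwa [hgu, ← hw'] at this
  have hct : q⁻¹ * w' * q * w'⁻¹ = t := by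
    rcases hD q hq hqu w' (hw'g ▸ hw1Q) hw't with e0 | e0 | e0 | e0
    · exfalso
      have hc : w' * q = q * w' := by
        calc w' * q = q * (q⁻¹ * w' * q * w'⁻¹) * w' := by group
          _ = q * w' := by rw [e0, mul_one]
      exact hw11 (by rw [hp, ← hw'g, hcg hc.symm]; group)
    · exact e0
    · exfalso
      have h1 : w' * q = u * q * w' := by
        calc w' * q = q * (q⁻¹ * w' * q * w'⁻¹) * w' := by group
          _ = u * q * w' := by rw [e0, hqu]
      have h2 : q * w' = u * w' * q := by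
        rw [mul_assoc u w' q, h1, ← mul_assoc u (u * q), ← mul_assoc u u, huu, one_mul]
      refine hw12 ?_
      rw [hp, ← hw'g, ← hg, show g * q * g⁻¹ * (g * w' * g⁻¹) * (g * q * g⁻¹)⁻¹ = g * (q * w' * q⁻¹) * g⁻¹ by group, h2]
      group
    · exact absurd e0 (hnot q hq hqu w' (hw'g ▸ hw1Q) hw't)
  refine hnot q hq hqu (w * w') ?_ ?_ ?_
  · rw [show g * (w * w') * g⁻¹ = g * w * g⁻¹ * (g * w' * g⁻¹) by group, hw'g]
    exact mul_mem hw hw1Q
  · exact ((show Commute w t from hwt).mul_left hw't).eq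
  · calc q⁻¹ * (w * w') * q * (w * w')⁻¹ = q⁻¹ * w * q * (q⁻¹ * w' * q * w'⁻¹) * w⁻¹ := by group
      _ = q⁻¹ * w * q * (w⁻¹ * t) := by rw [hct, mul_assoc, (show Commute t w⁻¹ from (show Commute w t from hwt).symm.inv_right).eq]
      _ = u * t := by rw [← mul_assoc, hcu]

/-- The chart from the plain hypotheses. -/
theorem exists_chart_of_simple {G : Type v} [Group G] [Finite G] [IsSimpleGroup G] (t : G) (ht : orderOf t = 2)
    (E : Subgroup (Subgroup.centralizer ({t} : Set G))) [E.Normal] (hX : Cfsg.IsExtraspecial 2 E)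
    (hE : Nat.card E = 32) (e : (Subgroup.centralizer ({t} : Set G)) ⧸ E ≃* alternatingGroup (Fin 5))
    (hone : ∀ x y : G, orderOf x = 2 → orderOf y = 2 → IsConj x y) : ∃ ρ : ℕ → G, Chart t ρ := by
  obtain ⟨K, S⟩ := exists_setting t ht E hX hE e hone
  exact exists_chart S

end Cfsg.Agent.J3Uniq.Local
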