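import Mathlib
import Cfsg.Agent.Lib.J3Uniq.LocalCodes

/-!
Further facts about the codes used for the element of order three permuting two involutions and their product.
-/

set_option autoImplicit false
set_option linter.all false
set_option maxRecDepth 100000
set_option maxHeartbeats 1000000

namespace Cfsg.Agent.J3Uniq.Local

open Cfsg.Agent.J2Uniq

theorem inN_eq : ∀ g < 1920, inN g = inCU g := by decide +kernel

theorem norm_cu : ∀ c < 1920, (∀ k < 5, inCU (cj c (sg k)) = true) →
    inN c = true ∨ inN (J2Uniq.mul ec c) = true := by decide +kernel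

theorem orbit_twelve : ∀ a ∈ ([96, 97, 112, 113, 256, 257, 272, 273, 352, 353, 368, 369] : List ℕ),
    ∃ g < 1920, inCU g = true ∧ cj g a = tc := by decide +kernel

theorem seed_codes : J2Uniq.mul 16 1 = 17 ∧ J2Uniq.mul 17 1 = 16 ∧ J2Uniq.mul 1 1 = 0 ∧ J2Uniq.mul ec ec = 0 ∧
    J2Uniq.mul 1 32 = J2Uniq.mul 32 1 ∧ cj ec 1 = 17 ∧ cj ec 16 = 16 ∧ J2Uniq.mul 17 17 = 0 := by decide +kernel

end Cfsg.Agent.J3Uniq.Local
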