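import Mathlib

/-!
Facts about the alternating group of degree six used to identify the relations in the centralizer of an element of
order three of a group of `J₃` type.
-/

set_option autoImplicit false
set_option linter.all false
set_option maxRecDepth 100000
set_option maxHeartbeats 1000000
set_option synthInstance.maxSize 4000
set_option synthInstance.maxHeartbeats 400000

namespace Cfsg.Agent.J3Uniq.LocalSix

/-- A permutation of six points fixing a point. -/
def hasFix (a : alternatingGroup (Fin 6)) : Prop := ∃ i : Fin 6, (a : Equiv.Perm (Fin 6)) i = i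

instance (a : alternatingGroup (Fin 6)) : Decidable (hasFix a) := by unfold hasFix; infer_instance

/-- The involution `(0 1)(2 3)`. -/
def inv0 : alternatingGroup (Fin 6) :=
  ⟨Equiv.swap 0 1 * Equiv.swap 2 3, by rw [Equiv.Perm.mem_alternatingGroup]; decide +kernel⟩

theorem inv_std : ∀ z : alternatingGroup (Fin 6), z * z = 1 → z ≠ 1 → ∃ g, g * z * g⁻¹ = inv0 := by decide +kernel

theorem pattern0 : ∀ u : alternatingGroup (Fin 6), u * u = 1 → u ≠ 1 → u ≠ inv0 → inv0 * u = u * inv0 →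
    ∀ v : alternatingGroup (Fin 6), v * v = 1 → inv0 * v = v * inv0 → u * v ≠ v * u →
    ∀ s : alternatingGroup (Fin 6), s * inv0 = u * s → s * u = inv0 * u * s → s * s * s = 1 → v * s * v * s = u →
    ∀ r : alternatingGroup (Fin 6), r * inv0 = v * r → r * v = inv0 * v * r → r * r * r = 1 → u * r * u * r = v →
      (r * s) ^ 5 = 1 ∧ (s * (v * r * v)) ^ 4 = 1 ∧ ¬(hasFix s ↔ hasFix r) := by decide +kernel

theorem three_conj : ∀ a : alternatingGroup (Fin 6), a * a * a = 1 → a ≠ 1 →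
    ∃ g : alternatingGroup (Fin 6), ∀ i : Fin 6, ((g * a * g⁻¹ : alternatingGroup (Fin 6)) : Equiv.Perm (Fin 6)) i =
      if hasFix a then ([1, 2, 0, 3, 4, 5] : List (Fin 6)).getD i.val 0
      else ([1, 2, 0, 4, 5, 3] : List (Fin 6)).getD i.val 0 := by
  decide +kernel

theorem real_three : ∀ a : alternatingGroup (Fin 6), a * a * a = 1 → ∃ g, g * a * g⁻¹ = a⁻¹ := by decide +kernel

theorem four_cycle : ∀ p : alternatingGroup (Fin 6), p * p = 1 → p ≠ 1 → p = inv0 →
    ∀ q : alternatingGroup (Fin 6), q * q = 1 → q ≠ 1 → q ≠ p → p * q = q * p →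
      ∃ a : alternatingGroup (Fin 6), a * p = q * a ∧ a * q = p * q * a := by decide +kernel

theorem noncomm : ∃ a b : alternatingGroup (Fin 6), a * b ≠ b * a := by decide +kernel

theorem hasFix_conj (g a : alternatingGroup (Fin 6)) : hasFix (g * a * g⁻¹) ↔ hasFix a := by
  constructor
  · rintro ⟨i, hi⟩
    refine ⟨((g : Equiv.Perm (Fin 6))⁻¹) i, ?_⟩
    simp only [Subgroup.coe_mul, Subgroup.coe_inv, Equiv.Perm.mul_apply] at hi
    exact (Equiv.Perm.eq_inv_iff_eq).2 hi
  · rintro ⟨i, hi⟩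
    refine ⟨(g : Equiv.Perm (Fin 6)) i, ?_⟩
    simp [Equiv.Perm.mul_apply, hi]

theorem conj_of_hasFix {a b : alternatingGroup (Fin 6)} (ha : a * a * a = 1) (ha1 : a ≠ 1) (hb : b * b * b = 1)
    (hb1 : b ≠ 1) (h : hasFix a ↔ hasFix b) : ∃ g, g * a * g⁻¹ = b := by
  obtain ⟨g, hg⟩ := three_conj a ha ha1
  obtain ⟨k, hk⟩ := three_conj b hb hb1
  have e : g * a * g⁻¹ = k * b * k⁻¹ := Subtype.ext (Equiv.ext fun i => by rw [hg, hk]; simp only [h])
  refine ⟨k⁻¹ * g, ?_⟩
  rw [show k⁻¹ * g * a * (k⁻¹ * g)⁻¹ = k⁻¹ * (g * a * g⁻¹) * k by group, e]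
  group

theorem exists_four_cycle {p q : alternatingGroup (Fin 6)} (hp : p * p = 1) (hp1 : p ≠ 1) (hq : q * q = 1)
    (hq1 : q ≠ 1) (hqp : q ≠ p) (hc : p * q = q * p) : ∃ a, a * p = q * a ∧ a * q = p * q * a := by
  obtain ⟨g, hg⟩ := inv_std p hp hp1
  set f := MulAut.conj g with hf
  have hfp : f p = inv0 := hg
  obtain ⟨a, h1, h2⟩ := four_cycle (f p) (by rw [← map_mul, hp, map_one])
    (fun e => hp1 (f.injective (e.trans f.map_one.symm))) hfp (f q) (by rw [← map_mul, hq, map_one])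
    (fun e => hq1 (f.injective (e.trans f.map_one.symm))) (fun e => hqp (f.injective e))
    (by rw [← map_mul, ← map_mul, hc])
  refine ⟨f.symm a, f.injective ?_, f.injective ?_⟩
  · rw [map_mul, map_mul, f.apply_symm_apply, h1]
  · rw [map_mul, map_mul, map_mul, f.apply_symm_apply, h2]

theorem pattern {z u v s r : alternatingGroup (Fin 6)} (hz : z * z = 1) (hz1 : z ≠ 1) (hu : u * u = 1) (hu1 : u ≠ 1)
    (huz : u ≠ z) (hzu : z * u = u * z) (hv : v * v = 1) (hzv : z * v = v * z) (huv : u * v ≠ v * u)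
    (s1 : s * z = u * s) (s2 : s * u = z * u * s) (s3 : s * s * s = 1) (s4 : v * s * v * s = u)
    (r1 : r * z = v * r) (r2 : r * v = z * v * r) (r3 : r * r * r = 1) (r4 : u * r * u * r = v) :
    (r * s) ^ 5 = 1 ∧ (s * (v * r * v)) ^ 4 = 1 ∧ ¬(hasFix s ↔ hasFix r) := by
  obtain ⟨g, hg⟩ := inv_std z hz hz1
  set f := MulAut.conj g with hf
  have hfz : inv0 = f z := hg.symm
  obtain ⟨a, b, c⟩ := pattern0 (f u) (by rw [← map_mul, hu, map_one]) (fun e => hu1 (f.injective (e.trans f.map_one.symm)))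
    (fun e => huz (f.injective (e.trans hfz))) (by rw [hfz, ← map_mul, ← map_mul, hzu]) (f v)
    (by rw [← map_mul, hv, map_one]) (by rw [hfz, ← map_mul, ← map_mul, hzv])
    (by rw [← map_mul, ← map_mul]; exact fun e => huv (f.injective e))
    (f s) (by rw [hfz, ← map_mul, ← map_mul, s1]) (by rw [hfz, ← map_mul, ← map_mul, ← map_mul, s2])
    (by rw [← map_mul, ← map_mul, s3, map_one]) (by rw [← map_mul, ← map_mul, ← map_mul, s4])
    (f r) (by rw [hfz, ← map_mul, ← map_mul, r1]) (by rw [hfz, ← map_mul, ← map_mul, ← map_mul, r2])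
    (by rw [← map_mul, ← map_mul, r3, map_one]) (by rw [← map_mul, ← map_mul, ← map_mul, r4])
  refine ⟨f.injective ?_, f.injective ?_, ?_⟩
  · rw [map_pow, map_mul, map_one, a]
  · rw [map_pow, map_mul, map_mul, map_mul, map_one, b]
  · rw [← hasFix_conj g s, ← hasFix_conj g r]
    exact c

end Cfsg.Agent.J3Uniq.LocalSix
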