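import Mathlib
import Cfsg.Agent.Lib.J3Uniq.Local
import Cfsg.Agent.Lib.J3Uniq.LocalSix
import Cfsg.Agent.Lib.J3Uniq.LocalSeedCodes

/-!
An element of order three permuting `t`, `u 0` and their product and fixing the involution `tc`.
-/

set_option autoImplicit false
set_option linter.all false
set_option maxRecDepth 100000
set_option maxHeartbeats 1000000

namespace Cfsg.Agent.J3Uniq.Local

open Cfsg.Agent.J2Uniq Subgroup

universe v

variable {G : Type v} [Group G] [Finite G] {t : G} {ρ : ℕ → G}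

namespace Chart

variable (h : Chart t ρ)

include h

omit [Finite G] in
theorem inCU_comm {r : ℕ} (hr : inCU r = true) : ρ r * ρ 1 = ρ 1 * ρ r :=
  (h.comm_iff r 1).2 (Nat.eq_of_beq_eq_true hr)

omit [Finite G] in
theorem inCU_of {r : ℕ} (e : ρ r * ρ 1 = ρ 1 * ρ r) : inCU r = true := by
  unfold inCU
  rw [h.comm_of e]
  exact Nat.beq_refl _

omit [Finite G] in
theorem eq_of_image {φ : Subgroup.centralizer ({ρ 32} : Set G) →* alternatingGroup (Fin 6)}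
    (hker : ∀ c, φ c = 1 ↔ (c : G) ∈ zpowers (ρ 32)) {p q : Subgroup.centralizer ({ρ 32} : Set G)}
    (hp : (p : G) * p = 1) (hq : (q : G) * q = 1) (e : φ p = φ q) : (p : G) = q := by
  have hk : (q : G)⁻¹ * p ∈ zpowers (ρ 32) := (hker (q⁻¹ * p)).1 (by rw [map_mul, map_inv, e, inv_mul_cancel])
  obtain ⟨j, hj⟩ := hk
  change ρ 32 ^ j = _ at hj
  have hc : Commute ((q : G)⁻¹ * p) q := hj ▸ ((show Commute (ρ 32) (q : G) from
    (mem_centralizer_singleton_iff.1 q.2).symm).zpow_left j)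
  have h3 : ((q : G)⁻¹ * p) ^ 3 = 1 := by
    rw [← hj, ← zpow_natCast (ρ 32 ^ j) 3, zpow_comm, zpow_natCast, show ρ 32 ^ 3 = 1 from h.order_y ▸ pow_orderOf_eq_one _,
      one_zpow]
  have h2 : ((q : G)⁻¹ * p) * ((q : G)⁻¹ * p) = 1 := by
    obtain ⟨k, hk⟩ : ∃ k, k = (q : G)⁻¹ * p := ⟨_, rfl⟩
    have hpk : (p : G) = q * k := by rw [hk]; group
    rw [← hk] at hc ⊢
    calc k * k = ((q : G) * q) * (k * k) := by rw [hq, one_mul]
      _ = q * (q * k) * k := by group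
      _ = q * (k * q) * k := by rw [hc.eq]
      _ = (p : G) * p := by rw [hpk]; group
      _ = 1 := hp
  rw [pow_succ, pow_two, h2, one_mul] at h3
  exact (inv_mul_eq_one.1 h3).symm

theorem exists_base (hone : ∀ x y : G, orderOf x = 2 → orderOf y = 2 → IsConj x y) :
    ∃ s : G, J2Uniq.Base t ρ s := by
  classical
  obtain ⟨c161, c171, c11, cec, c132, cec1, cec16, c1717⟩ := seed_codes
  have h17 : t * ρ 1 = ρ 17 := by rw [← h.zc_eq, ← h.mul_eq]; exact congrArg ρ c161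
  have h171 : ρ 17 * ρ 1 = t := by rw [← h.mul_eq, c171]; exact h.zc_eq
  have hu2 : ρ 1 * ρ 1 = 1 := by rw [← h.mul_eq, c11, h.zero]
  have h172 : ρ 17 * ρ 17 = 1 := by rw [← h.mul_eq, c1717, h.zero]
  have hne : ∀ {a : ℕ}, a < 1920 → a ≠ 0 → ρ a ≠ 1 := fun ha ha0 e => ha0 (h.inj _ ha e)
  obtain ⟨φ, hφ, hker⟩ := h.centralizer_y hone
  have htH : t ∈ Subgroup.centralizer ({ρ 32} : Set G) := mem_centralizer_singleton_iff.2 (h.mem 32).symm
  have huH : ρ 1 ∈ Subgroup.centralizer ({ρ 32} : Set G) :=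
    mem_centralizer_singleton_iff.2 ((h.comm_iff 1 32).2 c132)
  let z' : Subgroup.centralizer ({ρ 32} : Set G) := ⟨t, htH⟩
  let u' : Subgroup.centralizer ({ρ 32} : Set G) := ⟨ρ 1, huH⟩
  have hz2 : (z' : G) * z' = 1 := h.tt
  have hinv : ∀ {p : Subgroup.centralizer ({ρ 32} : Set G)}, (p : G) * p = 1 → φ p = 1 → (p : G) = 1 :=
    fun {p} hp e => h.eq_of_image hker hp (show ((1 : Subgroup.centralizer ({ρ 32} : Set G)) : G) * (1 : G) = 1 by simp)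
      (e.trans (map_one φ).symm)
  have hzu : z' * u' = u' * z' := Subtype.ext (h.mem 1).symm
  obtain ⟨a, ha1, ha2⟩ := LocalSix.exists_four_cycle (p := φ z') (q := φ u')
    (by rw [← map_mul, show z' * z' = 1 from Subtype.ext h.tt, map_one]) (fun e => h.t_ne (hinv hz2 e))
    (by rw [← map_mul, show u' * u' = 1 from Subtype.ext hu2, map_one])
    (fun e => hne (by norm_num : 1 < 1920) (by norm_num) (hinv (p := u') hu2 e))
    (fun e => hne (by norm_num : 17 < 1920) (by norm_num) (by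
      rw [← h17]
      show t * ρ 1 = 1
      rw [show t = ρ 1 from (h.eq_of_image hker (p := z') (q := u') hz2 hu2 e.symm), hu2]))
    (by rw [← map_mul, ← map_mul, hzu])
  obtain ⟨s', rfl⟩ := hφ a
  obtain ⟨s0, hs0⟩ : ∃ s0, s0 = (s' : G) := ⟨_, rfl⟩
  have sz0 : s0 * t * s0⁻¹ = ρ 1 := by
    have := h.eq_of_image hker (p := s' * z' * s'⁻¹) (q := u') (by
      show (s' : G) * t * (s' : G)⁻¹ * ((s' : G) * t * (s' : G)⁻¹) = 1
      rw [show (s' : G) * t * (s' : G)⁻¹ * ((s' : G) * t * (s' : G)⁻¹) = (s' : G) * (t * t) * (s' : G)⁻¹ by group,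
        h.tt, mul_one, mul_inv_cancel]) hu2 (by rw [map_mul, map_mul, map_inv, ha1, mul_inv_cancel_right])
    rw [hs0]; exact this
  have su0 : s0 * ρ 1 * s0⁻¹ = ρ 17 := by
    have := h.eq_of_image hker (p := s' * u' * s'⁻¹) (q := z' * u') (by
      show (s' : G) * ρ 1 * (s' : G)⁻¹ * ((s' : G) * ρ 1 * (s' : G)⁻¹) = 1
      rw [show (s' : G) * ρ 1 * (s' : G)⁻¹ * ((s' : G) * ρ 1 * (s' : G)⁻¹) = (s' : G) * (ρ 1 * ρ 1) * (s' : G)⁻¹ by group,
        hu2, mul_one, mul_inv_cancel]) (by show t * ρ 1 * (t * ρ 1) = 1; rw [h17, h172])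
      (by rw [map_mul, map_mul, map_mul, map_inv, ha2, mul_inv_cancel_right])
    rw [hs0]
    exact this.trans h17
  set A := Subgroup.centralizer ({t} : Set G) ⊓ Subgroup.centralizer ({ρ tc} : Set G) with hAdef
  set N := Subgroup.normalizer (A : Set G) with hNdef
  obtain ⟨hA, htA, hTA⟩ := h.A_props
  -- the centralizer of both
  let CV : Subgroup G := Subgroup.centralizer ({t} : Set G) ⊓ Subgroup.centralizer ({ρ 1} : Set G)
  have hCV : ∀ {g : G}, g ∈ CV ↔ g * t = t * g ∧ g * ρ 1 = ρ 1 * g := by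
    intro g
    simp only [CV, mem_inf, mem_centralizer_singleton_iff]
  have hCVcode : ∀ {r : ℕ}, inCU r = true → ρ r ∈ CV := fun hr => hCV.2 ⟨h.mem _, h.inCU_comm hr⟩
  have hCVN : ∀ {g : G}, g ∈ CV → g ∈ N := by
    intro g hg
    obtain ⟨r, hr, rfl⟩ := h.surj g (hCV.1 hg).1
    exact (h.inN_iff hr).1 (by rw [inN_eq r hr]; exact h.inCU_of (hCV.1 hg).2)
  have huA : ρ 1 ∈ A := (h.inA_iff (by norm_num)).2 (Alist_ok 1 (by simp)).2
  have hAC : ∀ {x : G}, x ∈ A → x ∈ CV := fun hx =>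
    hCV.2 ⟨mem_centralizer_singleton_iff.1 hx.1, (hA _ hx).2 _ huA⟩
  obtain ⟨e, he⟩ : ∃ e, e = ρ ec := ⟨_, rfl⟩
  have hee : e * e = 1 := by rw [he, ← h.mul_eq, cec, h.zero]
  have hei : e⁻¹ = e := inv_eq_of_mul_eq_one_right hee
  have heCV : ∀ {g : G}, g ∈ CV → e * g * e ∈ CV := by
    intro g hg
    have hcz : Commute e t := he ▸ h.mem ec
    have hce : e * ρ 17 * e = ρ 1 := by
      have e2 : e * ρ 1 * e = ρ 17 := by
        rw [← cec1, h.cj_eq (by norm_num [ec]), ← he, hei]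
      rw [← e2, show e * (e * ρ 1 * e) * e = e * e * ρ 1 * (e * e) by group, hee, one_mul, mul_one]
    refine hCV.2 ⟨(((hcz.mul_left (hCV.1 hg).1)).mul_left hcz).eq, ?_⟩
    have hc17 : g * ρ 17 = ρ 17 * g := by
      rw [← h17, ← mul_assoc, (hCV.1 hg).1, mul_assoc, (hCV.1 hg).2, mul_assoc]
    rw [← hce, show e * g * e * (e * ρ 17 * e) = e * (g * (e * e) * ρ 17) * e by group, hee, mul_one, hc17,
      show e * ρ 17 * e * (e * g * e) = e * (ρ 17 * (e * e) * g) * e by group, hee, mul_one]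
  -- elements preserving the centralizer of both move the subgroup to one of two
  have htwo : ∀ g : G, (∀ x ∈ CV, g * x * g⁻¹ ∈ CV) → (∀ x ∈ CV, g⁻¹ * x * g ∈ CV) → g ∈ N ∨ e * g ∈ N := by
    intro g hg hg'
    obtain ⟨c0, hc0, hce⟩ := h.A_unique (A.map (MulAut.conj g).toMonoidHom)
      (by rw [card_map_of_injective (MulAut.conj g).injective]; exact h.A_card)
      (by
        rintro _ ⟨a, ha, rfl⟩
        rw [← map_mul, (hA a ha).1, map_one])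
      (by
        rintro _ ⟨a, ha, rfl⟩ _ ⟨b, hb, rfl⟩
        rw [← map_mul, ← map_mul, (hA a ha).2 b hb])
      (by
        rintro _ ⟨a, ha, rfl⟩
        exact (hCV.1 (hg a (hAC ha))).1)
    obtain ⟨c, hc, rfl⟩ := h.surj c0 hc0
    have hcg : ρ c * g ∈ N := JankoTwo.mem_normalizer_of_map fun x hx => by
      have := mem_map_of_mem (MulAut.conj (ρ c)).toMonoidHom (mem_map_of_mem (MulAut.conj g).toMonoidHom hx)
      rw [hce] at this
      rw [show ρ c * g * x * (ρ c * g)⁻¹ = ρ c * (g * x * g⁻¹) * (ρ c)⁻¹ by group]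
      exact this
    have hk : ∀ k < 5, inCU (cj c (sg k)) = true := by
      intro k hk
      have hl : cj c (sg k) < 1920 := mul_lt _ _
      rw [← inN_eq _ hl]
      refine (h.inN_iff hl).2 ?_
      rw [h.cj_eq hc, show ρ c * ρ (sg k) * (ρ c)⁻¹ = (ρ c * g) * (g⁻¹ * ρ (sg k) * g) * (ρ c * g)⁻¹ by group]
      exact N.mul_mem (N.mul_mem hcg (hCVN (hg' _ (hCVcode (sg_ok k hk).2.1)))) (N.inv_mem hcg)
    rcases norm_cu c hc hk with h1 | h1
    · left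
      have h2 := N.mul_mem (N.inv_mem ((h.inN_iff hc).1 h1)) hcg
      rwa [inv_mul_cancel_left] at h2
    · right
      have hlt : J2Uniq.mul ec c < 1920 := mul_lt _ _
      rw [inN_eq _ hlt] at h1
      have h2 : e * ρ c ∈ CV := by rw [he, ← h.mul_eq]; exact hCVcode h1
      have h3 : e * (e * ρ c) * e ∈ N := hCVN (heCV h2)
      rw [← mul_assoc e e, hee, one_mul] at h3
      have h4 := N.mul_mem (N.inv_mem h3) hcg
      rwa [show (ρ c * e)⁻¹ * (ρ c * g) = e⁻¹ * g by group, hei] at h4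
  have hcyc : ∀ {g : G}, g * t * g⁻¹ = ρ 1 → g * ρ 1 * g⁻¹ = ρ 17 →
      g * ρ 17 * g⁻¹ = t ∧ (∀ x ∈ CV, g * x * g⁻¹ ∈ CV) ∧ (∀ x ∈ CV, g⁻¹ * x * g ∈ CV) := by
    intro g e1 e2
    have e3 : g * ρ 17 * g⁻¹ = t := by
      rw [← h17, show g * (t * ρ 1) * g⁻¹ = g * t * g⁻¹ * (g * ρ 1 * g⁻¹) by group, e1, e2, ← h.mul_eq]
      rw [show J2Uniq.mul 1 17 = zc from by decide +kernel, h.zc_eq]
    have f1 : g⁻¹ * ρ 1 * g = t := by rw [← e1]; group
    have f3 : g⁻¹ * t * g = ρ 17 := by rw [← e3]; group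
    have h17c : ∀ x ∈ CV, x * ρ 17 = ρ 17 * x := fun x hx => by
      rw [← h17, ← mul_assoc, (hCV.1 hx).1, mul_assoc, (hCV.1 hx).2, mul_assoc]
    refine ⟨e3, fun x hx => hCV.2 ⟨?_, ?_⟩, fun x hx => hCV.2 ⟨?_, ?_⟩⟩
    · rw [← e3, show g * x * g⁻¹ * (g * ρ 17 * g⁻¹) = g * (x * ρ 17) * g⁻¹ by group, h17c x hx]; group
    · rw [← e1, show g * x * g⁻¹ * (g * t * g⁻¹) = g * (x * t) * g⁻¹ by group, (hCV.1 hx).1]; group
    · rw [← f1, show g⁻¹ * x * g * (g⁻¹ * ρ 1 * g) = g⁻¹ * (x * ρ 1) * g by group, (hCV.1 hx).2]; group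
    · have e4 : g⁻¹ * ρ 17 * g = ρ 1 := by rw [← e2]; group
      rw [← e4, show g⁻¹ * x * g * (g⁻¹ * ρ 17 * g) = g⁻¹ * (x * ρ 17) * g by group, h17c x hx]; group
  obtain ⟨sv0, hfwd, hbwd⟩ := hcyc sz0 su0
  -- an element of the normalizer with the same action
  obtain ⟨s1, hs1N, sz1, su1⟩ : ∃ s1, s1 ∈ N ∧ s1 * t * s1⁻¹ = ρ 1 ∧ s1 * ρ 1 * s1⁻¹ = ρ 17 := by
    rcases htwo s0 hfwd hbwd with h1 | h1
    · exact ⟨s0, h1, sz0, su0⟩
    · have h2 : s0 * s0 ∈ N := by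
        refine (htwo (s0 * s0) (fun x hx => ?_) (fun x hx => ?_)).elim id fun h2 => ?_
        · rw [show s0 * s0 * x * (s0 * s0)⁻¹ = s0 * (s0 * x * s0⁻¹) * s0⁻¹ by group]
          exact hfwd _ (hfwd x hx)
        · rw [show (s0 * s0)⁻¹ * x * (s0 * s0) = s0⁻¹ * (s0⁻¹ * x * s0) * s0 by group]
          exact hbwd _ (hbwd x hx)
        · have h3 := N.mul_mem (N.inv_mem h1) h2
          rw [show (e * s0)⁻¹ * (e * (s0 * s0)) = s0 by group] at h3
          exact N.mul_mem h3 h3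
      refine ⟨s0 * s0 * (s0 * s0), N.mul_mem h2 h2, ?_, ?_⟩
      · rw [show s0 * s0 * (s0 * s0) * t * (s0 * s0 * (s0 * s0))⁻¹ =
          s0 * (s0 * (s0 * (s0 * t * s0⁻¹) * s0⁻¹) * s0⁻¹) * s0⁻¹ by group, sz0, su0, sv0, sz0]
      · rw [show s0 * s0 * (s0 * s0) * ρ 1 * (s0 * s0 * (s0 * s0))⁻¹ =
          s0 * (s0 * (s0 * (s0 * ρ 1 * s0⁻¹) * s0⁻¹) * s0⁻¹) * s0⁻¹ by group, su0, sv0, sz0, su0]
  -- fix the third involution
  have hTim : s1 * ρ tc * s1⁻¹ ∈ A := JankoTwo.conj_mem_of_normalizer hs1N hTA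
  obtain ⟨b, hb, hbA, hbe⟩ := h.mem_A.1 hTim
  have hbl : b ∈ ([96, 97, 112, 113, 256, 257, 272, 273, 352, 353, 368, 369] : List ℕ) := by
    have hmem := List.contains_iff_mem.1 (inA_ok b hb hbA).2
    have hback : ρ tc = s1⁻¹ * ρ b * s1 := by rw [hbe]; group
    have hno : ∀ q : ℕ, q < 1920 → ρ q = ρ tc → q = tc := fun q hq e => h.eq_of hq (by norm_num [tc]) e
    obtain ⟨sv1, -, -⟩ := hcyc sz1 su1
    simp only [List.mem_cons, List.not_mem_nil, or_false] at hmem ⊢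
    rcases hmem with rfl | rfl | rfl | rfl | hrest
    · exact absurd (hno 0 (by norm_num) (by rw [hback, h.zero]; group)) (by norm_num [tc])
    · exact absurd (hno 16 (by norm_num) (by rw [hback, ← sz1, show ρ 16 = t from h.zc_eq]; group)) (by norm_num [tc])
    · exact absurd (hno 17 (by norm_num) (by rw [hback, show ρ 16 = t from h.zc_eq, ← sv1]; group)) (by norm_num [tc])
    · exact absurd (hno 1 (by norm_num) (by rw [hback, ← su1]; group)) (by norm_num [tc])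
    · exact hrest
  obtain ⟨c, hc, hcu, hcb⟩ := orbit_twelve b hbl
  have hcC := hCV.1 (hCVcode hcu)
  obtain ⟨s2, hs2⟩ : ∃ s2, s2 = ρ c * s1 := ⟨_, rfl⟩
  have hs2N : s2 ∈ N := hs2 ▸ N.mul_mem (hCVN (hCVcode hcu)) hs1N
  have sz2 : s2 * t * s2⁻¹ = ρ 1 := by
    rw [hs2, show ρ c * s1 * t * (ρ c * s1)⁻¹ = ρ c * (s1 * t * s1⁻¹) * (ρ c)⁻¹ by group, sz1, hcC.2, mul_inv_cancel_right]
  have su2 : s2 * ρ 1 * s2⁻¹ = ρ 17 := by
    rw [hs2, show ρ c * s1 * ρ 1 * (ρ c * s1)⁻¹ = ρ c * (s1 * ρ 1 * s1⁻¹) * (ρ c)⁻¹ by group, su1, ← h17,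
      ← mul_assoc, hcC.1, mul_assoc t, hcC.2, ← mul_assoc, mul_inv_cancel_right]
  have st2 : s2 * ρ tc * s2⁻¹ = ρ tc := by
    rw [hs2, show ρ c * s1 * ρ tc * (ρ c * s1)⁻¹ = ρ c * (s1 * ρ tc * s1⁻¹) * (ρ c)⁻¹ by group, ← hbe, ← h.cj_eq hc, hcb]
  obtain ⟨sv2, -, -⟩ := hcyc sz2 su2
  have hz3 : s2 * s2 * s2 * t * (s2 * s2 * s2)⁻¹ = t := by
    rw [show s2 * s2 * s2 * t * (s2 * s2 * s2)⁻¹ = s2 * (s2 * (s2 * t * s2⁻¹) * s2⁻¹) * s2⁻¹ by group, sz2, su2, sv2]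
  have ht3 : s2 * s2 * s2 * ρ tc * (s2 * s2 * s2)⁻¹ = ρ tc := by
    rw [show s2 * s2 * s2 * ρ tc * (s2 * s2 * s2)⁻¹ = s2 * (s2 * (s2 * ρ tc * s2⁻¹) * s2⁻¹) * s2⁻¹ by group, st2, st2, st2]
  have h3A : s2 * s2 * s2 ∈ A := ⟨mem_centralizer_singleton_iff.2 (mul_inv_eq_iff_eq_mul.1 hz3),
    mem_centralizer_singleton_iff.2 (mul_inv_eq_iff_eq_mul.1 ht3)⟩
  refine ⟨s2 * s2 * s2 * s2, h.mul_eq, h.zero, h.mod_eq, h.zc_eq, h.inj,
    fun a => mem_centralizer_singleton_iff.2 (h.mem a), fun g hg => h.surj g (mem_centralizer_singleton_iff.1 hg), ?_, ?_, ?_, ?_⟩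
  · calc s2 * s2 * s2 * s2 * (s2 * s2 * s2 * s2) * (s2 * s2 * s2 * s2)
        = (s2 * s2 * s2 * (s2 * s2 * s2)) * (s2 * s2 * s2 * (s2 * s2 * s2)) := by simp only [mul_assoc]
      _ = 1 := by rw [(hA _ h3A).1, one_mul]
  · rw [show s2 * s2 * s2 * s2 * t * (s2 * s2 * s2 * s2)⁻¹ =
      s2 * (s2 * s2 * s2 * t * (s2 * s2 * s2)⁻¹) * s2⁻¹ by group, hz3, sz2]
  · rw [show s2 * s2 * s2 * s2 * ρ 1 * (s2 * s2 * s2 * s2)⁻¹ =
      s2 * (s2 * (s2 * (s2 * ρ 1 * s2⁻¹) * s2⁻¹) * s2⁻¹) * s2⁻¹ by group, su2, sv2, sz2, su2]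
  · rw [show s2 * s2 * s2 * s2 * ρ tc * (s2 * s2 * s2 * s2)⁻¹ =
      s2 * (s2 * s2 * s2 * ρ tc * (s2 * s2 * s2)⁻¹) * s2⁻¹ by group, ht3, st2]

end Chart

end Cfsg.Agent.J3Uniq.Local
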