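import Cfsg.Agent.Lib.J2Uniq.Frame
import Cfsg.Prelude.Def_Transfer

/-!
The interface between the local analysis of a group of `J₃` type and the enumeration certificate.
-/

set_option autoImplicit false
set_option linter.style.haveILetI false

namespace Cfsg.Agent.J3Uniq

open Cfsg.Agent.J2Uniq (ec cc)

universe v

/-- A frame as for the Hall–Janko group, with the two relations coming from the centralizer `3 × A₆` of the
element of order three with code `32`. -/
structure Rels {G : Type v} [Group G] (z : G) (ρ : ℕ → G) (s : G) : Prop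
    extends Cfsg.Agent.J2Uniq.Frame z ρ s where
  five : (ρ 384 * s * ρ 384 * s) ^ 5 = 1
  four : (s * ρ 386 * s * (ρ 386)⁻¹) ^ 4 = 1

/-- What the local analysis must provide. -/
def Local : Prop :=
  ∀ {G : Type v} [Group G] [Finite G] [IsSimpleGroup G] (t : G) (_ : orderOf t = 2)
    (Q : Subgroup (Subgroup.centralizer ({t} : Set G))) [Q.Normal] (_ : Cfsg.IsExtraspecial 2 Q)
    (_ : Nat.card Q = 32) (_ : ∀ E : Subgroup Q, Cfsg.IsElementaryAbelian 2 E → Nat.card E ≤ 2 ^ 2)
    (_ : Subgroup.centralizer (Q : Set (Subgroup.centralizer ({t} : Set G))) ≤ Q)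
    (_ : (Subgroup.centralizer ({t} : Set G)) ⧸ Q ≃* alternatingGroup (Fin 5))
    (_ : ∀ x y : G, orderOf x = 2 → orderOf y = 2 → IsConj x y),
    ∃ (ρ : ℕ → G) (s : G), Rels t ρ s

end Cfsg.Agent.J3Uniq
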