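import Mathlib
import Cfsg.Agent.Lib.J3Uniq.LocalSeed
import Cfsg.Agent.Lib.J3Uniq.LocalInvolution
import Cfsg.Agent.Lib.J3Uniq.Rels

/-!
The centralizer of an element of order three is a direct product, and the two relations of the interface hold.
-/

set_option autoImplicit false
set_option linter.all false
set_option maxRecDepth 100000
set_option maxHeartbeats 1000000

namespace Cfsg.Agent.J3Uniq.Local

open Cfsg.Agent.J2Uniq Subgroup

universe v

theorem rel_codes : J2Uniq.mul 384 384 = 0 ∧ cj 384 32 = 64 ∧ cj 384 16 = 16 ∧ cj 384 1 = 2 ∧ cj 384 2 = 1 ∧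
    J2Uniq.mul 2 384 = 386 ∧ J2Uniq.mul 2 32 = J2Uniq.mul 32 2 ∧ J2Uniq.mul 1 32 = J2Uniq.mul 32 1 ∧
    J2Uniq.mul 2 2 = 0 ∧ J2Uniq.mul 1 1 = 0 ∧ J2Uniq.mul 2 1 = J2Uniq.mul 17 2 ∧ J2Uniq.mul 32 1 = 33 ∧
    J2Uniq.mul 16 1 = 17 ∧ inCU 16 = true ∧ phi 16 = 1 ∧ inCU 1 = true ∧ phi 1 = 17 ∧ inCU 32 = true ∧ phi 32 = 32 ∧
    inCU tc = true ∧ phi tc = tc ∧ J2Uniq.mul 1 2 ≠ J2Uniq.mul 2 1 := by decide +kernel

theorem phi_three {M : Type*} [Group M] (φ : M →* alternatingGroup (Fin 6)) {a : M} (ha : a * a * a = 1) :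
    φ a * φ a * φ a = 1 := by rw [← map_mul, ← map_mul, ha, map_one]

variable {G : Type v} [Group G] [Finite G] {t : G} {ρ : ℕ → G}

namespace Chart

variable (h : Chart t ρ)

include h

theorem local_rels (hone : ∀ x y : G, orderOf x = 2 → orderOf y = 2 → IsConj x y) {s : G}
    (F : J2Uniq.Frame t ρ s) :
    (ρ 384 * s * ρ 384 * s) ^ 5 = 1 ∧ (s * ρ 386 * s * (ρ 386)⁻¹) ^ 4 = 1 := by
  classical
  obtain ⟨cxx, cxy, cx16, cx1, cx2, c386, cy2, cy1, c22, c11, c21, c33, c17, u16, p16, u1, p1, u32, p32, utc, ptc, c12⟩ :=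
    rel_codes
  obtain ⟨y, hy⟩ : ∃ y, y = ρ 32 := ⟨_, rfl⟩
  obtain ⟨x, hx⟩ : ∃ x, x = ρ 384 := ⟨_, rfl⟩
  obtain ⟨v, hv⟩ : ∃ v, v = ρ 2 := ⟨_, rfl⟩
  obtain ⟨u, hu⟩ : ∃ u, u = ρ 1 := ⟨_, rfl⟩
  have hyo : orderOf y = 3 := hy ▸ h.order_y
  have hy3 : y ^ 3 = 1 := hyo ▸ pow_orderOf_eq_one y
  have hxx : x * x = 1 := by rw [hx, ← h.mul_eq, cxx, h.zero]
  have hxi : x⁻¹ = x := inv_eq_of_mul_eq_one_right hxx
  have hcx : ∀ a, x * ρ a * x = ρ (cj 384 a) := fun a => by
    rw [h.cj_eq (by norm_num : 384 < 1920), ← hx, hxi]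
  have hxy : x * y * x = y * y := by rw [hy, hcx, cxy, h.sixty_four]
  have hxz : x * t * x = t := by rw [← h.zc_eq, show zc = 16 from rfl, hcx, cx16]
  have hxu : x * u * x = v := by rw [hu, hcx, cx1, hv]
  have hxv : x * v * x = u := by rw [hv, hcx, cx2, hu]
  have hvv : v * v = 1 := by rw [hv, ← h.mul_eq, c22, h.zero]
  have huu : u * u = 1 := by rw [hu, ← h.mul_eq, c11, h.zero]
  have hvu : v * u = t * u * v := by
    rw [hv, hu, ← h.zc_eq, ← h.mul_eq, ← h.mul_eq, show zc = 16 from rfl, c17, ← h.mul_eq, c21]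
  have htt := h.tt
  set H := Subgroup.centralizer ({ρ 32} : Set G) with hH
  obtain ⟨φ, hφ, hker⟩ : ∃ φ : H →* alternatingGroup (Fin 6),
      Function.Surjective φ ∧ ∀ c, φ c = 1 ↔ (c : G) ∈ zpowers (ρ 32) := h.centralizer_y hone
  have hmem : ∀ {g : G}, g * y = y * g → g ∈ H := fun hg => mem_centralizer_singleton_iff.2 (hy ▸ hg)
  have hmem' : ∀ g : H, (g : G) * y = y * g := fun g => hy ▸ mem_centralizer_singleton_iff.1 g.2
  have hyp : ∀ {a : G}, a ∈ zpowers (ρ 32) → a ^ 3 = 1 := by
    rintro _ ⟨j, rfl⟩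
    show (ρ 32 ^ j) ^ 3 = 1
    rw [← hy, ← zpow_natCast, zpow_comm, zpow_natCast, hy3, one_zpow]
  have hy2y : y * y * (y * y) = y := four_of_three hy3
  -- the elements
  let Y : H := ⟨y, hmem rfl⟩
  let Z : H := ⟨t, hmem (hy ▸ (h.mem 32).symm)⟩
  let U : H := ⟨u, hmem (by rw [hu, hy]; exact (h.comm_iff 1 32).2 cy1)⟩
  let V : H := ⟨v, hmem (by rw [hv, hy]; exact (h.comm_iff 2 32).2 cy2)⟩
  have hs3 := F.s3
  have hsy : s * y = y * s := by rw [hy, F.sconj 32 u32, p32]
  have hsz : s * t = u * s := by rw [← h.zc_eq, show zc = 16 from rfl, F.sconj 16 u16, p16, hu]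
  have hsu : s * u = t * u * s := by
    rw [hu, F.sconj 1 u1, p1, ← h.zc_eq, show zc = 16 from rfl, ← h.mul_eq, c17]
  have hsT : s * ρ tc = ρ tc * s := by rw [F.sconj tc utc, ptc]
  have htw : v * s * v * s = y * u := by
    rw [hv, show (2 : ℕ) = ec from rfl, F.twist, show cc = 33 from rfl, hy, hu, ← h.mul_eq, c33]
  let S : H := ⟨s, hmem hsy⟩
  let κ : H →* H := MonoidHom.mk' (fun a => ⟨x * (a : G) * x, hmem (by
      have hc : Commute (x * (a : G) * x) (x * (y * y) * x) := by
        have hc0 : Commute (a : G) (y * y) :=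
          (show Commute (a : G) y from hmem' a).mul_right (hmem' a)
        show x * (a : G) * x * (x * (y * y) * x) = x * (y * y) * x * (x * (a : G) * x)
        rw [show x * (a : G) * x * (x * (y * y) * x) = x * ((a : G) * (x * x) * (y * y)) * x by group, hxx, mul_one, hc0.eq,
          show x * (y * y) * x * (x * (a : G) * x) = x * ((y * y) * (x * x) * (a : G)) * x by group, hxx, mul_one]
      rw [show x * (y * y) * x = y by
        calc x * (y * y) * x = x * (x * y * x) * x := by rw [hxy]
          _ = x * x * y * (x * x) := by group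
          _ = y := by rw [hxx, one_mul, mul_one]] at hc
      exact hc.eq)⟩) fun a b => Subtype.ext (by
    show x * ((a : G) * b) * x = x * (a : G) * x * (x * (b : G) * x)
    rw [show x * (a : G) * x * (x * (b : G) * x) = x * ((a : G) * (x * x) * b) * x by group, hxx, mul_one])
  have hκv : ∀ a : H, ((κ a : H) : G) = x * (a : G) * x := fun a => rfl
  have hκκ : ∀ a, κ (κ a) = a := fun a => Subtype.ext (by
    show x * (x * (a : G) * x) * x = a
    rw [show x * (x * (a : G) * x) * x = x * x * (a : G) * (x * x) by group, hxx, one_mul, mul_one])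
  have hφy : φ Y = 1 := (hker Y).2 (hy ▸ mem_zpowers y)
  have hκy : ∀ a : H, φ a = 1 → φ (κ a) = 1 := by
    intro a ha
    refine (hker _).2 ?_
    obtain ⟨j, hj⟩ := (hker a).1 ha
    change ρ 32 ^ j = _ at hj
    show x * (a : G) * x ∈ _
    rw [← hj, ← hy]
    nth_rw 2 [← hxi]
    rw [← conj_zpow, hxi, hxy]
    exact zpow_mem (mul_mem (mem_zpowers y) (mem_zpowers y)) j
  have hκ : ∀ a b : H, φ a = φ b → φ (κ a) = φ (κ b) := fun a b e => by
    have := hκy (a⁻¹ * b) (by rw [map_mul, map_inv, e, inv_mul_cancel])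
    rwa [map_mul, map_inv, map_mul, map_inv, inv_mul_eq_one] at this
  have hne : ∀ a : H, (a : G) * a = 1 → (a : G) ≠ 1 → φ a ≠ 1 := fun a ha ha1 e =>
    ha1 (h.eq_of_image hker ha (show ((1 : H) : G) * (1 : G) = 1 by simp) (e.trans (map_one φ).symm))
  have hu1 : u ≠ 1 := hu ▸ fun e => absurd (h.inj 1 (by norm_num) e) (by norm_num)
  have hut : u ≠ t := fun e => by
    rw [hu, ← h.zc_eq] at e
    exact absurd (h.eq_of (by norm_num) (by norm_num [zc]) e) (by norm_num [zc])
  let R0 : H := κ S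
  have hR0 : (R0 : G) = x * s * x := rfl
  -- the pattern
  obtain ⟨hP5, hP4, hflip⟩ := LocalSix.pattern (z := φ Z) (u := φ U) (v := φ V) (s := φ S) (r := φ R0)
    (by rw [← map_mul, show Z * Z = 1 from Subtype.ext htt, map_one]) (hne Z htt h.t_ne)
    (by rw [← map_mul, show U * U = 1 from Subtype.ext huu, map_one]) (hne U huu hu1)
    (fun e => hut (h.eq_of_image hker (p := U) (q := Z) huu htt e))
    (by rw [← map_mul, ← map_mul, show Z * U = U * Z from Subtype.ext (by show t * u = u * t; rw [hu]; exact (h.mem 1).symm)])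
    (by rw [← map_mul, show V * V = 1 from Subtype.ext hvv, map_one])
    (by rw [← map_mul, ← map_mul, show Z * V = V * Z from Subtype.ext (by show t * v = v * t; rw [hv]; exact (h.mem 2).symm)])
    (fun e => h.t_ne (by
      have e1 : φ (Z * (U * V)) = φ (U * V) := by
        rw [show Z * (U * V) = V * U from Subtype.ext (by show t * (u * v) = v * u; rw [hvu, mul_assoc]), map_mul, map_mul, e]
      rw [map_mul] at e1
      by_contra h1
      exact hne Z htt h1 (mul_eq_right.1 e1)))
    (by rw [← map_mul, ← map_mul, show S * Z = U * S from Subtype.ext hsz])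
    (by rw [← map_mul, ← map_mul, ← map_mul, show S * U = Z * U * S from Subtype.ext hsu])
    (phi_three φ (Subtype.ext hs3))
    (by rw [← map_mul, ← map_mul, ← map_mul, show V * S * V * S = Y * U from Subtype.ext htw, map_mul, hφy, one_mul])
    (by
      rw [← map_mul, ← map_mul, show R0 * Z = V * R0 from Subtype.ext (by
        show x * s * x * t = v * (x * s * x)
        calc x * s * x * t = x * (s * (x * t * x)) * x := by
              rw [show x * (s * (x * t * x)) * x = x * s * x * t * (x * x) by group, hxx, mul_one]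
          _ = x * (u * s) * x := by rw [hxz, hsz]
          _ = x * u * x * (x * s * x) := by
              rw [show x * u * x * (x * s * x) = x * u * (x * x) * s * x by group, hxx, mul_one]; group
          _ = v * (x * s * x) := by rw [hxu])])
    (by
      rw [← map_mul, ← map_mul, ← map_mul, show R0 * V = Z * V * R0 from Subtype.ext (by
        show x * s * x * v = t * v * (x * s * x)
        calc x * s * x * v = x * (s * (x * v * x)) * x := by
              rw [show x * (s * (x * v * x)) * x = x * s * x * v * (x * x) by group, hxx, mul_one]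
          _ = x * (t * u * s) * x := by rw [hxv, hsu]
          _ = x * t * x * (x * u * x) * (x * s * x) := by
              rw [show x * t * x * (x * u * x) * (x * s * x) = x * t * (x * x) * u * (x * x) * s * x by group, hxx, mul_one,
                mul_one]; group
          _ = t * v * (x * s * x) := by rw [hxz, hxu])])
    (phi_three φ (Subtype.ext (by
      show x * s * x * (x * s * x) * (x * s * x) = 1
      rw [show x * s * x * (x * s * x) * (x * s * x) = x * s * (x * x) * s * (x * x) * s * x by group, hxx, mul_one, mul_one,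
        mul_assoc x s s, mul_assoc x (s * s) s, hs3, mul_one, hxx])))
    (by
      have e := hκ (V * S * V * S) U (by
        rw [show V * S * V * S = Y * U from Subtype.ext htw, map_mul, hφy, one_mul])
      have eV : κ V = U := Subtype.ext hxv
      have eU : κ U = V := Subtype.ext hxu
      simp only [map_mul, eV, eU] at e
      exact e)
  -- no element inverting `y` fixes an element of order three
  have hnofix : ∀ g : G, g * y * g⁻¹ = y * y → ∀ a : H, (a : G) * a * a = 1 → g * (a : G) = a * g → φ a = 1 := by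
    intro g hgy a ha hga
    by_contra ha1
    let k : H := ⟨g * x, hmem (by
      have e : g * (y * y) = y * g := by
        calc g * (y * y) = g * y * g⁻¹ * (g * y * g⁻¹) * g := by group
          _ = y * g := by rw [hgy, hy2y]
      calc g * x * y = g * (x * y * x) * x := by
            rw [show g * (x * y * x) * x = g * x * y * (x * x) by group, hxx, mul_one]
        _ = y * (g * x) := by rw [hxy, e]; group)⟩
    have hconj : a = k * κ a * k⁻¹ := Subtype.ext (by
      show (a : G) = g * x * (x * (a : G) * x) * (g * x)⁻¹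
      rw [show g * x * (x * (a : G) * x) * (g * x)⁻¹ = g * (x * x) * (a : G) * g⁻¹ by group, hxx, mul_one, hga,
        mul_inv_cancel_right])
    have hsame : LocalSix.hasFix (φ a) ↔ LocalSix.hasFix (φ (κ a)) := by
      conv_lhs => rw [hconj, map_mul, map_mul, map_inv, LocalSix.hasFix_conj]
    have ha3 : a * a * a = 1 := Subtype.ext ha
    have key : ∀ b : H, b * b * b = 1 → φ b ≠ 1 → (LocalSix.hasFix (φ a) ↔ LocalSix.hasFix (φ b)) →
        (LocalSix.hasFix (φ (κ a)) ↔ LocalSix.hasFix (φ (κ b))) := by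
      intro b hb hb1 hiff
      obtain ⟨g', hg'⟩ := LocalSix.conj_of_hasFix (phi_three φ ha3) ha1 (phi_three φ hb) hb1 hiff
      obtain ⟨k', rfl⟩ := hφ g'
      have e := hκ (k' * a * k'⁻¹) b (by rw [map_mul, map_mul, map_inv, hg'])
      rw [map_mul, map_mul, map_inv, map_mul, map_mul, map_inv] at e
      rw [← e, LocalSix.hasFix_conj]
    have hS3' : S * S * S = 1 := Subtype.ext hs3
    have hR3 : R0 * R0 * R0 = 1 := by
      show κ S * κ S * κ S = 1
      rw [← map_mul, ← map_mul, hS3', map_one]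
    have hS1 : φ S ≠ 1 := fun e => by
      have e1 : φ (S * Z) = φ (U * S) := congrArg φ (Subtype.ext hsz)
      rw [map_mul, map_mul, e, one_mul, mul_one] at e1
      exact hut (h.eq_of_image hker (p := U) (q := Z) huu htt e1.symm)
    have hR1 : φ R0 ≠ 1 := fun e => hS1 (by
      have := hκy R0 e
      rwa [show κ R0 = S from hκκ S] at this)
    by_cases hc : LocalSix.hasFix (φ a) ↔ LocalSix.hasFix (φ S)
    · exact hflip (hc.symm.trans (hsame.trans (key S hS3' hS1 hc)))
    · have hc' : LocalSix.hasFix (φ a) ↔ LocalSix.hasFix (φ R0) := by tauto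
      have := key R0 hR3 hR1 hc'
      rw [show κ R0 = S from hκκ S] at this
      exact hflip ((hc'.symm.trans (hsame.trans this)).symm)
  -- an element of order three is not conjugate to its multiples by `y` inside the centralizer
  have hnotwist : ∀ a : H, (a : G) * a * a = 1 → φ a ≠ 1 → (∃ w : G, w * w = 1 ∧ w ≠ 1 ∧ (a : G) * w = w * a) →
      ∀ b : H, (b : G) * a * (b : G)⁻¹ ≠ a * y := by
    rintro a ha ha1 ⟨w, hw, hw1, haw⟩ b hb
    have hao : orderOf (a : G) = 3 :=
      orderOf_eq_prime (hp := ⟨by norm_num⟩) (by rw [pow_succ, pow_two]; exact ha)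
        (fun e => ha1 (by rw [show a = 1 from Subtype.ext e, map_one]))
    obtain ⟨ψ, hψ, hψk⟩ := h.centralizer_three hone hao hw hw1 haw
    have hya : y * (a : G) = a * y := (hmem' a).symm
    let Ya : Subgroup.centralizer ({(a : G)} : Set G) := ⟨y, mem_centralizer_singleton_iff.2 hya⟩
    obtain ⟨g1, hg1⟩ := LocalSix.real_three (ψ Ya) (phi_three ψ (Subtype.ext (by
      show y * y * y = 1
      rw [← pow_two, ← pow_succ, hy3])))
    obtain ⟨W, rfl⟩ := hψ g1
    have hWa : (W : G) * a = a * W := mem_centralizer_singleton_iff.1 W.2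
    obtain ⟨c, hc⟩ : ∃ c, c = (W : G) * y * (W : G)⁻¹ * y := ⟨_, rfl⟩
    have hca : c ∈ zpowers (a : G) := hc ▸ (hψk (W * Ya * W⁻¹ * Ya)).1 (by
      rw [map_mul, map_mul, map_mul, map_inv, hg1, inv_mul_cancel])
    have ha3 : (a : G) ^ 3 = 1 := hao ▸ pow_orderOf_eq_one _
    obtain ⟨j, hj, hcj⟩ : ∃ j < 3, c = (a : G) ^ j := by
      obtain ⟨i, hi⟩ := hca
      refine ⟨(i % 3).toNat, by omega, ?_⟩
      rw [← hi]
      show (a : G) ^ i = (a : G) ^ (i % 3).toNat
      rw [← zpow_natCast, Int.toNat_of_nonneg (Int.emod_nonneg _ (by norm_num))]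
      conv_lhs => rw [← Int.emod_add_mul_ediv i 3]
      rw [zpow_add, zpow_mul, show (a : G) ^ (3 : ℤ) = 1 by exact_mod_cast ha3, one_zpow, mul_one]
    have hyc : Commute y c := hcj ▸ (show Commute y (a : G) from hya).pow_right j
    have hWc : Commute (W : G) c := hcj ▸ (show Commute (W : G) (a : G) from hWa).pow_right j
    have hc3 : c * c * c = 1 := by
      rw [hcj, ← pow_add, ← pow_add, show j + j + j = 3 * j by omega, pow_mul, ha3, one_pow]
    have hWinv : (W : G) * (y * c) * (W : G)⁻¹ = (y * c)⁻¹ := by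
      have e1 : (W : G) * y * (W : G)⁻¹ = c * y⁻¹ := by rw [hc]; group
      rw [show (W : G) * (y * c) * (W : G)⁻¹ = (W : G) * y * (W : G)⁻¹ * ((W : G) * c * (W : G)⁻¹) by group, e1, hWc.eq,
        mul_inv_cancel_right, mul_inv_rev]
      calc c * y⁻¹ * c = c * c * y⁻¹ := by rw [mul_assoc, (hyc.inv_left).eq, ← mul_assoc]
        _ = c⁻¹ * y⁻¹ := by rw [eq_inv_of_mul_eq_one_left hc3]
    -- a conjugate of the product is `y` or its square
    obtain ⟨g0, -, hg0⟩ := h.pair_conj hone hao hw hw1 haw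
    rw [← hy] at hg0
    have hbya : (b : G) * a * (b : G)⁻¹ = y * a := by rw [hb, hya]
    obtain ⟨g, hg⟩ : ∃ g : G, g * (y * c) * g⁻¹ = y ∨ g * (y * c) * g⁻¹ = y * y := by
      interval_cases j
      · exact ⟨1, Or.inl (by rw [hcj, pow_zero, mul_one, one_mul, inv_one, mul_one])⟩
      · refine ⟨g0 * (b : G)⁻¹, ?_⟩
        have e : g0 * (b : G)⁻¹ * (y * c) * (g0 * (b : G)⁻¹)⁻¹ = g0 * a * g0⁻¹ := by
          rw [hcj, pow_one, ← hbya]; group
        rw [e]
        exact hg0
      · refine ⟨g0 * ((b : G) * b)⁻¹, ?_⟩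
        have hby : (b : G) * y = y * b := hmem' b
        have e2 : (b : G) * b * ((a : G) * a) * ((b : G) * b)⁻¹ = y * ((a : G) * a) := by
          have e1 : (b : G) * b * a * ((b : G) * b)⁻¹ = a * (y * y) := by
            calc (b : G) * b * a * ((b : G) * b)⁻¹ = (b : G) * ((b : G) * a * (b : G)⁻¹) * (b : G)⁻¹ := by group
              _ = (b : G) * (a * y) * (b : G)⁻¹ := by rw [hb]
              _ = (b : G) * a * (b : G)⁻¹ * ((b : G) * y * (b : G)⁻¹) := by group
              _ = a * (y * y) := by rw [hb, hby, mul_inv_cancel_right, mul_assoc]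
          calc (b : G) * b * ((a : G) * a) * ((b : G) * b)⁻¹
              = (b : G) * b * a * ((b : G) * b)⁻¹ * ((b : G) * b * a * ((b : G) * b)⁻¹) := by group
            _ = (a : G) * (y * y * a) * (y * y) := by rw [e1]; group
            _ = (a : G) * a * (y * y * (y * y)) := by
              rw [(show Commute (y * y) (a : G) from Commute.mul_left hya hya).eq]; group
            _ = y * ((a : G) * a) := by rw [hy2y, (show Commute y ((a : G) * a) from Commute.mul_right hya hya).eq]
        have e : g0 * ((b : G) * b)⁻¹ * (y * c) * (g0 * ((b : G) * b)⁻¹)⁻¹ = g0 * a * g0⁻¹ * (g0 * a * g0⁻¹) := by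
          rw [hcj, pow_two, ← e2]; group
        rw [e]
        rcases hg0 with e0 | e0 <;> rw [e0]
        exacts [Or.inr rfl, Or.inl hy2y]
    have hag : g * (a : G) * g⁻¹ * y = y * (g * (a : G) * g⁻¹) := by
      have hc1 : Commute (g * (a : G) * g⁻¹) (g * (y * c) * g⁻¹) := (Commute.conj_iff g).2
        ((show Commute (a : G) y from hya.symm).mul_right (hcj ▸ (Commute.refl (a : G)).pow_right j))
      rcases hg with e | e <;> rw [e] at hc1
      · exact hc1.eq
      · have := hc1.mul_right hc1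
        rwa [hy2y] at this
    have hinv : g * (W : G) * g⁻¹ * y * (g * (W : G) * g⁻¹)⁻¹ = y * y := by
      have hyi : y⁻¹ = y * y := inv_eq_of_mul_eq_one_right (by rw [← mul_assoc, ← pow_two, ← pow_succ, hy3])
      have e1 : g * (W : G) * g⁻¹ * (g * (y * c) * g⁻¹) * (g * (W : G) * g⁻¹)⁻¹ = (g * (y * c) * g⁻¹)⁻¹ := by
        rw [show g * (W : G) * g⁻¹ * (g * (y * c) * g⁻¹) * (g * (W : G) * g⁻¹)⁻¹ =
          g * ((W : G) * (y * c) * (W : G)⁻¹) * g⁻¹ by group, hWinv]; group
      rcases hg with e | e <;> rw [e] at e1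
      · rw [e1, hyi]
      · have hq : g * (W : G) * g⁻¹ * (y * y * (y * y)) * (g * (W : G) * g⁻¹)⁻¹ = (y * y)⁻¹ * (y * y)⁻¹ := by
          rw [← e1]; group
        rw [hy2y] at hq
        rw [hq, ← mul_inv_rev, hy2y, hyi]
    have hφa := hnofix _ hinv ⟨g * (a : G) * g⁻¹, hmem hag⟩ (by
        show g * (a : G) * g⁻¹ * (g * (a : G) * g⁻¹) * (g * (a : G) * g⁻¹) = 1
        rw [show g * (a : G) * g⁻¹ * (g * (a : G) * g⁻¹) * (g * (a : G) * g⁻¹) = g * ((a : G) * a * a) * g⁻¹ by group, ha,
          mul_one, mul_inv_cancel]) (by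
        show g * (W : G) * g⁻¹ * (g * (a : G) * g⁻¹) = g * (a : G) * g⁻¹ * (g * (W : G) * g⁻¹)
        rw [show g * (W : G) * g⁻¹ * (g * (a : G) * g⁻¹) = g * ((W : G) * a) * g⁻¹ by group, hWa]; group)
    obtain ⟨m, hm⟩ : g * (a : G) * g⁻¹ ∈ zpowers (g * (y * c) * g⁻¹) := by
      have h1 : g * (a : G) * g⁻¹ ∈ zpowers y := hy ▸ (hker _).1 hφa
      refine (zpowers_le.2 ?_) h1
      rcases hg with e | e <;> rw [e]
      · exact mem_zpowers y
      · refine ⟨2, ?_⟩
        show (y * y) ^ (2 : ℤ) = y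
        rw [zpow_two, hy2y]
    change (g * (y * c) * g⁻¹) ^ m = _ at hm
    rw [conj_zpow] at hm
    have hm' := mul_left_cancel (mul_right_cancel hm)
    -- compare with the images
    have hyca : (a : G) = y ^ m * ((a : G) ^ j) ^ m := by rw [← hcj, ← hyc.mul_zpow, hm']
    by_cases hjm : ((j : ℤ) * m) % 3 = 1
    · have h1 : ((a : G) ^ j) ^ m = a := by
        rw [← zpow_natCast (a : G) j, ← zpow_mul]
        conv_lhs => rw [← Int.emod_add_mul_ediv ((j : ℤ) * m) 3]
        rw [hjm, zpow_add, zpow_mul, show (a : G) ^ (3 : ℤ) = 1 by exact_mod_cast ha3, one_zpow, mul_one, zpow_one]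
      rw [h1] at hyca
      have hd := orderOf_dvd_iff_zpow_eq_one.2 (mul_eq_right.1 hyca.symm)
      rw [hyo] at hd
      obtain ⟨q, rfl⟩ := hd
      rw [← mul_assoc, mul_comm (j : ℤ), mul_assoc] at hjm
      simp at hjm
    · refine ha1 ?_
      have h1 : φ a = φ a ^ ((j : ℤ) * m) := by
        have e : a = Y ^ m * (a ^ j) ^ m := Subtype.ext (by push_cast; exact hyca)
        conv_lhs => rw [e, map_mul, map_zpow, hφy, one_zpow, one_mul, map_zpow, map_pow, ← zpow_natCast, ← zpow_mul]
      have hp : φ a ^ (3 : ℤ) = 1 := by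
        rw [zpow_ofNat, pow_succ, pow_two]; exact phi_three φ (Subtype.ext ha)
      conv_rhs at h1 => rw [← Int.emod_add_mul_ediv ((j : ℤ) * m) 3, zpow_add, zpow_mul, hp, one_zpow, mul_one]
      have h0 := Int.emod_nonneg ((j : ℤ) * m) (show (3 : ℤ) ≠ 0 by norm_num)
      have h2 := Int.emod_lt_of_pos ((j : ℤ) * m) (show (0 : ℤ) < 3 by norm_num)
      generalize ((j : ℤ) * m) % 3 = k at *
      interval_cases k
      · simpa using h1
      · exact absurd rfl hjm
      · rw [zpow_two] at h1
        exact mul_eq_left.1 h1.symm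
  -- the Sylow subgroup
  haveI : Fact (Nat.Prime 3) := ⟨by norm_num⟩
  have hyc : ∀ a : H, (a : G) * y = y * a := hmem'
  have hHc : Nat.card H = 1080 := by
    have e := φ.ker.card_mul_index
    rw [show φ.ker = (zpowers (ρ 32)).subgroupOf H from Subgroup.ext fun a => by
      rw [MonoidHom.mem_ker, mem_subgroupOf]; exact hker a] at e
    rw [Nat.card_congr (subgroupOfEquivOfLe (zpowers_le.2 (hmem (by rw [hy])) : zpowers (ρ 32) ≤ H)).toEquiv,
      Nat.card_zpowers, h.order_y, show (zpowers (ρ 32)).subgroupOf H = φ.ker from Subgroup.ext fun a => by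
        rw [MonoidHom.mem_ker, mem_subgroupOf]; exact (hker a).symm,
      Subgroup.index_ker, MonoidHom.range_eq_top.2 hφ, Subgroup.card_top, nat_card_alternatingGroup, Nat.card_fin] at e
    rw [← e]
    rfl
  have hS3 : (S : G) ^ 3 = 1 := by rw [pow_succ, pow_two]; exact hs3
  have hSp : IsPGroup 3 (zpowers S) := fun ⟨a, i, hi⟩ => ⟨1, Subtype.ext (by
    subst hi
    show (S ^ i) ^ 3 ^ 1 = 1
    rw [pow_one, ← zpow_natCast, zpow_comm, zpow_natCast, show S ^ 3 = 1 from Subtype.ext hS3, one_zpow])⟩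
  obtain ⟨R, hR⟩ := hSp.exists_le_sylow
  have hSR : S ∈ (R : Subgroup H) := hR (mem_zpowers S)
  haveI hYn : (zpowers Y).Normal := ⟨fun n hn g => by
    obtain ⟨i, rfl⟩ := hn
    refine ⟨i, ?_⟩
    show Y ^ i = g * Y ^ i * g⁻¹
    rw [(Commute.zpow_right (show Commute g Y from Subtype.ext (hmem' g)) i).eq, mul_inv_cancel_right]⟩
  have hY3 : Y ^ 3 = 1 := Subtype.ext hy3
  have hYR : Y ∈ (R : Subgroup H) := (IsPGroup.le_sylow_of_normal (N := zpowers Y) (fun ⟨a, i, hi⟩ => ⟨1, Subtype.ext (by
    subst hi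
    show (Y ^ i) ^ 3 ^ 1 = 1
    rw [pow_one, ← zpow_natCast, zpow_comm, zpow_natCast, hY3, one_zpow])⟩) R) (mem_zpowers Y)
  have hR27 : Nat.card (R : Subgroup H) = 27 := by
    rw [R.card_eq_multiplicity, hHc, show (1080 : ℕ) = 3 ^ 3 * 40 from rfl, Nat.factorization_mul (by norm_num) (by norm_num),
      Finsupp.add_apply, Nat.Prime.factorization_pow (by norm_num), Finsupp.single_eq_same,
      Nat.factorization_eq_zero_of_not_dvd (by norm_num)]
    norm_num
  have hφS : φ S ≠ 1 := fun e => by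
    have e1 : φ (S * Z) = φ (U * S) := congrArg φ (Subtype.ext hsz)
    rw [map_mul, map_mul, e, one_mul, mul_one] at e1
    exact hut (h.eq_of_image hker (p := U) (q := Z) huu htt e1.symm)
  have hT : ∃ w : G, w * w = 1 ∧ w ≠ 1 ∧ (S : G) * w = w * S :=
    ⟨ρ tc, by rw [← h.mul_eq, mul_facts.2.2.2.1, h.zero],
      fun e => absurd (h.inj tc (by norm_num [tc]) e) (by norm_num [tc]), hsT⟩
  have hcom : ∀ b ∈ (R : Subgroup H), b * S = S * b := by
    intro b hb
    have himg : φ b * φ S = φ S * φ b := by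
      obtain ⟨k, hk⟩ := IsPGroup.iff_card.1 (R.isPGroup'.map φ)
      have hd := Subgroup.card_subgroup_dvd_card ((R : Subgroup H).map φ)
      rw [hk, nat_card_alternatingGroup, Nat.card_fin] at hd
      have hk2 : k ≤ 2 := by
        by_contra hk3
        exact absurd ((pow_dvd_pow 3 (show 3 ≤ k by omega)).trans hd) (by norm_num [Nat.factorial])
      have hcomm : IsMulCommutative ((R : Subgroup H).map φ) := by
        rcases (by omega : k = 0 ∨ k = 1 ∨ k = 2) with rfl | rfl | rfl
        · haveI : Subsingleton ((R : Subgroup H).map φ) := (Nat.card_eq_one_iff_unique.1 (by simpa using hk)).1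
          exact ⟨⟨fun a b => Subsingleton.elim _ _⟩⟩
        · haveI : IsCyclic ((R : Subgroup H).map φ) := isCyclic_of_prime_card (p := 3) (by simpa using hk)
          exact ⟨⟨fun a b => IsCyclic.commGroup.mul_comm a b⟩⟩
        · exact ⟨⟨fun a b => (IsPGroup.commGroupOfCardEqPrimeSq hk).mul_comm a b⟩⟩
      exact congrArg Subtype.val (hcomm.is_comm.comm (⟨φ b, mem_map_of_mem φ hb⟩ : (R : Subgroup H).map φ)
        ⟨φ S, mem_map_of_mem φ hSR⟩)
    obtain ⟨i, hi, hie⟩ := h.y_zpowers ((hker (S⁻¹ * (b * S * b⁻¹))).1 (by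
      rw [map_mul, map_mul, map_mul, map_inv, map_inv, himg, mul_inv_cancel_right, inv_mul_cancel]))
    have hbs : (b : G) * s * (b : G)⁻¹ = s * ρ (32 * i) := by
      rw [← hie]
      show (b : G) * s * (b : G)⁻¹ = s * (s⁻¹ * ((b : G) * s * (b : G)⁻¹))
      group
    interval_cases i
    · refine Subtype.ext (mul_inv_eq_iff_eq_mul.1 ?_)
      show (b : G) * s * (b : G)⁻¹ = s
      rw [hbs, Nat.mul_zero, h.zero, mul_one]
    · exact absurd (by rw [hbs, hy] : (b : G) * (S : G) * (b : G)⁻¹ = S * y) (hnotwist S hs3 hφS hT b)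
    · refine absurd ?_ (hnotwist S hs3 hφS hT (b * b))
      have hbs' : (b : G) * s * (b : G)⁻¹ = s * (y * y) := by rw [hbs, hy, ← h.sixty_four]
      show (b : G) * b * s * ((b : G) * b)⁻¹ = s * y
      calc (b : G) * b * s * ((b : G) * b)⁻¹ = (b : G) * ((b : G) * s * (b : G)⁻¹) * (b : G)⁻¹ := by group
        _ = (b : G) * (s * (y * y)) * (b : G)⁻¹ := by rw [hbs']
        _ = (b : G) * s * (b : G)⁻¹ * ((b : G) * (y * y) * (b : G)⁻¹) := by group
        _ = s * (y * y) * (y * y) := by
          rw [hbs', (show Commute (b : G) (y * y) from Commute.mul_right (hmem' b) (hmem' b)).eq, mul_inv_cancel_right]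
        _ = s * y := by rw [mul_assoc, hy2y]
  have hRab : ∀ a b : (R : Subgroup H), a * b = b * a := by
    have hz : ∀ w : (R : Subgroup H), (∀ b : (R : Subgroup H), b * w = w * b) → w ∈ Subgroup.center (R : Subgroup H) :=
      fun w hw => mem_center_iff.2 hw
    have hcy := hz ⟨Y, hYR⟩ fun b => Subtype.ext (Subtype.ext (hmem' b))
    have hcs := hz ⟨S, hSR⟩ fun b => Subtype.ext (hcom b b.2)
    have hd := Subgroup.card_subgroup_dvd_card (Subgroup.center (R : Subgroup H))
    rw [hR27] at hd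
    have h9 : 3 < Nat.card (Subgroup.center (R : Subgroup H)) := by
      by_contra hle
      push Not at hle
      let L : Fin 4 → H := ![1, Y, Y * Y, S]
      have hL : ∀ i, ∃ c ∈ Subgroup.center (R : Subgroup H), ((c : (R : Subgroup H)) : H) = L i := by
        intro i
        fin_cases i
        · exact ⟨1, one_mem _, rfl⟩
        · exact ⟨_, hcy, rfl⟩
        · exact ⟨_, mul_mem hcy hcy, rfl⟩
        · exact ⟨_, hcs, rfl⟩
      choose c hc hce using hL
      have hY1 : Y ≠ 1 := fun e => by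
        have : y = 1 := congrArg Subtype.val e
        rw [this, orderOf_one] at hyo
        omega
      have hYY1 : Y * Y ≠ 1 := fun e => hY1 (by rwa [pow_succ, pow_two, e, one_mul] at hY3)
      have hYY : Y * Y ≠ Y := fun e => hY1 (mul_eq_left.1 e)
      have hS1 : S ≠ 1 := fun e => hφS (by rw [e, map_one])
      have hSY : S ≠ Y := fun e => hφS (by rw [e, hφy])
      have hSYY : S ≠ Y * Y := fun e => hφS (by rw [e, map_mul, hφy, one_mul])
      have hLi : Function.Injective L := by
        intro i j hij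
        fin_cases i <;> fin_cases j <;> first
          | rfl
          | (exfalso; first
              | exact hY1 hij | exact hY1 hij.symm | exact hYY1 hij | exact hYY1 hij.symm | exact hYY hij
              | exact hYY hij.symm | exact hS1 hij | exact hS1 hij.symm | exact hSY hij | exact hSY hij.symm
              | exact hSYY hij | exact hSYY hij.symm)
      have := Nat.card_le_card_of_injective (fun i => (⟨c i, hc i⟩ : Subgroup.center (R : Subgroup H))) fun i j e =>
        hLi (by rw [← hce i, ← hce j, show c i = c j from congrArg Subtype.val e])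
      rw [Nat.card_eq_fintype_card, Fintype.card_fin] at this
      omega
    haveI : IsCyclic ((R : Subgroup H) ⧸ Subgroup.center (R : Subgroup H)) := by
      have h1 := (Subgroup.center (R : Subgroup H)).card_mul_index
      rw [hR27, Subgroup.index_eq_card] at h1
      have hle := Nat.le_of_dvd (by norm_num) hd
      generalize hn : Nat.card (Subgroup.center (R : Subgroup H)) = n at *
      have : n = 9 ∨ n = 27 := by interval_cases n <;> omega
      rcases this with rfl | rfl
      · exact isCyclic_of_prime_card (p := 3) (by omega)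
      · haveI : Subsingleton ((R : Subgroup H) ⧸ Subgroup.center (R : Subgroup H)) :=
          (Nat.card_eq_one_iff_unique.1 (by omega)).1
        exact isCyclic_of_subsingleton
    intro a b
    exact commutative_of_cyclic_center_quotient (QuotientGroup.mk' (Subgroup.center (R : Subgroup H)))
      (by rw [QuotientGroup.ker_mk']) a b
  letI : CommGroup (R : Subgroup H) := { (inferInstance : Group (R : Subgroup H)) with mul_comm := hRab }
  let lam : H →* (R : Subgroup H) := MonoidHom.transfer (MonoidHom.id (R : Subgroup H))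
  have hidx : (R : Subgroup H).index = 40 := by
    have := (R : Subgroup H).card_mul_index
    rw [hR27, hHc] at this
    omega
  have hlam : ∀ a : H, φ a = 1 → ((lam a : (R : Subgroup H)) : H) = a := by
    intro a ha
    have hy0 := (hker a).1 ha
    have hac : ∀ b : H, Commute a b := fun b => Subtype.ext (by
      obtain ⟨i, hi⟩ := hy0
      change ρ 32 ^ i = _ at hi
      show (a : G) * b = b * a
      rw [← hi, ← hy]
      exact ((show Commute y (b : G) from (hmem' b).symm).zpow_left i).eq)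
    rw [MonoidHom.transfer_eq_pow (MonoidHom.id (R : Subgroup H)) a fun k g0 _ => by
      rw [mul_assoc, ((hac g0).pow_left k).eq, inv_mul_cancel_left]]
    show a ^ (R : Subgroup H).index = a
    rw [hidx, show (40 : ℕ) = 3 * 13 + 1 from rfl, pow_succ, pow_mul,
      show a ^ 3 = 1 from Subtype.ext (hyp hy0), one_pow, one_mul]
  let ν : H →* (R : Subgroup H) := lam * lam.comp κ
  have hν : ∀ a, ν a = 1 := by
    have hνy : ∀ a : H, φ a = 1 → ν a = 1 := by
      intro a ha
      refine Subtype.ext ?_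
      show ((lam a : (R : Subgroup H)) : H) * ((lam (κ a) : (R : Subgroup H)) : H) = 1
      rw [hlam a ha, hlam _ (hκy a ha)]
      obtain ⟨i, hi⟩ := (hker a).1 ha
      change ρ 32 ^ i = _ at hi
      refine Subtype.ext ?_
      show (a : G) * (x * (a : G) * x) = 1
      rw [← hi, ← hy]
      rw [show x * y ^ i * x = x * y ^ i * x⁻¹ by rw [hxi]]
      rw [← conj_zpow, hxi, hxy, ← (show Commute y (y * y) from (Commute.refl y).mul_right (Commute.refl y)).mul_zpow,
        ← mul_assoc, ← pow_two, ← pow_succ, hy3, one_zpow]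
    haveI : IsSimpleGroup (alternatingGroup (Fin 6)) := alternatingGroup.isSimpleGroup (by simp)
    haveI hn : (ν.ker.map φ).Normal := Subgroup.Normal.map inferInstance φ hφ
    rcases hn.eq_bot_or_eq_top with hb | ht'
    · exfalso
      obtain ⟨p, q, hpq⟩ := LocalSix.noncomm
      obtain ⟨p, rfl⟩ := hφ p
      obtain ⟨q, rfl⟩ := hφ q
      refine hpq ?_
      have h1 : p * q * (q * p)⁻¹ ∈ ν.ker := by
        rw [MonoidHom.mem_ker, map_mul, map_inv, map_mul, map_mul, mul_comm (ν p) (ν q), mul_inv_cancel]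
      have h2 : φ (p * q * (q * p)⁻¹) = 1 := mem_bot.1 (hb ▸ mem_map_of_mem φ h1)
      rwa [map_mul, map_inv, mul_inv_eq_one, map_mul, map_mul] at h2
    · intro a
      obtain ⟨k, hk, hke⟩ : φ a ∈ ν.ker.map φ := ht' ▸ mem_top _
      have h1 := hνy (k⁻¹ * a) (by rw [map_mul, map_inv, hke, inv_mul_cancel])
      rwa [map_mul, map_inv, MonoidHom.mem_ker.1 hk, inv_one, one_mul] at h1
  have hmu : lam S * lam R0 = 1 := hν S
  have hfin : ∀ a : H, φ a = 1 → lam a = 1 → (a : G) = 1 := fun a h1 h2 => by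
    have := hlam a h1
    rw [h2] at this
    exact congrArg Subtype.val this.symm
  refine ⟨?_, ?_⟩
  · have e := hfin ((R0 * S) ^ 5) (by rw [map_pow, map_mul]; exact hP5)
      (by rw [map_pow, map_mul, mul_comm, hmu, one_pow])
    rw [← hx]
    exact e
  · have e := hfin ((S * (V * R0 * V)) ^ 4) (by rw [map_pow, map_mul, map_mul, map_mul]; exact hP4)
      (by
        rw [map_pow, map_mul, map_mul, map_mul, mul_comm (lam V) (lam R0), mul_assoc (lam R0), ← map_mul lam V V,
          show V * V = 1 from Subtype.ext hvv, map_one, mul_one, hmu, one_pow])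
    have hvi : v⁻¹ = v := inv_eq_of_mul_eq_one_right hvv
    rw [← c386, h.mul_eq, ← hv, ← hx, mul_inv_rev, hxi, hvi,
      show s * (v * x) * s * (x * v) = s * (v * (x * s * x) * v) by group]
    exact e

end Chart

theorem exists_rels {G : Type v} [Group G] [Finite G] [IsSimpleGroup G] (t : G) (ht : orderOf t = 2)
    (E : Subgroup (Subgroup.centralizer ({t} : Set G))) [E.Normal] (hX : Cfsg.IsExtraspecial 2 E)
    (hE : Nat.card E = 32) (e : (Subgroup.centralizer ({t} : Set G)) ⧸ E ≃* alternatingGroup (Fin 5))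
    (hone : ∀ x y : G, orderOf x = 2 → orderOf y = 2 → IsConj x y) :
    ∃ (ρ : ℕ → G) (s : G), Rels t ρ s := by
  obtain ⟨ρ0, h0⟩ := exists_chart_of_simple t ht E hX hE e hone
  obtain ⟨s0, B⟩ := h0.exists_base hone
  obtain ⟨ρ, s, F⟩ := B.exists_frame
  have hc : Chart t ρ := ⟨F.mul_eq, F.zero, F.zc_eq, F.inj, fun a => mem_centralizer_singleton_iff.1 (F.mem a), F.mod_eq,
    fun g hg => F.surj g (mem_centralizer_singleton_iff.2 hg)⟩
  obtain ⟨h5, h4⟩ := hc.local_rels hone F
  exact ⟨ρ, s, ⟨F, h5, h4⟩⟩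

end Cfsg.Agent.J3Uniq.Local

namespace Cfsg.Agent.J3Uniq

universe w

theorem local_holds : Cfsg.Agent.J3Uniq.Local.{w} :=
  fun t ht Q _ hX hQ _ _ e hone => Local.exists_rels t ht Q hX hQ e hone

end Cfsg.Agent.J3Uniq
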