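import Cfsg.Agent.Lib.J3Uniq.Finish
import Cfsg.Agent.Lib.J3Uniq.Odd
import Cfsg.Agent.Lib.J3.CentComp
import Cfsg.Agent.Lib.J3Uniq.Assemble
import Cfsg.Agent.Lib.J3.Unitary

/-!
A group with the centraliser of an involution of `J₃` type, one class of involutions and the two relations is the
third Janko group.
-/

set_option autoImplicit false
set_option linter.all false

namespace Cfsg.Agent.J3Uniq.Finish

open Cfsg.Spor
open Cfsg.Agent.Lib.J3 (Fld)

universe v

/-- A group with a frame satisfying the relations and one class of involutions is the third Janko group. -/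
theorem isoJ3_of_rels {G : Type v} [Group G] [Finite G] {t : G} (ht : orderOf t = 2) {ρ : ℕ → G} {s : G}
    (R : Rels t ρ s) (hone : ∀ x y : G, orderOf x = 2 → orderOf y = 2 → IsConj x y) : Cfsg.Spor.IsoJ3 G := by
  obtain ⟨F, iF, iT, ω, hF, hω⟩ := Lib.J3.exists_fld
  have h : Fld F ω := Fld.of_card hF hω
  obtain ⟨M, hρ, hs, ⟨e⟩⟩ := exists_sub R h
  by_cases hM : M = ⊤
  · subst hM
    exact ⟨F, iF, iT, ω, hF, hω, ⟨Subgroup.topEquiv.symm.trans e.symm⟩⟩
  exfalso
  have hC : Subgroup.centralizer ({t} : Set G) ≤ M := fun g hg => by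
    obtain ⟨a, -, rfl⟩ := R.surj g hg; exact hρ a
  have htM : t ∈ M := rho_t R ▸ hρ 16
  have honeM : ∀ u ∈ M, orderOf u = 2 → ∃ m ∈ M, m * t * m⁻¹ = u := by
    intro u hu hu2
    have ord : ∀ x : M, orderOf (x : G) = 2 → orderOf (e.symm x) = 2 := fun x hx => by
      rw [MulEquiv.orderOf_eq, ← Subgroup.orderOf_coe]; exact hx
    obtain ⟨c, hc⟩ := isConj_iff.1 ((Lib.J3.Cent.conj_zJ h _ (ord ⟨t, htM⟩ ht)).symm.trans
      (Lib.J3.Cent.conj_zJ h _ (ord ⟨u, hu⟩ hu2)))
    refine ⟨e c, (e c).2, ?_⟩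
    have h1 := congrArg (fun x => ((e x : M) : G)) hc
    simpa using h1
  obtain ⟨H, hle, hodd, hcard⟩ := Odd.exists_odd M hM t htM ht hC hone honeM
  have hCt : Nat.card (Subgroup.centralizer ({t} : Set G)) ≤ 1920 := by
    refine (Nat.card_le_card_of_surjective
      (fun i : Fin 1920 => (⟨ρ i, R.mem i⟩ : Subgroup.centralizer ({t} : Set G))) ?_).trans_eq (Nat.card_fin _)
    rintro ⟨g, hg⟩
    obtain ⟨a, ha, rfl⟩ := R.surj g hg
    exact ⟨⟨a, ha⟩, rfl⟩
  have hH : Nat.card ((H.subgroupOf M).map e.symm.toMonoidHom) = Nat.card H :=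
    (Subgroup.card_map_of_injective e.symm.injective).trans
      (Nat.card_congr (Subgroup.subgroupOfEquivOfLe hle).toEquiv)
  have h1 := Odd.odd_le hF h ((H.subgroupOf M).map e.symm.toMonoidHom) (hH.symm ▸ hodd)
  rw [hH] at h1
  rw [← Nat.card_congr e.toEquiv, h.card_J3] at hcard
  have := hcard.trans (Nat.mul_le_mul h1 hCt)
  omega

end Cfsg.Agent.J3Uniq.Finish

namespace Cfsg.Agent.J3Uniq

universe u

/-- Uniqueness, given the local analysis. -/
theorem uniqueness (L : Local.{u}) : Assemble.Uniqueness.{u} := by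
  intro G _ _ _ t ht Q _ hQ hcard hminus h2c e hone
  obtain ⟨ρ, s, R⟩ := L t ht Q hQ hcard hminus h2c e hone
  exact Finish.isoJ3_of_rels ht R hone

end Cfsg.Agent.J3Uniq
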