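import Cfsg.Agent.Lib.J3.CentChecks
import Cfsg.Agent.Lib.J3Uniq.ModelData
import Cfsg.Agent.Lib.J2Uniq.Model

/-!
Kernel checks for a frame in the model of the third Janko group.
-/

set_option autoImplicit false
set_option maxRecDepth 100000

namespace Cfsg.Agent.J3Uniq.Model

open Cfsg.Agent.Lib.J3

/-- The matrix of a code. -/
def rc (a : ℕ) : ℕ := getM MData.rhoTab a

/-- The three generating codes. -/
def g3 (k : ℕ) : ℕ := [2, 416, 928].getD k 0

/-- The matrix of the element of order three. -/
def sc : ℕ := dval (MData.trips.getD 3 0)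

/-- The code in a position. -/
def ord (j : ℕ) : ℕ := tab 11 MData.order j

/-- The tree of codes. -/
def treeOk : Bool :=
  (List.range 3).all (fun k => dok (MData.trips.getD k 0) && Nat.beq (rc (g3 k)) (dval (MData.trips.getD k 0))) &&
    dok (MData.trips.getD 3 0) && Nat.beq (rc 0) idM && Nat.beq (ord 0) 0 && Nat.beq (rc 16) Cent.zc &&
    (List.range 1920).all (fun a => Nat.blt (tab 11 MData.posTab a) 1920 && Nat.beq (ord (tab 11 MData.posTab a)) a) &&
    (List.range 1919).all (fun j =>
      let p := tab 13 MData.parent (j + 1)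
      Nat.blt (p / 4) (j + 1) && Nat.blt (p % 4) 3 &&
        Nat.beq (ord (j + 1)) (J2Uniq.mul (g3 (p % 4)) (ord (p / 4))))

theorem treeOk_eq : treeOk = true := by decide +kernel

/-- Left multiplication by a generator. -/
def leftOk (k : ℕ) : Bool :=
  (List.range 1920).all fun a => Nat.beq (rc (J2Uniq.mul (g3 k) a)) (mul (rc (g3 k)) (rc a))

theorem leftOk_0 : leftOk 0 = true := by decide +kernel

theorem leftOk_1 : leftOk 1 = true := by decide +kernel

theorem leftOk_2 : leftOk 2 = true := by decide +kernel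

/-- Injectivity modulo scalars, and the action of the element of order three. -/
def actOk : Bool :=
  (List.range 1920).all fun a =>
    (Nat.beq a 0 || (List.range 3).all fun s => !Nat.beq (rc a) (scal s)) &&
      Nat.beq (J2Uniq.mul 16 a) (J2Uniq.mul a 16) &&
      (!J2Uniq.inCU a || Nat.beq (mul sc (rc a)) (mul (rc (J2Uniq.phi a)) sc))

theorem actOk_eq : actOk = true := by decide +kernel

/-- A power. -/
def pw (m : ℕ) : ℕ → ℕ
  | 0 => idM
  | n + 1 => mul m (pw m n)

theorem rels_eq : mul (mul sc sc) sc = idM ∧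
    mul (rc J2Uniq.ec) (mul sc (mul (rc J2Uniq.ec) sc)) = mul (scal 1) (rc J2Uniq.cc) ∧
    pw (mul (rc 384) (mul sc (mul (rc 384) sc))) 5 = scal 2 ∧
    pw (mul sc (mul (rc 386) (mul sc (rc (J2Uniq.inv 386))))) 4 = scal 1 := by decide +kernel

/-- A letter. -/
def lc (k : ℕ) : ℕ := if k = 3 then sc else rc (g3 k)

/-- The generators of the model as words. -/
def wordsOk : Bool :=
  (List.range 6).all fun j =>
    let e := MData.words.getD j ([], 0, 0)
    e.1.all (fun k => Nat.blt k 4) && Nat.blt e.2.1 1920 &&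
      Nat.beq (if Nat.blt j 5 then hg (j + 1) else tr 1) (mul (scal e.2.2) (mul (mulList (e.1.map lc)) (rc e.2.1)))

theorem wordsOk_eq : wordsOk = true := by decide +kernel

end Cfsg.Agent.J3Uniq.Model
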